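import Cfsg.Agent.FUS.S4.Defs

/-! # Tools for fusion systems on the Sylow subgroup of `Sp₄(q)` -/

set_option autoImplicit false

namespace CL.S4F

open Subgroup Cfsg Cfsg.FusionSystem CL.Fus

section gen
variable {Ω : Type*} [Group Ω] {S : Subgroup Ω} [Finite S] {F : FusionSystem S} {p : ℕ} [Fact p.Prime]

theorem realizable_of_constrained (hS : IsPGroup p S) (h : F.IsConstrained p) : F.IsRealizable p := by
  obtain ⟨G, _, ι, hι⟩ := exists_model hS h
  have := hι.1
  exact isRealizable_of_isRealizedBy hι.2.1 hι.2.2.1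

/-- at most one essential subgroup: constrained -/
theorem constrained_of_unique (hS : IsPGroup p S) (hF : F.IsSaturated p)
    (h : ∀ R R', F.IsEssential p R → F.IsEssential p R' → R = R') : F.IsConstrained p := by
  by_cases hex : ∃ E, F.IsEssential p E
  swap
  · exact ⟨hF, S, isNormal_top_of_no_essential hS hF (not_exists.1 hex), isCentric_top F⟩
  obtain ⟨E, hE⟩ := hex
  refine ⟨hF, E, normal_of_essential hS hF fun R hR => ?_, hE.1⟩
  rcases hR with rfl | hR
  · refine ⟨hE.1.1, fun g hg e => ?_⟩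
    obtain ⟨γ, hγ, e'⟩ := hg.exists_aut e
    have h1 := essential_img_aut hγ hE
    rw [img_congr (e'.mono hE.1.1)] at h1
    exact h _ _ h1 hE
  · obtain rfl := h _ _ hR hE
    exact ⟨le_rfl, fun _ _ e => e⟩

/-- an automorphism of a centric normal subgroup normalizing `Aut_S(P)` extends to `S` -/
theorem exists_ext_top (hS : IsPGroup p S) (hF : F.IsSaturated p) {P : Subgroup Ω} (hP : F.IsCentric P)
    (hn : S ≤ normalizer (P : Set Ω)) {α : MulAut P} (hα : α ∈ F.autGroup P)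
    (h : α ∈ normalizer (autInducedBy S P : Set (MulAut P))) : ∃ f, Mor F S f ∧ Set.EqOn f (autFun α) P := by
  obtain ⟨f, hf, e⟩ := exists_extend_of_isCentric hS hF (mor_autFun hP.1 hα) hP
  exact ⟨f, hf.mono fun s hs => (mem_Nphi_autFun_iff hP.1 hα).2 ⟨hs, hn hs,
    (mem_normalizer_iff.1 h _).1 (cjAut_mem_autInducedBy hs (hn hs))⟩, e⟩

/-- If `N` contains the Sylow subgroup `T` and every element of `T` stabilizes an `N`-invariant chain, then `N`
normalizes `T`. -/
theorem le_normalizer_of_chain {P : Subgroup Ω} [Finite P] (hP : IsPGroup p P) {T H N : Subgroup (MulAut P)}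
    (hT : SylIn p T H) (hTN : T ≤ N) (hNH : N ≤ H)
    (h : ∀ β ∈ T, Relation.ReflTransGen (StabStep p N β) ⊥ P) : N ≤ normalizer (T : Set (MulAut P)) := by
  have hO := hT.eq_of_le ((CL.Fus.map_pCore_le N).trans hNH) (CL.Fus.isPGroup_map_pCore N)
    fun β hβ => mem_pCore_of_chain hP (hTN hβ) le_rfl (h β hβ)
  rw [← hO]
  exact CL.Fus.le_normalizer_map_pCore N

/-- conjugates of elements of `T` by elements of `H` -/
def ncl {G : Type*} [Group G] (T H : Subgroup G) : Subgroup G := closure {α | ∃ γ ∈ H, ∃ β ∈ T, α = γ * β * γ⁻¹}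

theorem le_normalizer_ncl {G : Type*} [Group G] [Finite G] (T H : Subgroup G) :
    H ≤ normalizer (ncl T H : Set G) := fun γ hγ => mem_normalizer_of_cj_mem fun _ hx =>
  (show ncl T H ≤ (ncl T H).comap (MulAut.conj γ).toMonoidHom from (closure_le _).2 (by
    rintro _ ⟨δ, hδ, β, hβ, rfl⟩
    exact subset_closure ⟨γ * δ, mul_mem hγ hδ, β, hβ, by simp [mul_assoc]⟩)) hx

/-- Alperin's theorem with the normal closures of the `Aut_S(R)` as generators -/
theorem chain_ncl (hS : IsPGroup p S) (hF : F.IsSaturated p) {P : Subgroup Ω} {f : Ω → Ω} (hf : Mor F P f) :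
    Chain (fun R g => (R = S ∧ Mor F S g) ∨
      (F.IsEssential p R ∧ ∃ β ∈ ncl (autInducedBy S R) (F.autGroup R), g = autFun β)) P f := by
  refine alperin_chain hS hF (fun R => ncl (autInducedBy S R) (F.autGroup R)) (fun R hR => ?_) hf
  have := finite_of_le hR.1.1
  have h1 : ncl (autInducedBy S R) (F.autGroup R) ≤ F.autGroup R := (closure_le _).2 (by
    rintro _ ⟨δ, hδ, β, hβ, rfl⟩
    exact mul_mem (mul_mem hδ (autInducedBy_le_autGroup F hR.1.1 hβ)) (inv_mem hδ))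
  exact ⟨h1, autGroup_le_extAut_sup_of_normal hS hF hR (fun β hβ => subset_closure ⟨1, one_mem _, β, hβ, by simp⟩) h1
    (le_normalizer_ncl _ _)⟩

end gen

/-- the elements `u` with `g θ(u) g⁻¹ ∈ θ(S)` -/
def PP {S G : Type*} [Group S] [Group G] (θ : S →* G) (g : G) : Subgroup S :=
  (θ.range.comap (MulAut.conj g).toMonoidHom).comap θ

theorem mem_PP {S G : Type*} [Group S] [Group G] {θ : S →* G} {g : G} {u : S} :
    u ∈ PP θ g ↔ cj g (θ u) ∈ θ.range := Iff.rfl

variable {K : Type*} [Field K]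

variable (K) in
/-- the embedding of the additive group of `K` onto `Zx` -/
def jx : Multiplicative K →* U K := MonoidHom.mk' (fun a => zx a.toAdd) fun _ _ => by ext <;> simp

@[simp] theorem jx_apply (a : Multiplicative K) : jx K a = zx a.toAdd := rfl

theorem jx_range : (jx K).range = Zx K :=
  le_antisymm (by rintro _ ⟨a, rfl⟩; exact zx_mem _) fun g hg => ⟨.ofAdd g.x, (eq_zx hg).symm⟩

variable {F : FusionSystem (⊤ : Subgroup (U K))} {p : ℕ} [Finite K] [Fact p.Prime] [CharP K p]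

/-- Sylow subgroup of the automizer of a subgroup containing `B` -/
theorem sylIn_aut (hF : F.IsSaturated p) {P : Subgroup (U K)} (h : BB K ≤ P) :
    SylIn p (autInducedBy ⊤ P) (F.autGroup P) := sylIn_of_fullyNormalized (isPGroup_top p) hF
  (fullyNormalized_of_normal F le_top fun s _ => mem_normalizer_of_BB_le h s)

theorem sylIn_GA (hF : F.IsSaturated p) {P : Subgroup (U K)} (h : BB K ≤ P) (e : P ≃* Multiplicative (K × K × K)) :
    SylIn p ((autInducedBy ⊤ P).map (toGA e)) ((F.autGroup P).map (toGA e)) :=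
  (sylIn_aut hF h).map_of_injective (toGA_injective e)

/-- `Zx` and `B` cannot both be invariant under the automizer of an essential subgroup -/
theorem not_autInv (hF : F.IsSaturated p) {E : Subgroup (U K)} (hE : F.IsEssential p E)
    (hZ : AutInv (F.autGroup E) (Zx K)) (hB : AutInv (F.autGroup E) (BB K)) : False := by
  have hS := isPGroup_top (K := K) p
  obtain ⟨s, -, hn, hs⟩ := exists_mem_normalizer_not_mem hS (lt_of_essential hS hF hE) le_rfl
  refine hs (mem_of_chain hS (centralizerIn_le_of_isCentric hE.1) (isRadical_of_essential hS hF hE) trivial hn le_rfl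
    (.tail (.tail (.single (Or.inl ⟨autInv_bot _, hZ, fun y hy hyZ => ?_⟩)) (Or.inl ⟨hZ, hB, fun y hy hyB => ?_⟩))
      (Or.inl ⟨hB, autInv_of_le _ le_rfl, fun y hy _ => ?_⟩))) <;> rw [autFun_cjAut hn hy]
  · rw [eq_zx hyZ, cj_eq_self_iff.2 (mul_zx _ _), inv_mul_cancel]; exact one_mem _
  · simp [hyB.1, hyB.2]
  · simp

/-- The normal form of a non-constrained system with nontrivial core in characteristic two. -/
structure NF (F : FusionSystem (⊤ : Subgroup (U K))) : Prop where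
  sat : F.IsSaturated 2
  cube : ∀ a : K, a ≠ 0 → a ^ 3 = 1
  sc : F.StronglyClosed (Zx K)
  top : ∀ f, Mor F ⊤ f → ∃ a b l m : K, a ≠ 0 ∧ b ≠ 0 ∧ (∀ g, (f g).t = a * g.t ∧ (f g).z = b * g.z ∧
    (f g).y = a * b * g.y + l * g.z + m * g.t) ∧ ∀ x, f (zx x) = zx (a ^ 2 * b * x)
  tor : ∀ a : K, a ≠ 0 → ∃ f, Mor F ⊤ f ∧ ∀ g, (f g).t = a * g.t ∧ (f g).z = a * g.z
  wA : ∃ ψ, Mor F (AA K) ψ ∧ (∀ x, ψ (zx x) = zx x) ∧ ∀ g ∈ AA K, (ψ g).t = 0 ∧ (ψ g).y = g.z ∧ (ψ g).z = g.y
  wQ : ∃ ψ, Mor F (QQ 0) ψ ∧ (∀ x, ψ (zx x) = zx x) ∧ ∀ g ∈ QQ (0 : K), (ψ g).z = 0 ∧ (ψ g).y = g.t ∧ (ψ g).t = g.y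
  gen : ∀ P f, Mor F P f → Chain (fun R ψ => Mor F R ψ ∧ (R = ⊤ ∨ (∀ x, ψ (zx x) = zx x) ∧
    ∃ a b c d : K, a * d - b * c = 1 ∧
      ((R = AA K ∧ ∀ g ∈ AA K, (ψ g).t = 0 ∧ (ψ g).y = a * g.y + b * g.z ∧ (ψ g).z = c * g.y + d * g.z) ∨
       (R = QQ 0 ∧ ∀ g ∈ QQ (0 : K), (ψ g).z = 0 ∧ (ψ g).y = a * g.y + b * g.t ∧ (ψ g).t = c * g.y + d * g.t)))) P f

end CL.S4F
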