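import Cfsg.Agent.FUS.S4.Beta2

/-!
# S5260, pure lemma for odd `p`

`A = K × K × K`, `τ_u (x,y,z) = (x + 2uy + u²z, y + uz, z)`, `T = {τ_u}` (see `IsTau`), `q = |K|`,
`Z = {(x,0,0)}`, `B = {(x,y,0)}`, `E = {(0,y,0)}`, `V = {(x,0,z)}`; for `g ∈ H`: `T_g = g T g⁻¹` (Sylow in `H`:
`SylIn.conj`), `Z_g = g Z`, `B_g = g B`.  `y0` also denotes `(y0,0,0)`.  Tools: `trick_GA`, `trick_add` (Defs).

PROOF.
(F0) `u ≠ 0`: `Fix τ_u = Z`.  `v ∈ B \ Z`: `u ↦ τ_u v - v` is a bijection `K → Z`; `B = {v | ∀ u, τ_u v - v ∈ Z}`.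
  `v ∉ B`: `u ↦ (τ_u v - v).y` is a bijection.  `y0 ∈ Z_g` for all `g ∈ H` (`hW g⁻¹`), so `T_g` fixes `y0`.
(CH) `X = {k ∈ H | k` trivial on `Z, B/Z, A/B}` is a `p`-group (`(k-1)³ = 0`, so `k^p = 1`; or directly
  `k^n (x,y,z)` by induction) containing `T`, so `X = T` (`SylIn.eq_of_le`).  Hence `Z_g = Z, B_g = B ⇒ T_g = T`.
(NF) Let `δ ∈ H` normalize `T`, fix `Z` pointwise and act as `a` on `B/Z`.  Write `δ τ_t = τ_{φ t} δ`,
  `δ(0,y,0) = (A y, a y, 0)`, `δ(0,0,z) = (b z, c z, e z)`.  Comparing on `(0,y,0)`: `φ t = t/a`; on `(0,0,z)`: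
  `e z = a² z`, `A (t z) = 2 (t/a) c z`, so `c z = c₁ z`, `A y = 2 c₁ y / a`.  With `s = -c₁/a`:
  `δ τ_s (x,y,z) = (x + b' z, a y, a² z)`, `b'` additive.  For `a = -1` the square `(x + 2 b' z, y, z)` lies in `X = T`,
  so `b' = 0`: `d = diag(1,-1,1) ∈ H`, `d τ_u = τ_{-u} d`, and EVERY such `δ` with `a = -1` is `d τ_{-s}`.
  For a generator `ω` of `Kˣ` put `δ = (x + b z, ω y, ω² z) ∈ H`; it commutes with `d`, `δ Z = Z`.
(II.1) `B_g ∩ Z_h ≤ Z_g` for all `g, h ∈ H`: wlog `g = 1`; if `v ∈ B ∩ Z_h \ Z` take `τ v = v + y0`; `T_h` fixes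
  `v, y0`; `trick_GA` gives `y0 = 0`.
(P') no `u ∈ H`, `u ≠ 1`, `u^p = 1` commutes with `d`: `u ∈ T_g` for some `g` (`SylIn.exists_conj_le`), `(u-1)³ = 0`,
  `Fix u = Z_g`, `u E ⊆ E = {v | d v = -v}`, and `E ∩ Z_g ≤ B ∩ Z_g ≤ Z`, `E ∩ Z = 0`; for `e = (0,1,0)`:
  `(u-1)² e ∈ E` is fixed so `0`, then `(u-1) e = 0`, then `e = 0`.
CASE I: `Z_g = Z`, `T_g ≠ T` for some `g`.
  (I.1) `Z_g = Z_h = Z`, `v ∈ B_g ∩ B_h \ Z` ⇒ `T_g = T_h`: wlog `g = 1`; if `w ∈ B_h \ B` take `τ` with `τ w ≡ w + v`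
  mod `Z`; `T_h` fixes `w, v` mod `Z`; `trick_add` with `N = Z` gives `v ∈ Z`.  So `B_h ≤ B`, equal by cardinality; (CH).
  So `B_g ∩ B = Z`; `g(0,1,0) = (x,y,z) ∉ Z`, so `z ≠ 0`; replace `g` by `τ_{-y/z} g`: `v = g(0,1,0) ∈ V`, `d v = v`.
  (I.1) for `g, d g`: `d` normalizes `T_g`, `d B_g = B_g`.  For `t' ∈ T_g`, `t'' = d t' d⁻¹ ∈ T_g` has
  `t'' v - v = d (t' v - v) = t' v - v`, so `t'' = t'` (F0).  (P') forces `T_g = 1`, absurd.
CASE II: `Z_g = Z ⇒ T_g = T`.  By `hn` some `T_g ≠ T`; choose `g₀` with `Z_{g₀} ≠ Z` and `m = |Z ∩ Z_{g₀}|` maximal;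
  then `|Z_g ∩ Z_h| ≤ m` whenever `Z_g ≠ Z_h`.  `Φ = {g ∈ H | Z_g ≠ Z, d Z_g = Z_g}`.
  (a) take `v ∈ Z_{g₀} \ Z`, `v.z ≠ 0` by (II.1); replace `g₀` by `τ g₀` so that `v ∈ V`; then
  `Z_{g₀} ∩ Z_{d g₀} ⊇ (Z ∩ Z_{g₀}) + ⟨v⟩` is too big, so `g₀ ∈ Φ`.
  (b) `g ∈ Φ` ⇒ `Z_g ≤ V` (`v - d v = (0,2y,0) ∈ Z_g ∩ B ≤ Z`).  `d' = g⁻¹ d g` fixes `Z` pointwise, normalizes `T`
  (case II), `d'² = 1`; `d' τ_u d'⁻¹ = τ_{φ u}`, `φ` additive, `φ φ = id`, no fixed point `≠ 0` by (P') (conjugate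
  by `g`), so `φ u = -u`; comparing `d' τ_u = τ_{-u} d'` on `(0,y,0)` (note `d' B = B`): `d'` acts as `-1` on `B/Z`.
  By (NF) `d' = d τ_{-s} = τ_{s/2} d τ_{-s/2}`, so `g' = g τ_{s/2}` COMMUTES with `d` and has the same `Z, B, T`.
  In particular `E = g' E ≤ B_g`.
  (★) `g₁, g₂ ∈ Φ`, `(x,0,z) ∈ Z_{g₁}`, `z ≠ 0`, `t ≠ 0` ⇒ `(x + t² z, 0, z) ∉ Z_{g₂}`: otherwise
  `τ_t (x,0,z) = (x + t² z,0,z) + (0,tz,0) ∈ B_{g₂} ∩ Z_{τ_t g₁} ≤ Z_{g₂} ≤ V`.
  (c) `ω² ≠ 1` (else `K = {0,1,-1}`, `Z = {0,±y0} ≤ Z_{g₀}`).  `θ z = b (z/(ω²-1))`, `x̃(x,y,z) = x - θ z` is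
  `δ`-invariant on `V`.  `δ^k Φ ⊆ Φ`.  For `g ∈ Φ`: `Y_g = Z ∩ Z_g`, `Σ_g = {v.z | v ∈ Z_g} ≠ 0`, `P_g = x̃(Z_g)`.
  (★) with `g₁ = g₂`: `y/z` is a nonsquare for `y ∈ Y_g#`, `z ∈ Σ_g#`; so ratios `z₁/z₂` in `Σ_g#` are squares
  `ω^{2k}`, and (★) for `g, δ^k g` gives `(x̃ v₂ - x̃ v₁)/z₁` zero or a nonsquare; `v₂ = 2 v₁`: `x̃ v/z` is `0` or a
  nonsquare.  So `s/y0` is a square for `s ∈ P_g`, a nonsquare for `s ∈ Σ_g#`: `P_g ∩ Σ_g = 0`, `|P_g||Σ_g| ≤ q = |Z_g|`,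
  hence `Z_g = {v ∈ V | x̃ v ∈ P_g, v.z ∈ Σ_g}`, `P_g = Y_g`, `|Y_g||Σ_g| = q`, and with `A₂ = {(θ z,0,z)}`:
  `Z_g = (Z_g ∩ Z) + (Z_g ∩ A₂)`.  Also `δ Z_g ≠ Z_g`: else `Σ_g` is invariant under all squares, so `= K`
  (`s = ((s+1)/2)² - ((s-1)/2)²`), `|Y_g| = 1`, but `y0 ∈ Y_g`.
  (d) `g = g₀`, commuting with `d` by (b), `Y = Y_g`, `Σ = Σ_g`, `M = Y + g A₂ ≤ V`, `|M| ≤ |Y| q`.  Conjugating (c) by
  `g`: if `Z_h ≠ Z_g`, `d Z_h = Z_h` then `Z_h = (Z_h ∩ Z_g) + (Z_h ∩ g A₂)`.  `h = 1`: `Z ≤ M`, so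
  `M = Z + {z ∈ Σ₀}`, `Σ₀ = {v.z | v ∈ M}`, `|Σ₀| ≤ |Y|`; `M ∩ Z_g = Y` (as `g A₂ ∩ Z_g = 0`), so `Σ₀ ∩ Σ = 0`.
  `h = δ^k g` with `ω^{2k} Σ ≠ Σ`: `Z_h ∩ Z_g ⊇ Y`, so `= Y` by maximality, `Z_h ≤ M`, `ω^{2k} Σ ≤ Σ₀`.  For `ν ∈ Σ#`
  all `s² ν` lie in `Σ ∪ Σ₀`: `(q+1)/2 ≤ |Σ| + |Y| - 1`, `|Σ||Y| = q`, both `≥ 3` ⇒ both `= 3`, `q = 9`, `p = 3`.
  (e) for `h ∈ Φ`: `|Y_h| = |Σ_h| = 3`, `Y_h = {0,±y0} = Y`, `Σ_h = {0,±ν_h}`, `ν_h/ν` a square, so `Σ_h ∈ {Σ, Σ₀}`.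
  So `Ω = {Z_h | d Z_h = Z_h} = {Z, Z' = Z_g, Z'' = δ Z'}`.  `δ` and `δ' = g δ g⁻¹` commute with `d`, so permute `Ω`;
  `δ` fixes only `Z`, `δ'` fixes only `Z'`; so `k = δ δ'` is a 3-cycle on `Ω`, `3 ∣ n = orderOf k`
  (else `k = (k³)^j` fixes `Z`), and `u = k^(n/3)` contradicts (P').
-/

set_option autoImplicit false

namespace CL.S4F

open Subgroup CL.Fus Pointwise

namespace Bt

variable {K : Type*} [Field K]

/-- `y` is not a nonzero square times `z` -/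
def NS (y z : K) : Prop := ∀ t : K, t ≠ 0 → y ≠ t ^ 2 * z

theorem NS.symm {y z : K} (h : NS y z) : NS z y := fun t ht e =>
  h t⁻¹ (inv_ne_zero ht) (by rw [e]; field_simp)

theorem two_ns [Finite K] {a b c : K} (ha : a ≠ 0) (hb : b ≠ 0) (hc : c ≠ 0) (h1 : NS a c)
    (h2 : NS b c) : ∃ t : K, t ≠ 0 ∧ a = t ^ 2 * b := by
  classical
  have := Fintype.ofFinite K
  have k : ∀ x : K, x ≠ 0 → NS x c → quadraticChar K (x * c) = -1 := fun x hx h =>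
    quadraticChar_neg_one_iff_not_isSquare.2 fun ⟨r, hr⟩ => h (r / c)
      (div_ne_zero (fun e => mul_ne_zero hx hc (by rw [hr, e, mul_zero])) hc)
      (by field_simp; linear_combination hr)
  obtain ⟨r, hr⟩ := (quadraticChar_one_iff_isSquare
    (mul_ne_zero (mul_ne_zero ha hc) (mul_ne_zero hb hc))).1 (by rw [map_mul, k a ha h1, k b hb h2]; rfl)
  refine ⟨r / (b * c), div_ne_zero (fun e => mul_ne_zero (mul_ne_zero ha hc) (mul_ne_zero hb hc)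
    (by rw [hr, e, mul_zero])) (mul_ne_zero hb hc), ?_⟩
  field_simp
  linear_combination hr

theorem sq_cover (two : (2 : K) ≠ 0) {S S' : AddSubgroup K} (hd : ∀ s ∈ S, s ∈ S' → s = 0) {ν : K}
    (h0 : ν ≠ 0) (hν : ν ∈ S) (hc : ∀ a : K, a ^ 2 * ν ∈ S ∨ a ^ 2 * ν ∈ S') {a : K} (ha : a ≠ 0)
    (h : a ^ 2 * ν ∈ S') : (3 : K) = 0 ∧ a ^ 4 = -1 := by
  obtain ⟨α, hα, β, hβ, e⟩ : ∃ α ∈ S, ∃ β ∈ S', 2 * a * ν = α + β := by
    rcases hc (a + 1) with i | i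
    · exact ⟨_, sub_mem i hν, _, neg_mem h, by ring⟩
    · exact ⟨_, neg_mem hν, _, sub_mem i h, by ring⟩
  have k : ∀ n : ℤ, n * α + n ^ 2 * ν = 0 ∨ a ^ 2 * ν + n * β = 0 := fun n => by
    have m1 : n * α + n ^ 2 * ν ∈ S := by
      have := add_mem (zsmul_mem hα n) (zsmul_mem hν (n ^ 2))
      rwa [zsmul_eq_mul, zsmul_eq_mul, Int.cast_pow] at this
    have m2 : a ^ 2 * ν + n * β ∈ S' := by simpa using add_mem h (zsmul_mem hβ n)
    have e1 : (a + n) ^ 2 * ν = n * α + n ^ 2 * ν + (a ^ 2 * ν + n * β) := by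
      linear_combination n * e
    rcases hc (a + n) with i | i <;> rw [e1] at i
    · exact Or.inr (hd _ ((add_mem_cancel_left m1).1 i) m2)
    · exact Or.inl (hd _ m1 ((add_mem_cancel_right m2).1 i))
  have k1 := k 1
  have k2 := k (-1)
  have k3 := k 2
  push_cast at k1 k2 k3
  have n1 : 2 * ν ≠ 0 := mul_ne_zero two h0
  have n2 : a ^ 2 * ν ≠ 0 := mul_ne_zero (pow_ne_zero 2 ha) h0
  have fin : (3 : K) = 0 → (2 * a * ν) ^ 2 = ((1 - a ^ 2) * ν) ^ 2 → (3 : K) = 0 ∧ a ^ 4 = -1 :=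
    fun i j => ⟨i, mul_right_cancel₀ (pow_ne_zero 2 h0)
      (by linear_combination (2 * a ^ 2 * ν ^ 2) * i - j)⟩
  rcases k1 with k1 | k1 <;> rcases k2 with k2 | k2
  · exact absurd (by linear_combination k1 + k2) n1
  · refine fin ?_ (by rw [e, show α + β = -((1 - a ^ 2) * ν) by linear_combination k1 - k2, neg_sq])
    rcases k3 with k3 | k3
    · exact absurd (by linear_combination k3 - 2 * k1) n1
    · exact mul_right_cancel₀ n2 (by linear_combination k3 + 2 * k2)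
  · refine fin ?_ (by rw [e, show α + β = (1 - a ^ 2) * ν by linear_combination k1 - k2])
    rcases k3 with k3 | k3
    · exact mul_right_cancel₀ n1 (by linear_combination k3 + 2 * k2)
    · exact absurd (by linear_combination 2 * k1 - k3) n2
  · exact absurd (mul_left_cancel₀ two (by linear_combination k1 + k2)) n2

theorem sq_cases {r : K} (h : r ^ 4 = 1) : r = 1 ∨ r = -1 ∨ r ^ 2 = -1 := by
  have : (r - 1) * ((r + 1) * (r ^ 2 + 1)) = 0 := by linear_combination h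
  simpa only [mul_eq_zero, sub_eq_zero, add_eq_zero_iff_eq_neg] using this

theorem three (h3 : (3 : K) = 0) (h8 : ∀ b : K, b ≠ 0 → b ^ 8 = 1) {S : AddSubgroup K} {c : K}
    (hc : c ∈ S) (c0 : c ≠ 0) (h : ∀ s ∈ S, s ≠ 0 → ∃ t : K, t ≠ 0 ∧ s = t ^ 2 * c) (s : K) :
    s ∈ S ↔ s = 0 ∨ s = c ∨ s = -c := by
  refine ⟨fun hs => or_iff_not_imp_left.2 fun s0 => ?_, ?_⟩
  · obtain ⟨t, t0, rfl⟩ := h s hs s0
    rcases sq_cases (r := t ^ 2) (by rw [← h8 t t0]; ring) with e | e | e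
    · left; rw [e, one_mul]
    · right; rw [e, neg_one_mul]
    by_cases i : t ^ 2 * c + c = 0
    · right; linear_combination i
    obtain ⟨u, u0, e1⟩ := h _ (add_mem hs hc) i
    have e2 : t ^ 2 + 1 = u ^ 2 := mul_right_cancel₀ c0 (by linear_combination e1)
    have e3 : (t ^ 2 + 1) ^ 4 = 1 := by rw [e2, ← h8 u u0]; ring
    exact absurd (show (1 : K) = 0 by
      linear_combination 2 * h3 + e3 - ((t ^ 2) ^ 2 + 4 * t ^ 2 + 5) * e) one_ne_zero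
  · rintro (rfl | rfl | rfl)
    exacts [zero_mem _, hc, neg_mem hc]

/-- first coordinates -/
def YY (S : AddSubgroup (K × K × K)) : AddSubgroup K := S.comap (AddMonoidHom.inl _ _)

/-- last coordinates -/
def SS (S : AddSubgroup (K × K × K)) : AddSubgroup K :=
  S.comap ((AddMonoidHom.inr _ _).comp (AddMonoidHom.inr _ _))

theorem mem_YY {S : AddSubgroup (K × K × K)} {x : K} : x ∈ YY S ↔ (x, 0, 0) ∈ S := Iff.rfl
theorem mem_SS {S : AddSubgroup (K × K × K)} {z : K} : z ∈ SS S ↔ (0, 0, z) ∈ S := Iff.rfl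

/-- the set `Φ` -/
structure Ph (H : Subgroup (GA K)) (g : GA K) : Prop where
  mem : g ∈ H
  ne : g • Zs K ≠ Zs K
  fix : (dd : GA K) • g • Zs K = g • Zs K

/-- maximality of an intersection -/
def Mx (H : Subgroup (GA K)) (Y : AddSubgroup (K × K × K)) : Prop :=
  ∀ g ∈ H, ∀ h ∈ H, g • Zs K ≠ h • Zs K → Y ≤ g • Zs K ⊓ h • Zs K → g • Zs K ⊓ h • Zs K ≤ Zs K

theorem dg_mem {g : GA K} (a : Kˣ) {x z : K} (h : (x, 0, z) ∈ g • Zs K) :
    (x, 0, (a : K) ^ 2 * z) ∈ (dg a * g) • Zs K := by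
  simpa using (app_mem_mul (g := dg a)).2 h

variable [Finite K] {p : ℕ} [Fact p.Prime] [CharP K p] {T H : Subgroup (GA K)} {y0 : K}
  {g h : GA K} {v : K × K × K}

theorem Ph.dg (hD : ∀ a, dg a ∈ H) (f : Ph H g) (a : Kˣ) : Ph H (dg a * g) :=
  ⟨mul_mem (hD a) f.mem, fun e => f.ne ((smul_left_cancel_iff (Bt.dg a)).1 (by
    rw [← mul_smul, e, dg_Z])), by
    rw [← mul_smul, ← mul_assoc, dd_dg, mul_assoc, mul_smul, mul_smul dd, f.fix, mul_smul]⟩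

theorem ex_not (h : g • Zs K ≠ Zs K) : ∃ v ∈ g • Zs K, v ∉ Zs K := by
  by_contra e
  push Not at e
  exact h (AddSubgroup.eq_of_le_of_card_ge e card_sm.ge)

namespace Ct

variable (c : Ct p T H y0) (hD : ∀ a, dg a ∈ H)
include c

theorem phV (f : Ph H g) (hv : v ∈ g • Zs K) : v.2.1 = 0 := by
  obtain ⟨x, y, z⟩ := v
  have := sub_mem hv ((app_mem_of f.fix).2 hv)
  have := (c.two1 f.mem (by simp) this).1
  simpa [← two_mul, c.two] using this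

theorem exS (f : Ph H g) : ∃ x z, z ≠ 0 ∧ (x, 0, z) ∈ g • Zs K := by
  obtain ⟨⟨x, y, z⟩, h1, h2⟩ := ex_not f.ne
  obtain rfl : y = 0 := c.phV f h1
  exact ⟨x, z, fun e => h2 ⟨rfl, e⟩, h1⟩

include hD

theorem phC (f : Ph H g) : ∃ s, dd * (g * tau s) = g * tau s * dd := by
  have m : g⁻¹ * dd * g ∈ H := mul_mem (mul_mem (inv_mem f.mem) (hD _)) f.mem
  have f2 : ∀ v ∈ Zs K, (g⁻¹ * dd * g : GA K) v = v := fun v hv => by
    simp only [LinearEquiv.mul_apply]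
    have := c.phV f (app_mem.2 hv)
    rw [show dd (g v) = g v by
      generalize g v = w at this
      obtain ⟨x, y, z⟩ := w
      obtain rfl : y = 0 := this
      simp, inv_app]
  have n := c.case1 (hD _) m (sm_eq fun v hv => by rwa [f2 v hv])
  have sq : g⁻¹ * dd * g * (g⁻¹ * dd * g) = 1 := by
    rw [show g⁻¹ * dd * g * (g⁻¹ * dd * g) = g⁻¹ * (dd * dd) * g by group, dd_dd]; group
  obtain ⟨s, e⟩ := c.nrm n 1
  have s1 : s ≠ 1 := fun a => c.pp' f.mem (a ▸ e)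
  obtain ⟨r, hr⟩ : ∃ r, g⁻¹ * dd * g * tau r = dd := by
    generalize g⁻¹ * dd * g = k at m f2 n sq e
    have hB := fun y => (app_mem_of (v := (0, y, 0)) (c.nrm_ZB n).2).2 rfl
    have k1 : ∀ y, s * (k (0, y, 0)).2.1 = y := fun y => by
      have := app_eq e (0, y, 0)
      rw [LinearEquiv.mul_apply, LinearEquiv.mul_apply,
        show tau (1 : K) (0, y, 0) = (2 * y, 0, 0) + (0, y, 0) by simp, map_add, f2 _ ⟨rfl, rfl⟩] at this
      have b := hB y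
      generalize k (0, y, 0) = w at this b ⊢
      obtain ⟨x', y', z'⟩ := w
      obtain rfl : z' = 0 := b
      have := congrArg Prod.fst this
      simp only [tau_apply, Prod.fst_add] at this
      exact mul_left_cancel₀ c.two (by linear_combination -this)
    have k2 : s * s = 1 := by
      have := app_eq sq (0, 1, 0)
      have b := hB 1
      have b1 := k1 1
      rw [LinearEquiv.mul_apply] at this
      generalize k (0, 1, 0) = w at this b b1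
      obtain ⟨x', y', z'⟩ := w
      obtain rfl : z' = 0 := b
      rw [show (x', y', 0) = (x', 0, 0) + ((0, y', 0) : K × K × K) by simp, map_add,
        f2 _ ⟨rfl, rfl⟩] at this
      have := congrArg (·.2.1) this
      simp only [Prod.snd_add, Prod.fst_add, zero_add, LinearEquiv.coe_one, id] at this b1
      have b2 := k1 y'
      rw [this] at b2
      linear_combination b1 + s * b2
    obtain rfl : s = -1 := (mul_self_eq_one_iff.1 k2).resolve_left s1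
    exact c.nf_neg m n (fun x => f2 _ ⟨rfl, rfl⟩) fun y =>
      Prod.ext (by linear_combination -k1 y) (hB y)
  refine ⟨r / 2, ?_⟩
  have two := c.two
  calc dd * (g * tau (r / 2)) = g * (g⁻¹ * dd * g * tau r) * ((tau r)⁻¹ * tau (r / 2)) := by group
    _ = _ := by
      rw [hr, tau_inv, tau_mul, mul_assoc, dd_tau, ← mul_assoc,
        show -(-r + r / 2) = r / 2 by field_simp; ring]

theorem phE (f : Ph H g) (y : K) : (0, y, 0) ∈ g • Bs K := by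
  obtain ⟨s, e⟩ := c.phC hD f
  rw [← tau_B s, ← mul_smul, mem_sm]
  generalize g * tau s = k at e
  have := app_eq (show Commute dd k from e).inv_right.eq (0, y, 0)
  rw [LinearEquiv.mul_apply, LinearEquiv.mul_apply,
    show dd ((0, y, 0) : K × K × K) = -(0, y, 0) by simp, map_neg] at this
  generalize k⁻¹ (0, y, 0) = w at this
  obtain ⟨x', y', z'⟩ := w
  have := congrArg (·.2.2) this
  simpa [← add_eq_zero_iff_eq_neg, ← two_mul, c.two] using this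

theorem star (hg : g ∈ H) (f : Ph H h) {x z t : K} (hv : (x, 0, z) ∈ g • Zs K) (hz : z ≠ 0)
    (ht : t ≠ 0) : (x + t ^ 2 * z, 0, z) ∉ h • Zs K := fun a => by
  have := c.phV f (c.two1' f.mem (mul_mem (c.tauH t) hg) (by
    simpa using add_mem (AddSubgroup.pointwise_smul_le_pointwise_smul_iff.2 Zs_le a)
      (c.phE hD f (t * z))) (app_mem_mul.2 hv))
  simp [ht, hz] at this

theorem ns1 (f : Ph H g) {x z y : K} (hv : (x, 0, z) ∈ g • Zs K) (hz : z ≠ 0)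
    (hy : (y, 0, 0) ∈ g • Zs K) : NS y z := fun t ht e =>
  c.star hD f.mem f hv hz ht (by simpa [e] using add_mem hv hy)

theorem ns2 (f : Ph H g) {x z : K} (hv : (x, 0, z) ∈ g • Zs K) (hz : z ≠ 0) : NS x z :=
  fun t ht e => by
    have h2 : (x + x, 0, z + z) ∈ g • Zs K := by simpa using add_mem hv hv
    have z2 : z + z ≠ 0 := by rw [← two_mul]; exact mul_ne_zero c.two hz
    obtain ⟨a, ha, e1⟩ := two_ns z2 hz c.h0 (c.ns1 hD f h2 z2 (c.y0_mem f.mem)).symm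
      (c.ns1 hD f hv hz (c.y0_mem f.mem)).symm
    refine c.star hD (mul_mem (hD _) f.mem) f (dg_mem (Units.mk0 a ha) hv)
      (mul_ne_zero (pow_ne_zero 2 ha) hz) (div_ne_zero ht ha) ?_
    rwa [Units.val_mk0, show (t / a) ^ 2 * (a ^ 2 * z) = x by rw [e]; field_simp, ← e1]

theorem ns3 (f : Ph H g) {x z : K} (hv : (x, 0, z) ∈ g • Zs K) (hx : x ≠ 0) :
    ∃ t : K, t ≠ 0 ∧ x = t ^ 2 * y0 := by
  by_cases hz : z = 0
  · obtain ⟨x', z', h1, h2⟩ := c.exS f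
    exact two_ns hx c.h0 h1 (c.ns1 hD f h2 h1 (hz ▸ hv)) (c.ns1 hD f h2 h1 (c.y0_mem f.mem))
  · exact two_ns hx c.h0 hz (c.ns2 hD f hv hz) (c.ns1 hD f hv hz (c.y0_mem f.mem))

theorem ns4 (f : Ph H g) {s x z : K} (h1 : (s, 0, z) ∈ g • Zs K) (h2 : (x, 0, s) ∈ g • Zs K) :
    s = 0 := by
  by_contra s0
  obtain ⟨t, ht, e⟩ := c.ns3 hD f h1 s0
  exact (c.ns1 hD f h2 s0 (c.y0_mem f.mem)).symm t ht e

theorem split (f : Ph H g) {x z : K} (hv : (x, 0, z) ∈ g • Zs K) :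
    (x, 0, 0) ∈ g • Zs K ∧ (0, 0, z) ∈ g • Zs K := by
  have b := (Nat.bijective_iff_injective_and_card (fun v : ↥(g • Zs K) => v.1.1 + v.1.2.2)).2
    ⟨fun v w e => Subtype.ext (sub_eq_zero.1 (by
      have m := sub_mem v.2 w.2
      have e' : (v.1 - w.1).1 = -(v.1 - w.1).2.2 := by simp only [Prod.fst_sub, Prod.snd_sub]; linear_combination e
      have e1 := c.phV f m
      generalize v.1 - w.1 = u at m e' e1
      obtain ⟨x, y, z⟩ := u
      obtain rfl : y = 0 := e1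
      obtain rfl : x = -z := e'
      have := c.ns4 hD f m (x := z) (by simpa using neg_mem m)
      rw [neg_eq_zero.1 this]; simp)), card_sm.trans card_Zs⟩
  obtain ⟨⟨⟨x', y', z'⟩, m⟩, e⟩ := b.2 x
  obtain rfl : y' = 0 := c.phV f m
  change x' + z' = x at e
  obtain rfl : z' = 0 := c.ns4 hD f (z := z - z') (by simpa [← e] using sub_mem hv m) m
  rw [add_zero] at e
  subst e
  exact ⟨m, by simpa using sub_mem hv m⟩

theorem exS' (f : Ph H g) : ∃ z, z ≠ 0 ∧ (0, 0, z) ∈ g • Zs K :=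
  let ⟨_, z, h1, h2⟩ := c.exS f
  ⟨z, h1, (c.split hD f h2).2⟩

theorem ratio (f : Ph H g) (f' : Ph H h) {z z' : K} (h1 : (0, 0, z) ∈ g • Zs K) (z0 : z ≠ 0)
    (h2 : (0, 0, z') ∈ h • Zs K) (z1 : z' ≠ 0) : ∃ t : K, t ≠ 0 ∧ z = t ^ 2 * z' :=
  two_ns z0 z1 c.h0 (c.ns1 hD f h1 z0 (c.y0_mem f.mem)).symm
    (c.ns1 hD f' h2 z1 (c.y0_mem f'.mem)).symm

theorem start (hn : ¬ H ≤ normalizer (T : Set (GA K))) :
    ∃ g, Ph H g ∧ dd * g = g * dd ∧ Mx H (Zs K ⊓ g • Zs K) := by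
  obtain ⟨g1, a1, a2⟩ := SetLike.not_le_iff_exists.1 hn
  have : Nonempty {g : GA K // g ∈ H ∧ g • Zs K ≠ Zs K} := ⟨⟨g1, a1, mt (c.case1 (hD _) a1) a2⟩⟩
  obtain ⟨⟨g, hg, g0⟩, hm⟩ := Finite.exists_max
    fun g : {g : GA K // g ∈ H ∧ g • Zs K ≠ Zs K} => Nat.card ↥(Zs K ⊓ g.1 • Zs K)
  have mx : Mx H (Zs K ⊓ g • Zs K) := fun a ha b hb ne le => by
    have := hm ⟨a⁻¹ * b, mul_mem (inv_mem ha) hb, fun e => ne (by
      rw [mul_smul, inv_smul_eq_iff] at e; exact e.symm)⟩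
    rw [← card_sm (g := a), sm_inf, ← mul_smul, mul_inv_cancel_left] at this
    rw [← AddSubgroup.eq_of_le_of_card_ge le this]
    exact inf_le_left
  obtain ⟨⟨x, y, z⟩, v1, v2⟩ := ex_not g0
  have z0 : z ≠ 0 := fun e => v2 (c.two1 hg e v1)
  have e1 : Zs K ⊓ (tau (-y / z) * g) • Zs K = Zs K ⊓ g • Zs K := by
    ext v
    simp only [AddSubgroup.mem_inf]
    refine and_congr_right fun hv => ?_
    rw [← app_mem_mul (g := tau (-y / z)) (h := g), tau_fix _ hv]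
  have v3 := (app_mem_mul (g := tau (-y / z))).2 v1
  rw [tau_apply, show y + -y / z * z = 0 by field_simp; ring] at v3
  have m := mul_mem (c.tauH (-y / z)) hg
  rw [← e1] at mx
  generalize tau (-y / z) * g = k at mx v3 m
  have f : Ph H k := ⟨m, fun e => z0 (e ▸ v3 :).2, by
    by_contra ne
    rw [← mul_smul] at ne
    refine z0 (mx _ (mul_mem (hD _) m) k m ne (fun v hv => ⟨?_, hv.2⟩) ⟨?_, v3⟩).2
    · have := (app_mem_mul (g := dd)).2 hv.2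
      rwa [dd, dg_fix _ hv.1] at this
    · have := (app_mem_mul (g := dd)).2 v3
      rwa [dd_apply, neg_zero] at this⟩
  obtain ⟨s, e⟩ := c.phC hD f
  have e2 : (k * tau s) • Zs K = k • Zs K := by rw [mul_smul, tau_Z]
  exact ⟨k * tau s, ⟨mul_mem m (c.tauH s), e2 ▸ f.ne, e2 ▸ f.fix⟩, e, e2 ▸ mx⟩

omit [Finite K] [Fact p.Prime] [CharP K p] c hD in
theorem ph_inv (hg : g ∈ H) (e : dd * g = g * dd) (hh : h ∈ H) (ne : h • Zs K ≠ g • Zs K)
    (fx : (dd : GA K) • h • Zs K = h • Zs K) : Ph H (g⁻¹ * h) :=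
  ⟨mul_mem (inv_mem hg) hh, fun a => ne (by rwa [mul_smul, inv_smul_eq_iff] at a), by
    rw [← mul_smul, ← mul_assoc, (show Commute dd g from e).inv_right.eq, mul_assoc, mul_smul,
      mul_smul, fx, mul_smul]⟩

theorem csplit (hg : g ∈ H) (e : dd * g = g * dd) (hh : h ∈ H) (ne : h • Zs K ≠ g • Zs K)
    (fx : (dd : GA K) • h • Zs K = h • Zs K) (hv : v ∈ h • Zs K) :
    ∃ x z, v = g (x, 0, 0) + g (0, 0, z) ∧ g (x, 0, 0) ∈ h • Zs K ∧ g (0, 0, z) ∈ h • Zs K := by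
  have f := ph_inv hg e hh ne fx
  have m := (app_mem_mul (g := g⁻¹)).2 hv
  have e1 := app_inv g v
  have e2 := c.phV f m
  generalize g⁻¹ v = w at m e1 e2
  obtain ⟨x, y, z⟩ := w
  obtain rfl : y = 0 := e2
  have := c.split hD f m
  rw [← app_mem_mul (g := g), ← app_mem_mul (g := g) (v := (0, 0, z)), mul_inv_cancel_left] at this
  exact ⟨x, z, by rw [← map_add, ← e1]; simp, this⟩

theorem nine (f : Ph H g) (e : dd * g = g * dd) (mx : Mx H (Zs K ⊓ g • Zs K)) :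
    (3 : K) = 0 ∧ (∃ a : K, a ^ 4 = -1) ∧ ∀ b : K, b ≠ 0 → b ^ 8 = 1 := by
  obtain ⟨ν, ν0, hν⟩ := c.exS' hD f
  let lam : K →+ K := AddMonoidHom.mk' (fun z => (g (0, 0, z)).2.2) fun a b => by
    rw [← Prod.snd_add, ← Prod.snd_add, ← map_add]; simp
  have dj : ∀ s ∈ SS (g • Zs K), s ∈ lam.range → s = 0 := by
    rintro _ hs ⟨z, rfl⟩
    have gV : (g (0, 0, z)).2.1 = 0 := by
      have := congrArg (·.2.1) (app_eq e (0, 0, z))
      simp only [LinearEquiv.mul_apply, dd_apply, neg_zero] at this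
      generalize g (0, 0, z) = w at this
      obtain ⟨x', y', z'⟩ := w
      simpa [neg_eq_iff_add_eq_zero, ← two_mul, c.two] using this
    obtain ⟨x, z', e1, m1, m2⟩ := c.csplit hD f.mem e (one_mem _) (v := ((g (0, 0, z)).1, 0, 0))
      (by rw [one_smul]; exact f.ne.symm) (by rw [one_smul]; exact dg_Z _) (by simp)
    have m3 := add_mem (mem_SS.1 hs) ((app_mem (g := g) (v := (x, 0, 0))).2 ⟨rfl, rfl⟩)
    rw [show (0, 0, lam z) + g (x, 0, 0) = g (0, 0, z - z') by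
      rw [show ((0, 0, z - z') : K × K × K) = (0, 0, z) - (0, 0, z') by simp, map_sub,
        eq_sub_iff_add_eq, add_assoc, ← e1]
      exact Prod.ext (zero_add _) (Prod.ext ((zero_add _).trans gV.symm) (add_zero _)), app_mem] at m3
    obtain rfl : z = z' := sub_eq_zero.1 m3.2
    rw [one_smul] at m2
    exact m2.2
  have cov : ∀ a : K, a ^ 2 * ν ∈ SS (g • Zs K) ∨ a ^ 2 * ν ∈ lam.range := fun a => by
    by_cases a0 : a = 0
    · left; simp [a0]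
    have f' := f.dg hD (Units.mk0 a a0)
    have m := dg_mem (Units.mk0 a a0) hν
    by_cases i : (dg (Units.mk0 a a0) * g) • Zs K = g • Zs K
    · exact Or.inl (i ▸ m)
    obtain ⟨x, z, e1, m1, -⟩ := c.csplit hD f.mem e f'.mem i f'.fix m
    have := mx _ f'.mem g f.mem i (fun v hv => ⟨by
      have := (app_mem_mul (g := dg (Units.mk0 a a0))).2 hv.2
      rwa [dg_fix _ hv.1] at this, hv.2⟩) ⟨m1, app_mem.2 ⟨rfl, rfl⟩⟩
    refine Or.inr ⟨z, ?_⟩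
    have e2 := congrArg (·.2.2) e1
    simp only [Prod.snd_add, this.2, zero_add, Units.val_mk0] at e2
    exact e2.symm
  obtain ⟨a, ha⟩ : ∃ a : K, a ^ 2 * ν ∉ SS (g • Zs K) := by
    by_contra i
    push Not at i
    have two := c.two
    have := sub_mem (i ((y0 / ν + 1) / 2)) (i ((y0 / ν - 1) / 2))
    rw [show ((y0 / ν + 1) / 2) ^ 2 * ν - ((y0 / ν - 1) / 2) ^ 2 * ν = y0 by field_simp; ring] at this
    exact c.h0 (c.ns4 hD f (c.y0_mem f.mem) this)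
  have a0 : a ≠ 0 := fun i => ha (by simp [i])
  have a1 := (cov a).resolve_left ha
  obtain ⟨h3, h4⟩ := sq_cover c.two dj ν0 hν cov a0 a1
  refine ⟨h3, ⟨a, h4⟩, fun b b0 => ?_⟩
  rcases cov b with i | i
  · have := (sq_cover c.two (fun s j k => dj s k j) (mul_ne_zero (pow_ne_zero 2 a0) ν0) a1
      (fun t => by rw [← mul_assoc, ← mul_pow]; exact (cov _).symm) (div_ne_zero b0 a0)
      (by rwa [← mul_assoc, ← mul_pow, div_mul_cancel₀ _ a0])).2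
    rw [div_pow, h4, div_neg, div_one, neg_inj] at this
    rw [show b ^ 8 = (b ^ 4) ^ 2 by ring, this, one_pow]
  · rw [show b ^ 8 = (b ^ 4) ^ 2 by ring, (sq_cover c.two dj ν0 hν cov b0 i).2]; simp

theorem core (hn : ¬ H ≤ normalizer (T : Set (GA K))) : False := by
  obtain ⟨g, f, e, mx⟩ := c.start hD hn
  obtain ⟨h3, ⟨a, h4⟩, h8⟩ := c.nine hD f e mx
  have a0 : a ≠ 0 := fun i => by simp [i] at h4
  have sS : ∀ h, Ph H h → ∀ ν, ν ≠ 0 → (0, 0, ν) ∈ h • Zs K → ∀ s,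
      (0, 0, s) ∈ h • Zs K ↔ s = 0 ∨ s = ν ∨ s = -ν := fun h f ν ν0 hν =>
    three h3 h8 (S := SS (h • Zs K)) hν ν0 fun s hs s0 => c.ratio hD f f hs s0 hν ν0
  have sY : ∀ h, Ph H h → ∀ s, (s, 0, 0) ∈ h • Zs K ↔ s = 0 ∨ s = y0 ∨ s = -y0 := fun h f =>
    three h3 h8 (S := YY (h • Zs K)) (c.y0_mem f.mem) c.h0 fun s hs s0 => c.ns3 hD f hs s0
  have le : ∀ h k, Ph H h → Ph H k → ∀ ν, ν ≠ 0 → (0, 0, ν) ∈ h • Zs K → (0, 0, ν) ∈ k • Zs K →
      h • Zs K = k • Zs K := fun h k f f' ν ν0 m1 m2 =>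
    AddSubgroup.eq_of_le_of_card_ge (fun ⟨x, y, z⟩ hv => by
      obtain rfl : y = 0 := c.phV f hv
      have := c.split hD f hv
      simpa using add_mem ((sY k f' x).2 ((sY h f x).1 this.1))
        ((sS k f' ν ν0 m2 z).2 ((sS h f ν ν0 m1 z).1 this.2))) (card_sm.trans card_sm.symm).le
  obtain ⟨ν, ν0, hν⟩ := c.exS' hD f
  let δ : GA K := dg (Units.mk0 a a0)
  have f2 : Ph H (δ * g) := f.dg hD _
  have a2 : a ^ 2 * ν ≠ 0 := mul_ne_zero (pow_ne_zero 2 a0) ν0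
  have hν2 : (0, 0, a ^ 2 * ν) ∈ (δ * g) • Zs K := dg_mem _ hν
  have om : ∀ h ∈ H, (dd : GA K) • h • Zs K = h • Zs K →
      h • Zs K = Zs K ∨ h • Zs K = g • Zs K ∨ h • Zs K = (δ * g) • Zs K := fun h hh fx => by
    refine or_iff_not_imp_left.2 fun ne => ?_
    have f' : Ph H h := ⟨hh, ne, fx⟩
    obtain ⟨μ, μ0, hμ⟩ := c.exS' hD f'
    obtain ⟨t, t0, rfl⟩ := c.ratio hD f' f hμ μ0 hν ν0
    rcases sq_cases (r := t ^ 2) (by rw [← h8 t t0]; ring) with i | i | i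
    · exact Or.inl (le h g f' f _ μ0 hμ ((sS g f ν ν0 hν _).2 (by simp [i])))
    · exact Or.inl (le h g f' f _ μ0 hμ ((sS g f ν ν0 hν _).2 (by simp [i])))
    · refine Or.inr (le h _ f' f2 _ μ0 hμ ((sS _ f2 _ a2 hν2 _).2 (Or.inr ?_)))
      rcases sq_eq_sq_iff_eq_or_eq_neg.1 (show (t ^ 2) ^ 2 = (a ^ 2) ^ 2 by rw [i, ← h4]; ring)
        with j | j <;> simp [j]
  have nf : ∀ h, Ph H h → δ • h • Zs K ≠ h • Zs K := fun h f' i => by
    obtain ⟨μ, μ0, hμ⟩ := c.exS' hD f'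
    have := dg_mem (Units.mk0 a a0) hμ
    rw [mul_smul, i, sS h f' μ μ0 hμ, Units.val_mk0] at this
    refine c.two ?_
    rcases this with j | j | j
    · exact absurd j (mul_ne_zero (pow_ne_zero 2 a0) μ0)
    · have : a ^ 2 = 1 := mul_right_cancel₀ μ0 (by rw [j, one_mul])
      linear_combination h4 - (a ^ 2 + 1) * this
    · have : a ^ 2 = -1 := mul_right_cancel₀ μ0 (by rw [j, neg_one_mul])
      linear_combination h4 - (a ^ 2 - 1) * this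
  have dZ : δ • Zs K = Zs K := dg_Z _
  have d2 : δ • (δ * g) • Zs K = g • Zs K := by
    rw [← mul_smul]
    refine le _ _ (f2.dg hD _) f _ (neg_ne_zero.2 ν0) ?_ (by simpa using neg_mem hν)
    have := dg_mem (Units.mk0 a a0) hν2
    rwa [Units.val_mk0, show a ^ 2 * (a ^ 2 * ν) = -ν by linear_combination ν * h4] at this
  have cd : Commute dd δ := dd_dg _
  have cg : Commute dd g := e
  have m : g * δ * g⁻¹ ∈ H := mul_mem (mul_mem f.mem (hD _)) (inv_mem f.mem)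
  have cm : Commute dd (g * δ * g⁻¹) := (cg.mul_right cd).mul_right cg.inv_right
  have b1 : (g * δ * g⁻¹) • g • Zs K = g • Zs K := by
    rw [← mul_smul, inv_mul_cancel_right, mul_smul, dZ]
  have b2 : (g * δ * g⁻¹) • Zs K ≠ Zs K := fun i => nf _
    (ph_inv f.mem e (one_mem _) (by rw [one_smul]; exact f.ne.symm) (by rw [one_smul]; exact dg_Z _))
    (by rw [mul_one, eq_inv_smul_iff, ← mul_smul, ← mul_smul]; exact i)
  generalize g * δ * g⁻¹ = ε at m cm b1 b2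
  have b3 : ε • Zs K = (δ * g) • Zs K :=
    ((om ε m (by rw [← mul_smul, cm.eq, mul_smul, dd, dg_Z])).resolve_left b2).resolve_left
      fun i => f.ne ((smul_left_cancel_iff ε).1 (b1.trans i.symm))
  have b4 : ε • (δ * g) • Zs K = Zs K := by
    rcases om (ε * (δ * g)) (mul_mem m f2.mem) (by
      rw [mul_smul ε, ← mul_smul, cm.eq, mul_smul, f2.fix]) with i | i | i <;> rw [mul_smul] at i
    · exact i
    · exact absurd ((smul_left_cancel_iff ε).1 (i.trans b1.symm)) (by rw [mul_smul]; exact nf g f)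
    · exact absurd ((smul_left_cancel_iff ε).1 (i.trans b3.symm)) f2.ne
  have k1 : (δ * ε) • Zs K = g • Zs K := by rw [mul_smul, b3, d2]
  have k3 : (δ * ε) ^ 3 ∈ MulAction.stabilizer (GA K) (Zs K) := by
    rw [MulAction.mem_stabilizer_iff, pow_three, mul_smul (δ * ε), mul_smul (δ * ε), k1,
      mul_smul δ ε (g • _), b1, ← mul_smul δ g, mul_smul, b4, dZ]
  have km : δ * ε ∈ H := mul_mem (hD _) m
  have kc : Commute dd (δ * ε) := cd.mul_right cm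
  generalize δ * ε = k at k1 k3 km kc
  obtain rfl : p = 3 := (Nat.prime_dvd_prime_iff_eq Fact.out Nat.prime_three).1
    ((CharP.cast_eq_zero_iff K p 3).1 (by exact_mod_cast h3))
  by_cases i : 3 ∣ orderOf k
  · have o := orderOf_pow_orderOf_div (orderOf_pos k).ne' i
    exact c.pp (pow_mem km (orderOf k / 3)) (fun j => by simp [j] at o)
      (by have := pow_orderOf_eq_one (k ^ (orderOf k / 3)); rwa [o] at this) (kc.pow_right _)
  · obtain ⟨n, hn⟩ := exists_pow_eq_self_of_coprime (x := k)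
      ((Nat.Prime.coprime_iff_not_dvd Nat.prime_three).2 i)
    exact f.ne (k1.symm.trans (hn ▸ pow_mem k3 n :))

end Ct

end Bt

open Bt in
theorem beta {K : Type*} [Field K] [Finite K] {p : ℕ} [Fact p.Prime] [CharP K p] (hp : p ≠ 2)
    {T H : Subgroup (GA K)} (hτ : IsTau 2 (fun u z => u ^ 2 * z) T) (hT : SylIn p T H)
    (hn : ¬ H ≤ normalizer (T : Set (GA K))) {y0 : K} (h0 : y0 ≠ 0) (hW : ∀ g ∈ H, (g (y0, 0, 0)).2 = 0)
    (hD : ∀ a : K, a ≠ 0 → ∃ δ ∈ H, δ ∈ normalizer (T : Set (GA K)) ∧ (∀ x, δ (x, 0, 0) = (x, 0, 0)) ∧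
      ∀ y, (δ (0, y, 0)).2 = (a * y, 0)) : False := by
  have c : Ct p T H y0 := ⟨fun e => hp ((Nat.prime_dvd_prime_iff_eq Fact.out Nat.prime_two).1
    ((CharP.cast_eq_zero_iff K p 2).1 (by exact_mod_cast e))), fun g => ⟨fun hg =>
      (hτ.1 g hg).imp fun u e => ext3 e, fun ⟨u, e⟩ => by
        obtain ⟨t, ht, e1⟩ := hτ.2 u
        rwa [e, ← (ext3 e1 : t = tau u)]⟩, hT, h0, fun g hg => Prod.ext_iff.1 (hW g hg)⟩
  obtain ⟨ω, hω⟩ := IsCyclic.exists_generator (α := Kˣ)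
  obtain ⟨θ, hθ⟩ : ∃ θ : K →+ K, dg ω ∈ H.map (MulAut.conj (sh θ)).toMonoidHom := by
    by_cases i : (ω : K) ^ 2 = 1
    · refine ⟨0, dg ω, ?_, by rw [show sh (0 : K →+ K) = 1 from ext3 fun x y z => by simp]; simp⟩
      rcases mul_self_eq_one_iff.1 ((sq _).symm.trans i) with j | j
      · rw [show ω = 1 from Units.ext j, map_one]; exact one_mem _
      · obtain ⟨δ, d1, d2, d3, d4⟩ := hD (-1) (by simp)
        obtain ⟨s, e⟩ := c.nf_neg d1 d2 d3 d4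
        rw [show ω = -1 from Units.ext j, ← dd, ← e]
        exact mul_mem d1 (c.tauH s)
    · obtain ⟨δ, d1, d2, d3, d4⟩ := hD ω ω.ne_zero
      obtain ⟨s, e⟩ := c.nf d2 d3 ω.ne_zero d4
      have m := mul_mem d1 (c.tauH s)
      generalize δ * tau s = k at e m
      let b : K →+ K := AddMonoidHom.mk' (fun z => (k (0, 0, z)).1) fun a b => by
        rw [← Prod.fst_add, ← map_add]; simp
      refine ⟨b.comp (AddMonoidHom.mulRight ((ω : K) ^ 2 - 1)⁻¹), k, m,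
        mul_inv_eq_iff_eq_mul.2 (ext3 fun x y z => ?_)⟩
      simp only [LinearEquiv.mul_apply, sh_apply, dg_apply, e x, Prod.mk.injEq, and_true]
      change x + b z - b _ = x - b _
      rw [add_sub_assoc, sub_eq_add_neg x, ← map_sub, ← map_neg]
      congr 2
      have := sub_ne_zero.2 i
      simp only [AddMonoidHom.coe_mulRight]
      field_simp
      ring
  have ct : ∀ u, sh θ * tau u * (sh θ)⁻¹ = tau u := fun u => mul_inv_eq_iff_eq_mul.2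
    (ext3 fun x y z => by
      simp only [LinearEquiv.mul_apply, sh_apply, tau_apply]; ext <;> simp; ring)
  have n : sh θ ∈ normalizer (T : Set (GA K)) := mem_normalizer_of_cj_mem fun t ht => by
    obtain ⟨u, rfl⟩ := (c.mem t).1 ht
    rwa [cj_apply, ct]
  have sZ : ∀ v ∈ Zs K, sh θ v = v := fun ⟨x, y, z⟩ hv => by
    obtain rfl : z = 0 := hv.2
    simp
  refine Ct.core (p := p) (T := T) (H := H.map (MulAut.conj (sh θ)).toMonoidHom) (y0 := y0)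
    ⟨c.two, c.mem, ?_, h0, ?_⟩ (fun a => ?_) fun e => hn fun g hg => ?_
  · have := hT.map_of_injective (f := (MulAut.conj (sh θ)).toMonoidHom) (MulAut.conj _).injective
    rwa [show T.map (MulAut.conj (sh θ)).toMonoidHom = T from
      mem_normalizer_iff_map_conj_eq.1 n] at this
  · rintro _ ⟨g, hg, rfl⟩
    change sh θ (g ((sh θ)⁻¹ _)) ∈ _
    rw [← sZ (y0, 0, 0) ⟨rfl, rfl⟩, inv_app, sZ _ (c.hW g hg)]
    exact c.hW g hg
  · obtain ⟨k, rfl⟩ := hω a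
    rw [map_zpow]
    exact zpow_mem hθ k
  · have := mul_mem (mul_mem (inv_mem n) (e ⟨g, hg, rfl⟩)) n
    simpa [mul_assoc] using this

end CL.S4F
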