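import Cfsg.Agent.FUS.S4.Tools

/-! # S5260, pure lemma for odd `p`: normal forms and the case `Z_g = Z` -/

set_option autoImplicit false

namespace CL.S4F.Bt

open Subgroup CL.Fus Pointwise

variable {K : Type*} [Field K]

/-- `τ_u` -/
def tau (u : K) : GA K := AddEquiv.toIntLinearEquiv
  { toFun v := (v.1 + 2 * u * v.2.1 + u ^ 2 * v.2.2, v.2.1 + u * v.2.2, v.2.2)
    invFun v := (v.1 - 2 * u * v.2.1 + u ^ 2 * v.2.2, v.2.1 - u * v.2.2, v.2.2)
    left_inv v := by ext <;> simp; ring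
    right_inv v := by ext <;> simp; ring
    map_add' v w := by ext <;> simp <;> ring }

@[simp] theorem tau_apply (u x y z : K) :
    tau u (x, y, z) = (x + 2 * u * y + u ^ 2 * z, y + u * z, z) := rfl

theorem ext3 {g h : GA K} (e : ∀ x y z, g (x, y, z) = h (x, y, z)) : g = h :=
  LinearEquiv.ext fun v => e v.1 v.2.1 v.2.2

theorem tau_mul (u s : K) : tau u * tau s = tau (u + s) := ext3 fun x y z => by
  simp only [LinearEquiv.mul_apply, tau_apply]; ext <;> simp <;> ring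

theorem tau_zero : tau (0 : K) = 1 := ext3 fun x y z => by simp

theorem tau_inv (u : K) : (tau u)⁻¹ = tau (-u) :=
  inv_eq_of_mul_eq_one_right (by rw [tau_mul, add_neg_cancel, tau_zero])

theorem tau_pow (u : K) (n : ℕ) : tau u ^ n = tau (n * u) := by
  induction n with
  | zero => simp [tau_zero]
  | succ n ih => rw [pow_succ, ih, tau_mul]; push_cast; ring_nf

/-- `diag(1, a, a²)` -/
def dg : Kˣ →* GA K := MonoidHom.mk' (fun a => AddEquiv.toIntLinearEquiv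
  { toFun v := (v.1, a * v.2.1, a ^ 2 * v.2.2)
    invFun v := (v.1, (a : K)⁻¹ * v.2.1, (a : K)⁻¹ ^ 2 * v.2.2)
    left_inv v := by ext <;> simp
    right_inv v := by ext <;> simp
    map_add' v w := by ext <;> simp <;> ring }) fun a b => ext3 fun x y z => by
  change (x, ((a * b : Kˣ) : K) * y, ((a * b : Kˣ) : K) ^ 2 * z) =
    (x, (a : K) * (b * y), (a : K) ^ 2 * (b ^ 2 * z))
  ext <;> simp <;> ring

@[simp] theorem dg_apply (a : Kˣ) (x y z : K) : dg a (x, y, z) = (x, a * y, a ^ 2 * z) := rfl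

/-- `diag(1, -1, 1)` -/
def dd : GA K := dg (-1)

@[simp] theorem dd_apply (x y z : K) : dd (x, y, z) = (x, -y, z) := by simp [dd]

theorem dd_dd : (dd : GA K) * dd = 1 := ext3 fun x y z => by simp

theorem dd_inv : (dd : GA K)⁻¹ = dd := inv_eq_of_mul_eq_one_right dd_dd

theorem dd_tau (u : K) : dd * tau u = tau (-u) * dd := ext3 fun x y z => by
  simp only [LinearEquiv.mul_apply, tau_apply, dd_apply]; ext <;> simp; ring

theorem dd_dg (a : Kˣ) : dd * dg a = dg a * dd := by rw [dd, ← map_mul, mul_comm, map_mul]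

/-- the shear `(x, y, z) ↦ (x - θ z, y, z)` -/
def sh (θ : K →+ K) : GA K := AddEquiv.toIntLinearEquiv
  { toFun v := (v.1 - θ v.2.2, v.2)
    invFun v := (v.1 + θ v.2.2, v.2)
    left_inv v := by simp
    right_inv v := by simp
    map_add' v w := by ext <;> simp; ring }

@[simp] theorem sh_apply (θ : K →+ K) (x y z : K) : sh θ (x, y, z) = (x - θ z, y, z) := rfl

variable (K) in
/-- `Z` -/
def Zs : AddSubgroup (K × K × K) where
  carrier := {v | v.2.1 = 0 ∧ v.2.2 = 0}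
  zero_mem' := ⟨rfl, rfl⟩
  add_mem' := fun {a b} ha hb => by simp [ha.1, ha.2, hb.1, hb.2]
  neg_mem' := fun {a} ha => by simp [ha.1, ha.2]

variable (K) in
/-- `B` -/
def Bs : AddSubgroup (K × K × K) where
  carrier := {v | v.2.2 = 0}
  zero_mem' := rfl
  add_mem' := fun {a b} (ha : a.2.2 = 0) (hb : b.2.2 = 0) => by simp [ha, hb]
  neg_mem' := fun {a} (ha : a.2.2 = 0) => by simp [ha]

@[simp] theorem mem_Zs {v : K × K × K} : v ∈ Zs K ↔ v.2.1 = 0 ∧ v.2.2 = 0 := Iff.rfl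
@[simp] theorem mem_Bs {v : K × K × K} : v ∈ Bs K ↔ v.2.2 = 0 := Iff.rfl

theorem Zs_le : Zs K ≤ Bs K := fun _ h => h.2

theorem card_Zs : Nat.card (Zs K) = Nat.card K := Nat.card_congr
  ⟨fun v => v.1.1, fun x => ⟨(x, 0, 0), rfl, rfl⟩,
    fun v => Subtype.ext (Prod.ext rfl (Prod.ext v.2.1.symm v.2.2.symm)), fun _ => rfl⟩

theorem tau_fix (u : K) {v : K × K × K} (h : v ∈ Zs K) : tau u v = v := by
  obtain ⟨x, y, z⟩ := v
  obtain ⟨rfl, rfl⟩ : y = 0 ∧ z = 0 := h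
  simp

theorem dg_fix (a : Kˣ) {v : K × K × K} (h : v ∈ Zs K) : dg a v = v := by
  obtain ⟨x, y, z⟩ := v
  obtain ⟨rfl, rfl⟩ : y = 0 ∧ z = 0 := h
  simp

theorem tau_sub_Z (u : K) {v : K × K × K} (h : v ∈ Bs K) : tau u v - v ∈ Zs K := by
  obtain ⟨x, y, z⟩ := v
  obtain rfl : z = 0 := h
  simp

theorem tau_sub_B (u : K) (v : K × K × K) : tau u v - v ∈ Bs K := by
  obtain ⟨x, y, z⟩ := v
  simp

theorem of_tau_fix (h2 : (2 : K) ≠ 0) {u : K} (hu : u ≠ 0) {v : K × K × K} (h : tau u v = v) :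
    v ∈ Zs K := by
  obtain ⟨x, y, z⟩ := v
  simp only [tau_apply, Prod.mk.injEq, add_eq_left, mul_eq_zero, hu, false_or, and_true] at h
  obtain ⟨h, rfl⟩ := h
  simpa [h2, hu] using h

variable {g h : GA K} {S S' : AddSubgroup (K × K × K)} {v : K × K × K}

theorem inv_app (g : GA K) (v : K × K × K) : g⁻¹ (g v) = v := g.symm_apply_apply v
theorem app_inv (g : GA K) (v : K × K × K) : g (g⁻¹ v) = v := g.apply_symm_apply v
theorem app_eq (e : g = h) (v : K × K × K) : g v = h v := by rw [e]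

theorem mem_sm : v ∈ g • S ↔ g⁻¹ v ∈ S := AddSubgroup.mem_pointwise_smul_iff_inv_smul_mem

theorem app_mem : g v ∈ g • S ↔ v ∈ S := by rw [mem_sm, inv_app]

theorem app_mem_mul : g v ∈ (g * h) • S ↔ v ∈ h • S := by rw [mul_smul, app_mem]

theorem sm_inf : g • (S ⊓ S') = g • S ⊓ g • S' := by
  ext v; simp only [mem_sm, AddSubgroup.mem_inf]

theorem card_sm : Nat.card ↥(g • S) = Nat.card S := Nat.card_congr
  ⟨fun v => ⟨g⁻¹ v, mem_sm.1 v.2⟩, fun v => ⟨g v, app_mem.2 v.2⟩,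
    fun _ => Subtype.ext (app_inv _ _), fun _ => Subtype.ext (inv_app _ _)⟩

theorem app_mem_of (e : g • S = S) : g v ∈ S ↔ v ∈ S := by rw [← app_mem (g := g) (v := v), e]

theorem inv_mem_of (e : g • S = S) : g⁻¹ v ∈ S ↔ v ∈ S := by rw [← mem_sm, e]

variable [Finite K]

theorem sm_eq (e : ∀ v ∈ S, g v ∈ S) : g • S = S :=
  AddSubgroup.eq_of_le_of_card_ge (fun v hv => by simpa [app_inv] using e _ (mem_sm.1 hv))
    card_sm.ge

theorem tau_Z (u : K) : tau u • Zs K = Zs K := sm_eq fun v hv => by rwa [tau_fix u hv]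

theorem tau_B (u : K) : tau u • Bs K = Bs K := sm_eq fun _ hv => hv

theorem dg_Z (a : Kˣ) : dg a • Zs K = Zs K := sm_eq fun v hv => by rwa [dg_fix a hv]

/-- the hypotheses -/
structure Ct (p : ℕ) (T H : Subgroup (GA K)) (y0 : K) : Prop where
  two : (2 : K) ≠ 0
  mem : ∀ g, g ∈ T ↔ ∃ u, g = tau u
  syl : SylIn p T H
  h0 : y0 ≠ 0
  hW : ∀ g ∈ H, g (y0, 0, 0) ∈ Zs K

namespace Ct

variable {p : ℕ} [Fact p.Prime] [CharP K p] {T H : Subgroup (GA K)} {y0 : K} (c : Ct p T H y0)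
include c

section
omit [Finite K] [Fact p.Prime] [CharP K p]

theorem tauT (u : K) : tau u ∈ T := (c.mem _).2 ⟨u, rfl⟩

theorem tauH (u : K) : tau u ∈ H := c.syl.le (c.tauT u)

theorem y0_mem (hg : g ∈ H) : (y0, 0, 0) ∈ g • Zs K := mem_sm.2 (c.hW _ (inv_mem hg))

theorem nrm (hg : g ∈ normalizer (T : Set (GA K))) (u : K) : ∃ s, g * tau u = tau s * g := by
  obtain ⟨s, e⟩ := (c.mem _).1 ((mem_normalizer_iff.1 hg _).1 (c.tauT u))
  exact ⟨s, mul_inv_eq_iff_eq_mul.1 e⟩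

end

omit [Fact p.Prime] [CharP K p] in
theorem nrm_ZB (hg : g ∈ normalizer (T : Set (GA K))) : g • Zs K = Zs K ∧ g • Bs K = Bs K := by
  obtain ⟨s, e⟩ := c.nrm (inv_mem hg) 1
  have e1 : ∀ v, tau 1 (g v) = g (tau s v) := fun v => by
    have := app_eq e (g v)
    simp only [LinearEquiv.mul_apply, inv_app] at this
    rw [← this, app_inv]
  have hZ : g • Zs K = Zs K := sm_eq fun v hv =>
    of_tau_fix c.two one_ne_zero (by rw [e1, tau_fix s hv])
  refine ⟨hZ, sm_eq fun v hv => ?_⟩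
  have := (app_mem_of hZ).2 (tau_sub_Z s hv)
  rw [map_sub, ← e1] at this
  generalize g v = w at this
  obtain ⟨x, y, z⟩ := w
  simpa using this

omit [Finite K] c in
theorem pow_app {k : GA K} {N : AddSubgroup (K × K × K)} (hN : ∀ v ∈ N, k v ∈ N)
    (h : k (k v - v) - (k v - v) ∈ N) (n : ℕ) : (k ^ n) v - v - n • (k v - v) ∈ N := by
  induction n with
  | zero => simp
  | succ n ih =>
    have := add_mem (hN _ ih) (nsmul_mem h n)
    rw [pow_succ', LinearEquiv.mul_apply]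
    convert this using 1
    simp only [map_sub, map_nsmul, succ_nsmul, smul_sub]
    abel

omit [Finite K] [Fact p.Prime] c in
theorem p_smul (v : K × K × K) : p • v = 0 := by
  rw [← Nat.cast_smul_eq_nsmul K, CharP.cast_eq_zero, zero_smul]

omit [Finite K] [Fact p.Prime] in
theorem ch0 {k : GA K} (hk : k ∈ H) (h1 : ∀ v ∈ Zs K, k v = v) (h2 : ∀ v ∈ Bs K, k v - v ∈ Zs K)
    (h3 : ∀ v, k v - v ∈ Bs K) : k ∈ T := by
  let X : Subgroup (GA K) :=
    { carrier := {k | (∀ v ∈ Zs K, k v = v) ∧ (∀ v ∈ Bs K, k v - v ∈ Zs K) ∧ ∀ v, k v - v ∈ Bs K}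
      one_mem' := by simp
      mul_mem' := fun {a b} ha hb => ⟨fun v hv => by
        rw [LinearEquiv.mul_apply, hb.1 v hv, ha.1 v hv], fun v hv => by
        have := add_mem (ha.2.1 _ (by simpa using add_mem (hb.2.2 v) hv : b v ∈ Bs K)) (hb.2.1 v hv)
        rwa [sub_add_sub_cancel] at this, fun v => by
        have := add_mem (ha.2.2 (b v)) (hb.2.2 v)
        rwa [sub_add_sub_cancel] at this⟩
      inv_mem' := fun {a} ha => by
        have h3 : ∀ v, a⁻¹ v - v ∈ Bs K := fun v => by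
          have := neg_mem (ha.2.2 (a⁻¹ v))
          rwa [app_inv, neg_sub] at this
        refine ⟨fun v hv => by rw [← ha.1 v hv, inv_app, ha.1 v hv], fun v hv => ?_, h3⟩
        have := neg_mem (ha.2.1 (a⁻¹ v) (by simpa using add_mem (h3 v) hv))
        rwa [app_inv, neg_sub] at this }
  have hp : IsPGroup p ↥(H ⊓ X) := fun k => ⟨2, Subtype.ext (LinearEquiv.ext fun v => by
    obtain ⟨k, hk, a1, a2, a3⟩ := k
    have b1 : ∀ v, (k ^ p) v - v ∈ Zs K := fun v => by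
      have := pow_app (N := Zs K) (fun w hw => by rwa [a1 w hw]) (a2 _ (a3 v)) p
      rwa [p_smul, sub_zero] at this
    have b2 := pow_app (k := k ^ p) (N := ⊥) (v := v) (by simp)
      (by rw [(pow_mem (show k ∈ X from ⟨a1, a2, a3⟩) p).1 _ (b1 v), sub_self]; exact zero_mem _) p
    rw [p_smul, sub_zero, AddSubgroup.mem_bot, sub_eq_zero, ← pow_mul, ← pow_two] at b2
    exact b2)⟩
  rw [← c.syl.eq_of_le inf_le_left hp fun t ht => ⟨c.syl.le ht, by
    obtain ⟨u, rfl⟩ := (c.mem t).1 ht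
    exact ⟨fun v => tau_fix u, fun v => tau_sub_Z u, tau_sub_B u⟩⟩]
  exact ⟨hk, h1, h2, h3⟩

omit [Fact p.Prime] in
theorem ch (hg : g ∈ H) (hZ : g • Zs K = Zs K) (hB : g • Bs K = Bs K) :
    g ∈ normalizer (T : Set (GA K)) := mem_normalizer_of_cj_mem fun t ht => by
  obtain ⟨u, rfl⟩ := (c.mem t).1 ht
  have e : ∀ v, cj g (tau u) v - v = g (tau u (g⁻¹ v) - g⁻¹ v) := fun v => by
    rw [map_sub, app_inv]; rfl
  refine c.ch0 (cj_mem hg (c.tauH u)) (fun v hv => ?_) (fun v hv => ?_) fun v => ?_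
  · rw [← sub_eq_zero, e, tau_fix u ((inv_mem_of hZ).2 hv), sub_self, map_zero]
  · rw [e, app_mem_of hZ]; exact tau_sub_Z u ((inv_mem_of hB).2 hv)
  · rw [e, app_mem_of hB]; exact tau_sub_B u _

omit [Finite K] [Fact p.Prime] [CharP K p] in
theorem nf {δ : GA K} (hn : δ ∈ normalizer (T : Set (GA K))) (h1 : ∀ x, δ (x, 0, 0) = (x, 0, 0))
    {a : K} (ha : a ≠ 0) (h2 : ∀ y, (δ (0, y, 0)).2 = (a * y, 0)) : ∃ s, ∀ x y z,
      (δ * tau s : GA K) (x, y, z) = (x + ((δ * tau s : GA K) (0, 0, z)).1, a * y, a ^ 2 * z) := by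
  have two := c.two
  have e : ∀ x y z, δ (x, y, z) = (x + (δ (0, y, 0)).1 + (δ (0, 0, z)).1,
      a * y + (δ (0, 0, z)).2.1, (δ (0, 0, z)).2.2) := fun x y z => by
    rw [show (x, y, z) = (x, 0, 0) + (0, y, 0) + ((0, 0, z) : K × K × K) by simp, map_add, map_add, h1]
    ext <;> simp [h2]
  have k : ∀ t z, (δ (0, t * z, 0)).1 = 2 * (t / a) * (δ (0, 0, z)).2.1 ∧
      (t = 1 → (δ (0, 0, z)).2.2 = a ^ 2 * z) := fun t z => by
    have k0 : ∀ t, δ * tau t = tau (t / a) * δ := fun t => by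
      obtain ⟨s, hs⟩ := c.nrm hn t
      have := congrArg Prod.fst (app_eq hs (0, 1, 0))
      simp only [LinearEquiv.mul_apply, tau_apply] at this
      rw [e, e 0 1 0, tau_apply, show ((0, 0, 0) : K × K × K) = 0 from rfl, map_zero] at this
      simp only [mul_zero, add_zero, zero_add, mul_one, Prod.fst_zero, Prod.snd_zero] at this
      rw [hs, show t / a = s from (div_eq_iff ha).2 (mul_left_cancel₀ two (by linear_combination this))]
    have k1 : ∀ t z, δ (t ^ 2 * z, t * z, z) = tau (t / a) (δ (0, 0, z)) := fun t z => by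
      simpa using app_eq (k0 t) (0, 0, z)
    have k2 : (δ (0, 0, z)).2.2 = a ^ 2 * z := by
      have := k1 1 z
      rw [e] at this
      generalize δ (0, 0, z) = w at this ⊢
      obtain ⟨b, c, e⟩ := w
      have := congrArg (·.2.1) this
      simp only [tau_apply, add_comm c, add_left_inj] at this
      field_simp at this
      linear_combination -this
    refine ⟨?_, fun _ => k2⟩
    have := k1 t z
    rw [e] at this
    generalize δ (0, 0, z) = w at this k2 ⊢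
    obtain ⟨b, c, e⟩ := w
    have := congrArg (·.1) this
    simp only [tau_apply] at this k2 ⊢
    rw [k2] at this
    field_simp at this ⊢
    linear_combination this
  have k3 : ∀ z, (δ (0, 0, z)).2.1 = (δ (0, 0, 1)).2.1 * z := fun z => by
    have k4 := (k 1 z).1
    have k5 := (k z 1).1
    rw [one_mul] at k4
    rw [mul_one, k4] at k5
    field_simp at k5
    linear_combination k5
  refine ⟨-(δ (0, 0, 1)).2.1 / a, fun x y z => ?_⟩
  simp only [LinearEquiv.mul_apply, tau_apply]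
  have k6 := fun t => (k t 1).1
  simp only [mul_one] at k6
  rw [e, e (0 + _ + _), k6, k6, (k 1 z).2 rfl, k3 z]
  ext <;> simp <;> field_simp <;> ring

omit [Finite K] [Fact p.Prime] in
theorem nf_neg {δ : GA K} (hH : δ ∈ H) (hn : δ ∈ normalizer (T : Set (GA K)))
    (h1 : ∀ x, δ (x, 0, 0) = (x, 0, 0)) (h2 : ∀ y, (δ (0, y, 0)).2 = (-1 * y, 0)) :
    ∃ s, δ * tau s = dd := by
  obtain ⟨s, e⟩ := c.nf hn h1 (by simp) h2
  refine ⟨s, ?_⟩
  have m := mul_mem hH (c.tauH s)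
  generalize δ * tau s = k at e m
  have e2 : ∀ x y z, (k * k) (x, y, z) = (x + 2 * (k (0, 0, z)).1, y, z) := fun x y z => by
    rw [LinearEquiv.mul_apply, e x, e (x + _)]
    ext <;> simp; ring
  obtain ⟨u, hu⟩ := (c.mem _).1 (c.ch0 (mul_mem m m) (fun ⟨x, y, z⟩ hv => by
    obtain rfl : z = 0 := hv.2
    rw [e2, show ((0, 0, 0) : K × K × K) = 0 from rfl, map_zero]; simp)
    (fun ⟨x, y, z⟩ hv => by rw [e2]; simp) fun ⟨x, y, z⟩ => by rw [e2]; simp)
  have u0 : u = 0 := by simpa [e2, eq_comm] using congrArg (·.2.1) (app_eq hu (0, 0, 1))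
  refine ext3 fun x y z => ?_
  have : (k (0, 0, z)).1 = 0 := by simpa [e2, u0, c.two] using congrArg (·.1) (app_eq hu (0, 0, z))
  rw [e, this]; simp

theorem two1 (hh : h ∈ H) (h1 : v ∈ Bs K) (h2 : v ∈ h • Zs K) : v ∈ Zs K := by
  obtain ⟨x, y, z⟩ := v
  obtain rfl : z = 0 := h1
  refine ⟨by_contra fun hy => c.h0 ?_, rfl⟩
  change y ≠ 0 at hy
  have two := c.two
  have := trick_GA c.syl (v := h⁻¹ (x, y, 0)) (w := h⁻¹ (y0, 0, 0)) (h := h⁻¹ * tau (y0 / (2 * y)) * h)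
    (fun t ht => by obtain ⟨u, rfl⟩ := (c.mem t).1 ht; exact tau_fix u (mem_sm.1 h2))
    (fun t ht => by obtain ⟨u, rfl⟩ := (c.mem t).1 ht; exact tau_fix u (c.hW _ (inv_mem hh)))
    (mul_mem (mul_mem (inv_mem hh) (c.tauH _)) hh) (by
      simp only [LinearEquiv.mul_apply, app_inv, ← map_add, tau_apply]
      congr 1
      ext <;> simp; field_simp) (by simp [LinearEquiv.mul_apply])
  simpa using this

theorem two1' (hg : g ∈ H) (hh : h ∈ H) (h1 : v ∈ g • Bs K) (h2 : v ∈ h • Zs K) : v ∈ g • Zs K :=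
  mem_sm.2 (c.two1 (mul_mem (inv_mem hg) hh) (mem_sm.1 h1) (app_mem_mul.2 h2))

theorem pp {u : GA K} (hu : u ∈ H) (u1 : u ≠ 1) (up : u ^ p = 1) (ud : dd * u = u * dd) : False := by
  obtain ⟨b, hb, e⟩ := c.syl.exists_conj_le (zpowers_le.2 hu) (by
    rintro ⟨_, k, rfl⟩
    refine ⟨1, Subtype.ext ?_⟩
    change (u ^ k) ^ p ^ 1 = 1
    rw [pow_one, ← zpow_natCast, ← zpow_mul, mul_comm, zpow_mul, zpow_natCast, up, one_zpow])
  obtain ⟨s, hs⟩ := (c.mem _).1 (e u (mem_zpowers u))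
  have s0 : s ≠ 0 := fun a => u1 (by simpa [a, tau_zero] using hs)
  have e1 : ∀ v, b (u v) = tau s (b v) := fun v => app_eq (mul_inv_eq_iff_eq_mul.1 hs) v
  have k1 : ∀ v, dd v = -v → u v = v → v = 0 := fun ⟨x, y, z⟩ a1 a2 => by
    have two := c.two
    simp only [dd_apply, Prod.neg_mk, Prod.mk.injEq, true_and, ← add_eq_zero_iff_eq_neg,
      ← two_mul, mul_eq_zero, two, false_or] at a1
    obtain ⟨rfl, rfl⟩ := a1
    have := c.two1 (v := (0, y, 0)) (inv_mem hb) rfl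
      (mem_sm.2 (of_tau_fix two s0 (by rw [inv_inv, ← e1, a2])))
    rw [show y = 0 from this.1]; rfl
  have k2 : ∀ v, dd v = -v → dd (u v - v) = -(u v - v) := fun v a => by
    rw [map_sub, show dd (u v) = u (dd v) from app_eq ud v, a, map_neg]; abel
  have k3 : dd ((0, 1, 0) : K × K × K) = -(0, 1, 0) := by simp
  have k4 := k1 _ (k2 _ (k2 _ k3)) (b.injective (by
    rw [e1, map_sub b, e1, map_sub b, e1]
    exact tau_fix s (tau_sub_Z s (tau_sub_B s _))))
  have := k1 _ k3 (sub_eq_zero.1 (k1 _ (k2 _ k3) (sub_eq_zero.1 k4)))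
  simp at this

theorem pp' (hg : g ∈ H) (e : g⁻¹ * dd * g * tau 1 = tau 1 * (g⁻¹ * dd * g)) : False := by
  refine c.pp (u := g * tau 1 * g⁻¹) (mul_mem (mul_mem hg (c.tauH 1)) (inv_mem hg)) (fun a => ?_) ?_ ?_
  · rw [conj_eq_one_iff] at a
    simpa using congrArg (·.2.1) (app_eq a (0, 0, 1))
  · rw [conj_pow, tau_pow, CharP.cast_eq_zero, zero_mul, tau_zero, mul_one, mul_inv_cancel]
  · calc dd * (g * tau 1 * g⁻¹) = g * (g⁻¹ * dd * g * tau 1) * g⁻¹ := by group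
      _ = _ := by rw [e]; group

theorem one1 (hh : h ∈ H) (hZ : h • Zs K = Zs K) (h1 : v ∈ Bs K) (h2 : v ∈ h • Bs K)
    (h3 : v ∉ Zs K) : h ∈ normalizer (T : Set (GA K)) := by
  refine c.ch hh hZ (AddSubgroup.eq_of_le_of_card_ge (fun w hw => by_contra fun w0 => h3 ?_)
    card_sm.ge)
  have tZ : ∀ w, h⁻¹ w ∈ Bs K → ∀ t ∈ T, t • h⁻¹ w - h⁻¹ w ∈ Zs K := fun w a t ht => by
    obtain ⟨u, rfl⟩ := (c.mem t).1 ht
    exact tau_sub_Z u a
  refine (inv_mem_of hZ).1 (trick_add c.syl (Zs K) (fun t ht n hn => ?_) (tZ w (mem_sm.1 hw))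
    (tZ v (mem_sm.1 h2)) (by rw [p_smul]; exact zero_mem _)
    (h := h⁻¹ * tau (v.2.1 / w.2.2) * h) (mul_mem (mul_mem (inv_mem hh) (c.tauH _)) hh)
    (fun n => ?_) ?_ ?_)
  · obtain ⟨u, rfl⟩ := (c.mem t).1 ht
    exact (app_mem_of (tau_Z u)).2 hn
  · exact (inv_mem_of hZ).trans ((app_mem_of (tau_Z _)).trans (app_mem_of hZ))
  · change h⁻¹ (tau _ (h (h⁻¹ w))) - _ - _ ∈ _
    rw [app_inv, ← map_sub, ← map_sub, inv_mem_of hZ]
    obtain ⟨x, y, z⟩ := w
    change z ≠ 0 at w0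
    simp [w0, mem_Bs.1 h1]
  · change h⁻¹ (tau _ (h (h⁻¹ v))) - _ ∈ _
    rw [app_inv, ← map_sub, inv_mem_of hZ]
    exact tau_sub_Z _ h1

theorem case1 (hd : dd ∈ H) (hg : g ∈ H) (hZ : g • Zs K = Zs K) :
    g ∈ normalizer (T : Set (GA K)) := by
  by_contra hn
  have v1 : ∀ g : GA K, g • Zs K = Zs K → g (0, 1, 0) ∉ Zs K := fun g e a => by
    simpa using (app_mem_of e).1 a
  have z0 : (g (0, 1, 0)).2.2 ≠ 0 := fun a => hn (c.one1 hg hZ a (app_mem.2 rfl) (v1 g hZ))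
  obtain ⟨k, hk, kZ, kd⟩ : ∃ k ∈ H, k • Zs K = Zs K ∧ dd (k (0, 1, 0)) = k (0, 1, 0) := by
    refine ⟨tau (-(g (0, 1, 0)).2.1 / (g (0, 1, 0)).2.2) * g, mul_mem (c.tauH _) hg,
      by rw [mul_smul, hZ, tau_Z], ?_⟩
    rw [LinearEquiv.mul_apply]
    generalize g (0, 1, 0) = w at z0
    obtain ⟨x, y, z⟩ := w
    change z ≠ 0 at z0
    simp [z0]
  have f1 : (k⁻¹ * dd * k : GA K) (0, 1, 0) = (0, 1, 0) := by
    simp only [LinearEquiv.mul_apply, kd, inv_app]
  have f2 : ∀ v ∈ Zs K, (k⁻¹ * dd * k : GA K) v = v := fun v hv => by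
    simp only [LinearEquiv.mul_apply]
    rw [dd, dg_fix _ ((app_mem_of kZ).2 hv), inv_app]
  have n := c.one1 (v := (0, 1, 0)) (mul_mem (mul_mem (inv_mem hk) hd) hk)
    (sm_eq fun v hv => by rwa [f2 v hv]) rfl (by nth_rw 1 [← f1]; exact app_mem.2 rfl) (by simp)
  obtain ⟨s, e⟩ := c.nrm n 1
  have := app_eq e (0, 1, 0)
  rw [LinearEquiv.mul_apply _ (tau 1), LinearEquiv.mul_apply (tau s), f1,
    show tau (1 : K) (0, 1, 0) = (2, 0, 0) + (0, 1, 0) by simp, map_add, f1, f2 _ ⟨rfl, rfl⟩] at this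
  have : s = 1 := by simpa [c.two, eq_comm] using this
  exact c.pp' hk (this ▸ e)

end Ct

end CL.S4F.Bt
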