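import Cfsg.Agent.FUS.SES
import Cfsg.Agent.FUS.MetaAut

/-!
# The Sylow subgroup of `Sp₄(q)` in defining characteristic: model and tools

`U K` is `K³ ⋊ K`; the element `⟨t, x, y, z⟩` is `n(x,y,z) m(t)` and `m(t)` acts on `A = K³` through
`τ_t (x, y, z) = (x + 2 t y + t² z, y + t z, z)`.
-/

set_option autoImplicit false

namespace CL.S4F

open Subgroup Cfsg Cfsg.FusionSystem CL.Fus

/-- the model of a Sylow `p`-subgroup of `Sp₄(K)` -/
@[ext] structure U (K : Type*) where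
  t : K
  x : K
  y : K
  z : K

variable {K : Type*} [Field K]

instance : Mul (U K) := ⟨fun a b =>
  ⟨a.t + b.t, a.x + b.x + 2 * a.t * b.y + a.t ^ 2 * b.z, a.y + b.y + a.t * b.z, a.z + b.z⟩⟩
instance : One (U K) := ⟨⟨0, 0, 0, 0⟩⟩
instance : Inv (U K) := ⟨fun a => ⟨-a.t, -a.x + 2 * a.t * a.y - a.t ^ 2 * a.z, -a.y + a.t * a.z, -a.z⟩⟩

@[simp] theorem mul_t (a b : U K) : (a * b).t = a.t + b.t := rfl
@[simp] theorem mul_x (a b : U K) : (a * b).x = a.x + b.x + 2 * a.t * b.y + a.t ^ 2 * b.z := rfl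
@[simp] theorem mul_y (a b : U K) : (a * b).y = a.y + b.y + a.t * b.z := rfl
@[simp] theorem mul_z (a b : U K) : (a * b).z = a.z + b.z := rfl
@[simp] theorem one_t : (1 : U K).t = 0 := rfl
@[simp] theorem one_x : (1 : U K).x = 0 := rfl
@[simp] theorem one_y : (1 : U K).y = 0 := rfl
@[simp] theorem one_z : (1 : U K).z = 0 := rfl
@[simp] theorem inv_t (a : U K) : a⁻¹.t = -a.t := rfl
@[simp] theorem inv_x (a : U K) : a⁻¹.x = -a.x + 2 * a.t * a.y - a.t ^ 2 * a.z := rfl
@[simp] theorem inv_y (a : U K) : a⁻¹.y = -a.y + a.t * a.z := rfl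
@[simp] theorem inv_z (a : U K) : a⁻¹.z = -a.z := rfl

instance : Group (U K) := Group.ofLeftAxioms
  (fun a b c => by ext <;> simp <;> ring) (fun a => by ext <;> simp) (fun a => by ext <;> simp; ring)

@[simp] theorem cj_t (g h : U K) : (cj g h).t = h.t := by simp [cj]
@[simp] theorem cj_x (g h : U K) :
    (cj g h).x = h.x + 2 * g.t * h.y + g.t ^ 2 * h.z - 2 * h.t * g.y - h.t ^ 2 * g.z := by simp [cj]; ring
@[simp] theorem cj_y (g h : U K) : (cj g h).y = h.y + g.t * h.z - h.t * g.z := by simp [cj]; ring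
@[simp] theorem cj_z (g h : U K) : (cj g h).z = h.z := by simp [cj]

/-- coordinates -/
def U.equiv (K : Type*) : U K ≃ K × K × K × K where
  toFun a := (a.t, a.x, a.y, a.z)
  invFun v := ⟨v.1, v.2.1, v.2.2.1, v.2.2.2⟩
  left_inv _ := rfl
  right_inv _ := rfl

instance [Finite K] : Finite (U K) := Finite.of_equiv _ (U.equiv K).symm

omit [Field K] in
theorem card_U : Nat.card (U K) = Nat.card K ^ 4 := by
  rw [Nat.card_congr (U.equiv K)]; simp [Nat.card_prod]; ring

theorem isPGroup_U [Finite K] (p : ℕ) [Fact p.Prime] [CharP K p] : IsPGroup p (U K) := by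
  have := Fintype.ofFinite K
  obtain ⟨n, -, h⟩ := FiniteField.card K p
  exact .of_card (n := n * 4) (by rw [card_U, Nat.card_eq_fintype_card, h, pow_mul])

theorem isPGroup_top [Finite K] (p : ℕ) [Fact p.Prime] [CharP K p] : IsPGroup p (⊤ : Subgroup (U K)) :=
  (isPGroup_U p).to_subgroup ⊤

variable (K) in
/-- the long root subgroup (the centre for `p` odd) -/
def Zx : Subgroup (U K) where
  carrier := {g | g.t = 0 ∧ g.y = 0 ∧ g.z = 0}
  one_mem' := ⟨rfl, rfl, rfl⟩
  mul_mem' := fun {a b} ha hb => by simp [ha.1, ha.2.1, ha.2.2, hb.1, hb.2.1, hb.2.2]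
  inv_mem' := fun {a} ha => by simp [ha.1, ha.2.1, ha.2.2]

variable (K) in
/-- the second centre for `p` odd, the centre for `p = 2` -/
def BB : Subgroup (U K) where
  carrier := {g | g.t = 0 ∧ g.z = 0}
  one_mem' := ⟨rfl, rfl⟩
  mul_mem' := fun {a b} ha hb => by simp [ha.1, ha.2, hb.1, hb.2]
  inv_mem' := fun {a} ha => by simp [ha.1, ha.2]

variable (K) in
/-- the abelian subgroup of order `q³` -/
def AA : Subgroup (U K) where
  carrier := {g | g.t = 0}
  one_mem' := rfl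
  mul_mem' := fun {a b} (ha : a.t = 0) (hb : b.t = 0) => by simp [ha, hb]
  inv_mem' := fun {a} (ha : a.t = 0) => by simp [ha]

/-- the other subgroups of order `q³` over a line of `S/B`; `QQ 0` is the other abelian subgroup for `p = 2` -/
def QQ (c : K) : Subgroup (U K) where
  carrier := {g | g.z = c * g.t}
  one_mem' := by simp
  mul_mem' := fun {a b} (ha : a.z = _) (hb : b.z = _) => by simp [ha, hb, mul_add]
  inv_mem' := fun {a} (ha : a.z = _) => by simp [ha]

@[simp] theorem mem_Zx {g : U K} : g ∈ Zx K ↔ g.t = 0 ∧ g.y = 0 ∧ g.z = 0 := Iff.rfl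
@[simp] theorem mem_BB {g : U K} : g ∈ BB K ↔ g.t = 0 ∧ g.z = 0 := Iff.rfl
@[simp] theorem mem_AA {g : U K} : g ∈ AA K ↔ g.t = 0 := Iff.rfl
@[simp] theorem mem_QQ {c : K} {g : U K} : g ∈ QQ c ↔ g.z = c * g.t := Iff.rfl

/-- elements of `Zx` -/
def zx (a : K) : U K := ⟨0, a, 0, 0⟩

@[simp] theorem zx_t (a : K) : (zx a).t = 0 := rfl
@[simp] theorem zx_x (a : K) : (zx a).x = a := rfl
@[simp] theorem zx_y (a : K) : (zx a).y = 0 := rfl
@[simp] theorem zx_z (a : K) : (zx a).z = 0 := rfl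

theorem zx_mem (a : K) : zx a ∈ Zx K := ⟨rfl, rfl, rfl⟩
theorem eq_zx {g : U K} (h : g ∈ Zx K) : g = zx g.x := by ext <;> simp [h.1, h.2.1, h.2.2]
theorem mul_zx (g : U K) (a : K) : g * zx a = zx a * g := by ext <;> simp [add_comm]

/-- every subgroup containing `B` is normal -/
theorem mem_normalizer_of_BB_le [Finite K] {P : Subgroup (U K)} (h : BB K ≤ P) (s : U K) :
    s ∈ normalizer (P : Set (U K)) := mem_normalizer_of_cj_mem fun x hx => by
  have : cj s x * x⁻¹ ∈ P := h (by simp)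
  simpa using mul_mem this hx

theorem Zx_le_BB : Zx K ≤ BB K := fun _ h => ⟨h.1, h.2.2⟩
theorem BB_le_AA : BB K ≤ AA K := fun _ h => h.1
theorem BB_le_QQ (c : K) : BB K ≤ QQ c := fun _ h => by simp [h.1, h.2]

theorem Zx_le_of_centric {F : FusionSystem (⊤ : Subgroup (U K))} {E : Subgroup (U K)} (hE : F.IsCentric E) :
    Zx K ≤ E := fun z hz => centralizerIn_le_of_isCentric hE ⟨trivial, fun s _ => by rw [eq_zx hz]; exact mul_zx s _⟩

/-! ### Additive automorphisms of `K³` -/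

/-- the group of additive automorphisms of `K³` -/
abbrev GA (K : Type*) [Field K] := (K × K × K) ≃ₗ[ℤ] (K × K × K)

instance [Finite K] : Finite (GA K) := DFunLike.finite _

/-- automorphisms of a group with coordinates in `K³` -/
def toGA {P : Type*} [Group P] (e : P ≃* Multiplicative (K × K × K)) : MulAut P →* GA K :=
  MonoidHom.mk' (fun α => (MulEquiv.toAdditive ((e.symm.trans α).trans e)).toIntLinearEquiv) fun a b =>
    LinearEquiv.ext fun v => show e (a (b (e.symm (.ofAdd v)))) = e (a (e.symm (e (b (e.symm (.ofAdd v)))))) by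
      rw [e.symm_apply_apply]

theorem toGA_apply {P : Type*} [Group P] (e : P ≃* Multiplicative (K × K × K)) (α : MulAut P) (g : P) :
    toGA e α (e g).toAdd = (e (α g)).toAdd := by
  change e (α (e.symm (e g))) = _
  rw [e.symm_apply_apply]; rfl

theorem toGA_injective {P : Type*} [Group P] (e : P ≃* Multiplicative (K × K × K)) :
    Function.Injective (toGA e) := (injective_iff_map_eq_one _).2 fun α h => by
  ext g
  have := toGA_apply e α g
  rw [h] at this
  exact (e.injective this).symm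

variable (K) in
/-- coordinates `(x, y, z)` on `A` -/
def eA : AA K ≃* Multiplicative (K × K × K) where
  toFun g := .ofAdd (g.1.x, g.1.y, g.1.z)
  invFun v := ⟨⟨0, v.toAdd.1, v.toAdd.2.1, v.toAdd.2.2⟩, rfl⟩
  left_inv g := Subtype.ext (by ext <;> simp [mem_AA.1 g.2])
  right_inv _ := rfl
  map_mul' g h := by
    rw [← ofAdd_add]; simp [mem_AA.1 g.2]

/-- the action of `α ∈ Aut(A)` in coordinates -/
theorem toGA_eA (α : MulAut (AA K)) (x y z : K) : toGA (eA K) α (x, y, z) =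
    ((autFun α ⟨0, x, y, z⟩).x, (autFun α ⟨0, x, y, z⟩).y, (autFun α ⟨0, x, y, z⟩).z) := by
  rw [autFun_of_mem α (show (⟨0, x, y, z⟩ : U K) ∈ AA K from rfl)]
  exact toGA_apply (eA K) α ⟨⟨0, x, y, z⟩, rfl⟩

variable (K) in
/-- coordinates `(x, y, t)` on `QQ 0` in characteristic two -/
def eQ [CharP K 2] : QQ (0 : K) ≃* Multiplicative (K × K × K) where
  toFun g := .ofAdd (g.1.x, g.1.y, g.1.t)
  invFun v := ⟨⟨v.toAdd.2.2, v.toAdd.1, v.toAdd.2.1, 0⟩, by simp⟩
  left_inv g := Subtype.ext (by ext <;> simp [mem_QQ.1 g.2])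
  right_inv _ := rfl
  map_mul' g h := by
    rw [← ofAdd_add]; simp [mem_QQ.1 h.2, CharTwo.two_eq_zero]

theorem toGA_eQ [CharP K 2] (α : MulAut (QQ (0 : K))) (x y t : K) : toGA (eQ K) α (x, y, t) =
    ((autFun α ⟨t, x, y, 0⟩).x, (autFun α ⟨t, x, y, 0⟩).y, (autFun α ⟨t, x, y, 0⟩).t) := by
  rw [autFun_of_mem α (show (⟨t, x, y, 0⟩ : U K) ∈ QQ 0 by simp)]
  exact toGA_apply (eQ K) α ⟨⟨t, x, y, 0⟩, by simp⟩

/-- `T` is the group of the maps `(x, y, z) ↦ (x + c u y + β u z, y + u z, z)`, `u ∈ K`. -/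
def IsTau (c : K) (β : K → K → K) (T : Subgroup (GA K)) : Prop :=
  (∀ τ ∈ T, ∃ u, ∀ x y z, τ (x, y, z) = (x + c * u * y + β u z, y + u * z, z)) ∧
    ∀ u, ∃ τ ∈ T, ∀ x y z, τ (x, y, z) = (x + c * u * y + β u z, y + u * z, z)

theorem isTau_A [Finite K] : IsTau (2 : K) (fun u z => u ^ 2 * z) ((autInducedBy ⊤ (AA K)).map (toGA (eA K))) := by
  have key : ∀ (s : U K) (α : MulAut (AA K)), Set.EqOn (autFun α) (cj s) (AA K) → ∀ x y z,
      toGA (eA K) α (x, y, z) = (x + 2 * s.t * y + s.t ^ 2 * z, y + s.t * z, z) := fun s α e x y z => by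
    rw [toGA_eA, e (show (⟨0, x, y, z⟩ : U K) ∈ AA K from rfl)]; simp
  refine ⟨?_, fun u => ?_⟩
  · rintro _ ⟨α, hα, rfl⟩
    obtain ⟨s, -, e⟩ := mem_autInducedBy_iff.1 hα
    exact ⟨s.t, key s α e⟩
  · have hn := mem_normalizer_of_BB_le BB_le_AA (⟨u, 0, 0, 0⟩ : U K)
    exact ⟨_, ⟨_, cjAut_mem_autInducedBy (mem_top _) hn, rfl⟩, key _ _ (autFun_cjAut hn)⟩

theorem isTau_Q [Finite K] [CharP K 2] :
    IsTau (0 : K) (fun u t => u * t ^ 2) ((autInducedBy ⊤ (QQ (0 : K))).map (toGA (eQ K))) := by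
  have key : ∀ (s : U K) (α : MulAut (QQ (0 : K))), Set.EqOn (autFun α) (cj s) (QQ (0 : K)) → ∀ x y t,
      toGA (eQ K) α (x, y, t) = (x + 0 * s.z * y + s.z * t ^ 2, y + s.z * t, t) := fun s α e x y t => by
    rw [toGA_eQ, e (show (⟨t, x, y, 0⟩ : U K) ∈ QQ 0 by simp)]
    simp [CharTwo.two_eq_zero, CharTwo.sub_eq_add, mul_comm]
  refine ⟨?_, fun u => ?_⟩
  · rintro _ ⟨α, hα, rfl⟩
    obtain ⟨s, -, e⟩ := mem_autInducedBy_iff.1 hα
    exact ⟨s.z, key s α e⟩
  · have hn := mem_normalizer_of_BB_le (BB_le_QQ (0 : K)) (⟨0, 0, 0, u⟩ : U K)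
    exact ⟨_, ⟨_, cjAut_mem_autInducedBy (mem_top _) hn, rfl⟩, key _ _ (autFun_cjAut hn)⟩

/-! ### The Sylow trick -/

section trick
variable {G : Type*} [Group G] {p : ℕ} [Fact p.Prime] {T H X : Subgroup G}

/-- An element of `H` normalizing an overgroup `X` of a Sylow subgroup and with `p`-th power in `X` lies in `X`. -/
theorem trick [Finite H] (hT : SylIn p T H) (hTX : T ≤ X) (hXH : X ≤ H) {h : G} (hh : h ∈ H)
    (hn : h ∈ normalizer (X : Set G)) (hp : h ^ p ∈ X) : h ∈ X := by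
  have h1 : X ⊔ zpowers h ≤ H := sup_le hXH (zpowers_le.2 hh)
  have h2 := hT.not_dvd_relIndex
  rw [← relIndex_mul_relIndex T X H hTX hXH, ← relIndex_mul_relIndex X _ H le_sup_left h1] at h2
  rcases (Nat.dvd_prime Fact.out).1 (MC.relIndex_sup_zpowers_dvd_of_pow_mem hn hp) with e | e
  · exact relIndex_eq_one.1 e (mem_sup_right (mem_zpowers h))
  · exact absurd (dvd_mul_of_dvd_right (dvd_mul_of_dvd_left (e ▸ dvd_rfl) _) _) h2

/-- A subgroup containing a Sylow `2`-subgroup and all squares is everything. -/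
theorem le_of_sq [Finite H] (hT : SylIn 2 T H) (hTX : T ≤ X) (hXH : X ≤ H) (hs : ∀ h ∈ H, h * h ∈ X) : H ≤ X := by
  have := finite_of_le hXH
  refine fun h hh => trick hT hTX hXH hh (mem_normalizer_of_cj_mem fun x hx => ?_) (by rw [pow_two]; exact hs h hh)
  have := mul_mem (mul_mem (hs _ (mul_mem hh (hXH hx))) (inv_mem hx)) (hs _ (inv_mem hh))
  convert this using 1
  simp [cj, mul_assoc]

/-- The trick for a group acting on an additive group, modulo an invariant subgroup `N`: if the Sylow subgroup `T`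
fixes `v` and `w` modulo `N` and `h v ≡ v + w`, `h w ≡ w`, then `w ∈ N`. -/
theorem trick_add {M : Type*} [AddCommGroup M] [DistribMulAction G M] [Finite H] (hT : SylIn p T H)
    (N : AddSubgroup M) (hTN : ∀ τ ∈ T, ∀ n ∈ N, τ • n ∈ N) {v w : M} (hv : ∀ τ ∈ T, τ • v - v ∈ N)
    (hw : ∀ τ ∈ T, τ • w - w ∈ N) (hpw : p • w ∈ N) {h : G} (hh : h ∈ H) (hN : ∀ n, h • n ∈ N ↔ n ∈ N)
    (h1 : h • v - v - w ∈ N) (h2 : h • w - w ∈ N) : w ∈ N := by
  let X : Subgroup G := H ⊓
    { carrier := {g | (∀ n, g • n ∈ N ↔ n ∈ N) ∧ g • v - v ∈ N ∧ g • w - w ∈ N}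
      one_mem' := by simp
      mul_mem' := fun {a b} ha hb => ⟨fun n => by rw [mul_smul, ha.1, hb.1], by
        convert add_mem ((ha.1 _).2 hb.2.1) ha.2.1 using 1; simp [mul_smul, smul_sub], by
        convert add_mem ((ha.1 _).2 hb.2.2) ha.2.2 using 1; simp [mul_smul, smul_sub]⟩
      inv_mem' := fun {a} ha => ⟨fun n => by rw [← ha.1, smul_inv_smul], by
        rw [← ha.1, smul_sub, smul_inv_smul, ← neg_sub]; exact neg_mem ha.2.1, by
        rw [← ha.1, smul_sub, smul_inv_smul, ← neg_sub]; exact neg_mem ha.2.2⟩ }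
  have := finite_of_le (show X ≤ H from inf_le_left)
  have hk : ∀ k : ℕ, (∀ n, h ^ k • n ∈ N ↔ n ∈ N) ∧ h ^ k • v - v - k • w ∈ N ∧ h ^ k • w - w ∈ N := fun k => by
    induction k with
    | zero => simp
    | succ k ih =>
      refine ⟨fun n => by rw [pow_succ', mul_smul, hN, ih.1], ?_, ?_⟩
      · convert add_mem (add_mem ((hN _).2 ih.2.1) h1) (nsmul_mem h2 k) using 1
        simp only [pow_succ', mul_smul, smul_sub, succ_nsmul, smul_comm h k w]; abel
      · convert add_mem ((hN _).2 ih.2.2) h2 using 1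
        simp only [pow_succ', mul_smul, smul_sub]; abel
  have hX : h⁻¹ ∈ X := by
    refine trick (X := X) hT (fun τ hτ => ⟨hT.le hτ, fun n => ⟨fun e => ?_, hTN τ hτ n⟩, hv τ hτ, hw τ hτ⟩) inf_le_left
      (inv_mem hh) (mem_normalizer_of_cj_mem fun x hx => ⟨cj_mem (inv_mem hh) hx.1, fun n => ?_, ?_, ?_⟩) ?_
    · simpa using hTN _ (inv_mem hτ) _ e
    · rw [← hN, cj, inv_inv, mul_assoc, mul_smul, smul_inv_smul, mul_smul, hx.2.1, hN]
    · rw [← hN, cj, inv_inv, mul_assoc, mul_smul, smul_sub, smul_inv_smul, mul_smul]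
      convert sub_mem (add_mem (add_mem ((hx.2.1 _).2 h1) hx.2.2.1) hx.2.2.2) h1 using 1
      simp only [smul_sub]; abel
    · rw [← hN, cj, inv_inv, mul_assoc, mul_smul, smul_sub, smul_inv_smul, mul_smul]
      convert sub_mem (add_mem ((hx.2.1 _).2 h2) hx.2.2.2) h2 using 1
      simp only [smul_sub]; abel
    · rw [inv_pow]
      refine inv_mem ⟨pow_mem hh p, (hk p).1, ?_, (hk p).2.2⟩
      simpa using add_mem (hk p).2.1 hpw
  simpa using sub_mem (inv_mem_iff.1 hX).2.2.1 h1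

end trick

/-- `trick_add` in `GA K` without a modulus. -/
theorem trick_GA [Finite K] {p : ℕ} [Fact p.Prime] [CharP K p] {T H : Subgroup (GA K)} (hT : SylIn p T H)
    {v w : K × K × K} (hv : ∀ τ ∈ T, τ v = v) (hw : ∀ τ ∈ T, τ w = w) {h : GA K} (hh : h ∈ H)
    (h1 : h v = v + w) (h2 : h w = w) : w = 0 :=
  AddSubgroup.mem_bot.1 (trick_add hT ⊥ (by simp) (v := v) (by simpa [sub_eq_zero] using hv)
    (by simpa [sub_eq_zero] using hw) (by
      rw [← Nat.cast_smul_eq_nsmul K, CharP.cast_eq_zero, zero_smul]; exact zero_mem _) hh (by simp)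
    (by simp [h1]) (by simp [h2]))

/-- The trick for automorphisms of a subgroup. -/
theorem trick_aut {Ω : Type*} [Group Ω] {p : ℕ} [Fact p.Prime] {P : Subgroup Ω} [Finite P] {T H : Subgroup (MulAut P)}
    (hT : SylIn p T H) {v w : Ω} (hvP : v ∈ P) (hwP : w ∈ P) (hpw : w ^ p = 1) (hv : ∀ τ ∈ T, autFun τ v = v)
    (hw : ∀ τ ∈ T, autFun τ w = w) {h : MulAut P} (hh : h ∈ H) (h1 : autFun h v = v * w) (h2 : autFun h w = w) :
    w = 1 := by
  let X := H ⊓ (fixElt P v hvP ⊓ fixElt P w hwP)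
  have hk : ∀ k : ℕ, autFun (h ^ k) v = v * w ^ k := fun k => by
    induction k with
    | zero => simp [autFun_one hvP]
    | succ k ih =>
      rw [pow_succ', autFun_mul _ _ hvP, ih, isHomOn_autFun h hvP (pow_mem hwP k), h1, autFun_pow_apply h hwP, h2,
        pow_succ', mul_assoc]
  have hX : h⁻¹ ∈ X := by
    refine trick (X := X) hT (fun τ hτ => ⟨hT.le hτ, hv τ hτ, hw τ hτ⟩) inf_le_left
      (inv_mem hh) (mem_normalizer_of_cj_mem fun x hx => ⟨cj_mem (inv_mem hh) hx.1, ?_, ?_⟩) ?_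
    · change autFun _ v = v
      rw [cj, inv_inv, autFun_mul _ _ hvP, autFun_mul _ _ (autFun_mem h hvP), h1, isHomOn_autFun x hvP hwP,
        show autFun x v = v from hx.2.1, show autFun x w = w from hx.2.2, ← h1, autFun_inv_autFun h hvP]
    · change autFun _ w = w
      rw [cj, inv_inv, autFun_mul _ _ hwP, autFun_mul _ _ (autFun_mem h hwP), h2, show autFun x w = w from hx.2.2,
        autFun_inv_of_fix hwP h2]
    · rw [inv_pow]
      exact inv_mem ⟨pow_mem hh p, show autFun _ v = v by rw [hk, hpw, mul_one], autFun_pow_of_fix hwP h2 p⟩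
  have : autFun h v = v := (inv_mem_iff.1 hX).2.1
  rwa [h1, mul_eq_left] at this

end CL.S4F
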