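import Cfsg.Agent.FUS.S4.Tools
import Cfsg.Agent.CLAS.SpForm

/-! # `U K` is a Sylow subgroup of `Sp₄(K)` -/

set_option autoImplicit false

namespace CL.S4F

open Subgroup Cfsg Cfsg.FusionSystem CL.Fus Matrix

variable {K : Type*} [Field K]

variable (K) in
/-- the embedding of the model into the symplectic group -/
def toSp : U K →* symplecticGroup (Fin 2) K := MonoidHom.mk' (fun g =>
  ⟨fromBlocks !![1, g.t; 0, 1] !![g.x - g.t * g.y, g.y; g.y - g.t * g.z, g.z] 0 !![1, 0; -g.t, 1],
    SymplecticGroup.fromBlocks_mem_iff.2 ⟨by simp, by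
      ext i j; fin_cases i <;> fin_cases j <;> simp [mul_apply] <;> ring, by
      ext i j; fin_cases i <;> fin_cases j <;> simp [mul_apply]⟩⟩) fun v w => Subtype.ext (by
    simp [fromBlocks_multiply]
    refine ⟨add_comm _ _, ⟨⟨by ring, by ring⟩, by ring, add_comm _ _⟩, by ring⟩)

theorem toSp_injective : Function.Injective (toSp K) := (injective_iff_map_eq_one _).2 fun g hg => by
  have h := congrArg Subtype.val hg
  have h1 : g.t = 0 := by simpa [toSp] using congrFun (congrFun h (.inl 0)) (.inl 1)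
  have h2 : g.x - g.t * g.y = 0 := by simpa [toSp] using congrFun (congrFun h (.inl 0)) (.inr 0)
  have h3 : g.y = 0 := by simpa [toSp] using congrFun (congrFun h (.inl 0)) (.inr 1)
  have h4 : g.z = 0 := by simpa [toSp] using congrFun (congrFun h (.inl 1)) (.inr 1)
  ext <;> simp_all

theorem exists_equiv_sylow [Fintype K] {p : ℕ} [hp : Fact p.Prime] [CharP K p]
    (T : Sylow p (symplecticGroup (Fin 2) K)) :
    Nonempty ((T : Subgroup (symplecticGroup (Fin 2) K)) ≃* (⊤ : Subgroup (U K))) := by
  have c1 := (Nat.card_congr (MonoidHom.ofInjective (toSp_injective (K := K))).toEquiv).symm.trans card_U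
  have hq : p ∣ Nat.card K := by
    obtain ⟨n, -, h⟩ := FiniteField.card K p
    rw [Nat.card_eq_fintype_card, h]; exact dvd_pow_self p n.ne_zero
  have hP : IsPGroup p (toSp K).range := (isPGroup_U p).of_equiv (MonoidHom.ofInjective toSp_injective)
  let P := hP.toSylow fun e => by
    have c2 := (toSp K).range.card_mul_index
    rw [c1, CL.Sp.card_symplecticGroup, Finset.prod_range_succ, Finset.prod_range_one] at c2
    rw [Nat.eq_of_mul_eq_mul_left (pow_pos Nat.card_pos 4) c2] at e
    rcases (Nat.Prime.dvd_mul hp.out).1 e with e | e <;> exact hp.out.one_lt.ne' (Nat.dvd_one.1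
      ((Nat.dvd_sub_iff_right (Nat.one_le_pow _ _ Nat.card_pos) (hq.trans (dvd_pow_self _ (by decide)))).1 e))
  exact ⟨(T.equiv P).trans ((MonoidHom.ofInjective toSp_injective).symm.trans topEquiv.symm)⟩

/-- reduction of the theorem to the model -/
theorem core_eq_bot_of_model {Ω : Type*} [Group Ω] {S : Subgroup Ω} {p : ℕ} {F : FusionSystem S}
    (e : S ≃* (⊤ : Subgroup (U K))) (hex : F.IsExotic p)
    (h : ∀ F' : FusionSystem (⊤ : Subgroup (U K)), F'.IsSaturated p → F'.core ≠ ⊥ → F'.IsRealizable p) :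
    F.core = ⊥ := by
  obtain ⟨f, f', hi, -⟩ := exists_isoOn_of_equiv e
  obtain ⟨F', hc⟩ := hi.exists_corr F
  by_contra h0
  exact hex.2 (hc.symm.isRealizable (h F' (hc.isSaturated hex.1) fun e => h0 (hc.core_eq_bot_iff.1 e)))

end CL.S4F
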