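import Cfsg.Agent.FUS.S4.Tools

/-! # Essential subgroups for odd `p` -/

set_option autoImplicit false

namespace CL.S4F

open Subgroup Cfsg Cfsg.FusionSystem CL.Fus

variable {K : Type*} [Field K]

theorem comm_mem_Zx {w g : U K} : g⁻¹ * cj w g ∈ Zx K ↔ w.t * g.z = g.t * w.z := by
  simp only [mem_Zx, mul_t, inv_t, cj_t, mul_y, inv_y, cj_y, cj_z, mul_z, inv_z, neg_add_cancel, true_and, and_true]
  exact ⟨fun h => by linear_combination h, fun h => by linear_combination h⟩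

theorem cj_eq_iff {w g : U K} : cj w g = g ↔ w.t * g.z = g.t * w.z ∧
    2 * w.t * g.y + w.t ^ 2 * g.z = 2 * g.t * w.y + g.t ^ 2 * w.z := by
  refine ⟨fun h => ⟨?_, ?_⟩, fun h => ?_⟩
  · linear_combination congrArg U.y h - cj_y w g
  · linear_combination congrArg U.x h - cj_x w g
  · ext
    · simp
    · rw [cj_x]; linear_combination h.2
    · rw [cj_y]; linear_combination h.1
    · simp

theorem zx_pow (a : K) (n : ℕ) : zx a ^ n = zx (n * a) := by
  induction n with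
  | zero => ext <;> simp
  | succ n ih => rw [pow_succ, ih]; ext <;> simp [add_mul]

theorem cj_of_mem_Zx (s : U K) {z : U K} (hz : z ∈ Zx K) : cj s z = z := by
  rw [eq_zx hz, cj_eq_self_iff.2 (mul_zx _ _)]

theorem two_ne (K : Type*) [Field K] {p : ℕ} [Fact p.Prime] [CharP K p] (hp : p ≠ 2) : (2 : K) ≠ 0 := fun h =>
  hp ((Nat.prime_dvd_prime_iff_eq Fact.out Nat.prime_two).1 ((CharP.cast_eq_zero_iff K p 2).1 (by exact_mod_cast h)))

theorem autFun_fix_Zx {E : Subgroup (U K)} (hZ : Zx K ≤ E) {τ : MulAut E} (hτ : τ ∈ autInducedBy ⊤ E) {z : U K}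
    (hz : z ∈ Zx K) : autFun τ z = z := by
  obtain ⟨s, -, e⟩ := mem_autInducedBy_iff.1 hτ
  rw [e (hZ hz), cj_of_mem_Zx s hz]

variable {F : FusionSystem (⊤ : Subgroup (U K))} {p : ℕ} [Finite K] [Fact p.Prime] [CharP K p]

theorem autInv_Zx (hp : p ≠ 2) (hF : F.IsSaturated p) {W : Subgroup (U K)} (hW : F.StronglyClosed W)
    (hWZ : W ≤ Zx K) (hW1 : W ≠ ⊥) {E : Subgroup (U K)} (hE : F.IsEssential p E) (hA : ¬ E ≤ AA K) :
    AutInv (F.autGroup E) (Zx K) := by
  intro α hα z hzE hz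
  have h2 := two_ne K hp
  have hZE := Zx_le_of_centric hE.1
  have hv := autFun_mem α hzE
  have ht : (autFun α z).t = 0 := by
    by_contra ht
    obtain ⟨⟨w, hw⟩, hw1⟩ := ne_bot_iff_exists_ne_one.1 hW1
    have hwZ := hWZ hw
    let b : U K := ⟨0, 0, -w.x / (2 * (autFun α z).t), 0⟩
    have hn : b ∈ normalizer (E : Set (U K)) := mem_normalizer_of_cj_mem fun x hx => by
      simpa using mul_mem hx (hZE (comm_mem_Zx.2 (show b.t * x.z = x.t * b.z by simp [b])))
    refine hw1 (Subtype.ext (trick_aut ((sylIn_of_fullyNormalized (isPGroup_top p) hF hE.2.1).conj hα) hv (hZE hwZ)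
      (show w ^ p = 1 by rw [eq_zx hwZ, zx_pow, CharP.cast_eq_zero, zero_mul]; rfl) ?_ ?_
      (cjAut_mem_autGroup F le_top trivial hn) ?_ ?_))
    · rintro _ ⟨τ, hτ, rfl⟩
      change autFun (α * τ * α⁻¹) _ = _
      rw [autFun_mul _ _ hv, autFun_inv_autFun α hzE, autFun_mul _ _ hzE, autFun_fix_Zx hZE hτ hz]
    · rintro _ ⟨τ, hτ, rfl⟩
      change autFun (α * τ * α⁻¹) _ = _
      have h1 := hWZ (autInv_of_sc hW le_top _ (inv_mem hα) w (hZE hwZ) hw)
      rw [autFun_mul _ _ (hZE hwZ), autFun_mul _ _ (hZE h1), autFun_fix_Zx hZE hτ h1, autFun_autFun_inv α (hZE hwZ)]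
    · rw [autFun_cjAut hn hv]
      ext <;> simp [b, hwZ.1, hwZ.2.1, hwZ.2.2]
      field_simp
      ring
    · rw [autFun_cjAut hn (hZE hwZ), cj_of_mem_Zx b hwZ]
  obtain ⟨e, he, het⟩ := SetLike.not_le_iff_exists.1 hA
  have h1 : cj e (autFun α z) = autFun α z := by
    conv_lhs => rw [← autFun_autFun_inv α he, ← (isHomOn_autFun α).map_cj (autFun_mem _ he) hzE, cj_of_mem_Zx _ hz]
  rw [cj_eq_iff, ht] at h1
  have h3 : (autFun α z).z = 0 := (mul_eq_zero.1 (h1.1.trans (zero_mul _))).resolve_left het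
  refine ⟨ht, ?_, h3⟩
  have h4 := h1.2
  rw [h3] at h4
  exact (mul_eq_zero.1 (show (2 * e.t) * _ = 0 by linear_combination h4)).resolve_left (mul_ne_zero h2 het)

omit [Finite K] in
theorem AA_comm {a b : U K} (ha : a ∈ AA K) (hb : b ∈ AA K) : a * b = b * a := by
  ext <;> simp [mem_AA.1 ha, mem_AA.1 hb, add_comm]

theorem ess_odd (hp : p ≠ 2) (hF : F.IsSaturated p) {W : Subgroup (U K)} (hW : F.StronglyClosed W)
    (hWZ : W ≤ Zx K) (hW1 : W ≠ ⊥) {E : Subgroup (U K)} (hE : F.IsEssential p E) : E = AA K ∨ ∃ c, E = QQ c := by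
  have hC := centralizerIn_le_of_isCentric hE.1
  have hZE := Zx_le_of_centric hE.1
  have hS := isPGroup_top (K := K) p
  by_cases hA : E ≤ AA K
  · exact .inl (le_antisymm hA fun a ha => hC ⟨trivial, fun g hg => AA_comm (hA hg) ha⟩)
  have hZ := autInv_Zx hp hF hW hWZ hW1 hE hA
  obtain ⟨e, he, het⟩ := SetLike.not_le_iff_exists.1 hA
  rw [mem_AA] at het
  by_cases hQ : E ≤ QQ (e.z / e.t)
  · refine .inr ⟨_, le_antisymm hQ fun s hs => ?_⟩
    have hc : ∀ x ∈ E, x⁻¹ * cj s x ∈ Zx K := fun x hx => comm_mem_Zx.2 (by rw [hQ hx, hs]; ring)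
    have hn : s ∈ normalizer (E : Set (U K)) := mem_normalizer_of_cj_mem fun x hx => by
      simpa using mul_mem hx (hZE (hc x hx))
    refine mem_of_chain hS hC (isRadical_of_essential hS hF hE) trivial hn le_rfl
      (.tail (.single (Or.inl ⟨autInv_bot _, hZ, fun y hy hyZ => ?_⟩))
        (Or.inl ⟨hZ, autInv_of_le _ le_rfl, fun y hy _ => ?_⟩)) <;> rw [autFun_cjAut hn hy]
    · rw [cj_of_mem_Zx s hyZ, inv_mul_cancel]; exact one_mem _
    · exact hc y hy
  obtain ⟨w, hw, hwQ⟩ := SetLike.not_le_iff_exists.1 hQ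
  refine (not_autInv hF hE hZ fun α hα b hbE hb => ?_).elim
  have key : ∀ u ∈ E, u.t * (autFun α b).z = (autFun α b).t * u.z := fun u hu => by
    have h1 := autFun_mem α⁻¹ hu
    have h3 : b⁻¹ * cj (autFun α⁻¹ u) b ∈ Zx K := comm_mem_Zx.2 (by simp [hb.1, hb.2])
    have h4 := hZ α hα _ (hZE h3) h3
    rwa [isHomOn_autFun α (inv_mem hbE) (cj_mem h1 hbE), (isHomOn_autFun α).map_inv hbE,
      (isHomOn_autFun α).map_cj h1 hbE, autFun_autFun_inv α hu, comm_mem_Zx] at h4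
  have k1 := key e he
  have k2 := key w hw
  have ht : (autFun α b).t = 0 := by
    by_contra ht
    refine hwQ (mem_QQ.2 (mul_left_cancel₀ (mul_ne_zero ht het) ?_))
    rw [mul_assoc _ _ (_ * _), ← mul_assoc e.t, mul_div_cancel₀ _ het]
    linear_combination w.t * k1 - e.t * k2
  exact ⟨ht, (mul_eq_zero.1 (k1.trans (by rw [ht, zero_mul]))).resolve_left het⟩

end CL.S4F
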