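import Cfsg.Agent.FUS.S4.Odd1

/-! # Torus elements coming from an essential subgroup `QQ c` -/

set_option autoImplicit false

namespace CL.S4F

open Subgroup Cfsg Cfsg.FusionSystem CL.Fus

variable {K : Type*} [Field K] {c : K}

/-- coordinates on `QQ c / Z` -/
def piQ (c : K) (g : U K) : K × K := (g.t, 2 * g.y - c * g.t ^ 2)

/-- a section of `piQ` -/
def secQ (c : K) (v : K × K) : U K := ⟨v.1, 0, (v.2 + c * v.1 ^ 2) / 2, c * v.1⟩

/-- the symplectic form -/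
def omQ (v w : K × K) : K := v.1 * w.2 - w.1 * v.2

/-- the map induced on `QQ c / Z` -/
noncomputable def LQ (k : MulAut (QQ c)) (v : K × K) : K × K := piQ c (autFun k (secQ c v))

theorem secQ_mem (v : K × K) : secQ c v ∈ QQ c := rfl

theorem piQ_secQ (h2 : (2 : K) ≠ 0) (v : K × K) : piQ c (secQ c v) = v :=
  Prod.ext rfl (by simp only [piQ, secQ]; field_simp; ring)

theorem Zx_le_QQ : Zx K ≤ QQ c := Zx_le_BB.trans (BB_le_QQ c)

theorem piQ_autFun (h2 : (2 : K) ≠ 0) {k : MulAut (QQ c)} (hk : ∀ z ∈ Zx K, autFun k z ∈ Zx K) {g : U K}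
    (hg : g ∈ QQ c) : piQ c (autFun k g) = LQ k (piQ c g) := by
  have e : g = secQ c (piQ c g) * zx g.x := by
    ext <;> simp [secQ, piQ, mem_QQ.1 hg, h2]
  have h := hk _ (zx_mem g.x)
  conv_lhs => rw [e, isHomOn_autFun k (secQ_mem _) (Zx_le_QQ (zx_mem _))]
  simp [LQ, piQ, h.1, h.2.1, h.2.2]

theorem LQ_mul (h2 : (2 : K) ≠ 0) {k : MulAut (QQ c)} (hk : ∀ z ∈ Zx K, autFun k z ∈ Zx K) (l : MulAut (QQ c))
    (v : K × K) : LQ (k * l) v = LQ k (LQ l v) := by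
  rw [LQ, autFun_mul _ _ (secQ_mem v), piQ_autFun h2 hk (autFun_mem l (secQ_mem v))]; rfl

theorem LQ_one (h2 : (2 : K) ≠ 0) (v : K × K) : LQ (1 : MulAut (QQ c)) v = v := by
  rw [LQ, autFun_one (secQ_mem v), piQ_secQ h2]

theorem comm_QQ {w g : U K} (hw : w ∈ QQ c) (hg : g ∈ QQ c) : g⁻¹ * cj w g = zx (omQ (piQ c w) (piQ c g)) := by
  ext <;> simp [omQ, piQ, mem_QQ.1 hw, mem_QQ.1 hg] <;> ring

theorem omQ_LQ (h2 : (2 : K) ≠ 0) {k : MulAut (QQ c)} (hk : ∀ z ∈ Zx K, autFun k z = z) (v w : K × K) :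
    omQ (LQ k v) (LQ k w) = omQ v w := by
  have h := hk _ (zx_mem (omQ (piQ c (secQ c v)) (piQ c (secQ c w))))
  rw [← comm_QQ (secQ_mem v) (secQ_mem w), isHomOn_autFun k (inv_mem (secQ_mem w)) (cj_mem (secQ_mem v) (secQ_mem w)),
    (isHomOn_autFun k).map_inv (secQ_mem w), (isHomOn_autFun k).map_cj (secQ_mem v) (secQ_mem w),
    comm_QQ (autFun_mem k (secQ_mem v)) (autFun_mem k (secQ_mem w)), comm_QQ (secQ_mem v) (secQ_mem w),
    piQ_secQ h2, piQ_secQ h2] at h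
  exact congrArg U.x h

theorem LQ_lin (h2 : (2 : K) ≠ 0) {k : MulAut (QQ c)} (hk : ∀ z ∈ Zx K, autFun k z = z) (a b : K) (v w : K × K) :
    LQ k (a • v + b • w) = a • LQ k v + b • LQ k w := by
  have key : ∀ u, omQ (LQ k (a • v + b • w)) u = omQ (a • LQ k v + b • LQ k w) u := fun u => by
    have e : u = LQ k (LQ k⁻¹ u) := by
      rw [← LQ_mul h2 fun z hz => (hk z hz).symm ▸ hz, mul_inv_cancel, LQ_one h2]
    have h1 := omQ_LQ h2 hk v (LQ k⁻¹ u)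
    have h3 := omQ_LQ h2 hk w (LQ k⁻¹ u)
    have h4 := omQ_LQ h2 hk (a • v + b • w) (LQ k⁻¹ u)
    rw [← e] at h1 h3 h4
    simp only [omQ, Prod.fst_add, Prod.snd_add, Prod.smul_fst, Prod.smul_snd, smul_eq_mul] at h1 h3 h4 ⊢
    linear_combination h4 - a * h1 - b * h3
  exact Prod.ext (by simpa [omQ] using key (0, 1)) (by simpa [omQ, -neg_add_rev] using key (1, 0))

variable {F : FusionSystem (⊤ : Subgroup (U K))} {p : ℕ} [Finite K] [Fact p.Prime] [CharP K p]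

theorem tor (hp : p ≠ 2) (hF : F.IsSaturated p) (hE : F.IsEssential p (QQ c))
    (hZ : AutInv (F.autGroup (QQ c)) (Zx K)) {a : K} (ha : a ≠ 0) :
    ∃ f, Mor F ⊤ f ∧ (∀ x, f (zx x) = zx x) ∧ (∀ g ∈ QQ c, f g ∈ QQ c) ∧
      ∀ g ∈ BB K, f g ∈ BB K ∧ (f g).y = a * g.y := by
  have h2 := two_ne K hp
  have hS := isPGroup_top (K := K) p
  have hZ' : ∀ k ∈ F.autGroup (QQ c), ∀ z ∈ Zx K, autFun k z ∈ Zx K := fun k hk z hz => hZ k hk z (Zx_le_QQ hz) hz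
  have hB : ∀ g ∈ QQ c, g ∈ BB K ↔ g.t = 0 := fun g hg => ⟨fun h => h.1, fun h => ⟨h, by rw [hg, h, mul_zero]⟩⟩
  obtain ⟨g, hg, b, hb, hgb⟩ : ∃ g ∈ F.autGroup (QQ c), ∃ b ∈ BB K, (autFun g b).t ≠ 0 := by
    by_contra! h
    exact not_autInv hF hE hZ fun g hg b hb hb' => (hB _ (autFun_mem g hb)).2 (h g hg b hb')
  let t : K → MulAut (QQ c) := fun u => cjAut _ _ (mem_normalizer_of_BB_le (BB_le_QQ c) ⟨0, 0, 0, u⟩)
  have htT : ∀ u, t u ∈ autInducedBy ⊤ (QQ c) := fun u => cjAut_mem_autInducedBy (mem_top _) _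
  have htH : ∀ u, t u ∈ F.autGroup (QQ c) := fun u => autInducedBy_le_autGroup F le_top (htT u)
  have ht : ∀ u v, LQ (t u) v = (v.1, v.2 - 2 * v.1 * u) := fun u v => by
    rw [LQ, autFun_cjAut _ (secQ_mem v)]
    refine Prod.ext (by simp [piQ, secQ]) ?_
    simp only [piQ, secQ, cj_y, cj_t]
    field_simp
    ring
  have hfix : ∀ u, ∀ z ∈ Zx K, autFun (g * t u * g⁻¹) z = z := fun u z hz => by
    have h1 := hZ' _ (inv_mem hg) z hz
    rw [autFun_mul _ _ (Zx_le_QQ hz), autFun_mul _ _ (Zx_le_QQ h1), autFun_fix_Zx Zx_le_QQ (htT u) h1,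
      autFun_autFun_inv g (Zx_le_QQ hz)]
  have hM : ∀ u v, LQ (g * t u * g⁻¹) (LQ g v) = LQ g (LQ (t u) v) := fun u v => by
    rw [← LQ_mul h2 fun z hz => (hfix u z hz).symm ▸ hz, inv_mul_cancel_right, LQ_mul h2 (hZ' g hg)]
  set v0 := LQ g (piQ c b) with hv0
  have hv1 : v0.1 ≠ 0 := by rwa [hv0, ← piQ_autFun h2 (hZ' g hg) (BB_le_QQ c hb)]
  have hM0 : ∀ u, LQ (g * t u * g⁻¹) v0 = v0 := fun u => by
    rw [hv0, hM, ht]; simp [piQ, hb.1]
  let m : K → K := fun u => (LQ (g * t u * g⁻¹) (0, 1)).1 / v0.1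
  have hm : ∀ u, LQ (g * t u * g⁻¹) (0, 1) = (0, 1) + m u • v0 := fun u => by
    have h1 := omQ_LQ h2 (hfix u) (0, 1) v0
    rw [hM0] at h1
    simp only [omQ] at h1
    refine Prod.ext (by simp [m, hv1]) (mul_left_cancel₀ hv1 ?_)
    simp only [m, Prod.snd_add, Prod.smul_snd, smul_eq_mul]
    field_simp
    linear_combination -h1
  have hlin : ∀ u (α β : K), LQ (g * t u * g⁻¹) (α • (0, 1) + β • v0) = α • (0, 1) + (α * m u + β) • v0 :=
    fun u α β => by rw [LQ_lin h2 (hfix u), hm, hM0]; module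
  have hinj : Function.Injective m := fun u u' e => by
    have h1 : ∀ v, LQ (g * t u * g⁻¹) v = LQ (g * t u' * g⁻¹) v := fun v => by
      have : v = (v.2 - v.1 / v0.1 * v0.2) • (0, 1) + (v.1 / v0.1) • v0 := Prod.ext (by simp [hv1]) (by simp)
      rw [this, hlin, hlin, e]
    have h3 := congrArg (LQ g⁻¹) (h1 (LQ g (1, 0)))
    rw [hM, hM, ← LQ_mul h2 (hZ' _ (inv_mem hg)), ← LQ_mul h2 (hZ' _ (inv_mem hg)), inv_mul_cancel, LQ_one h2,
      LQ_one h2, ht, ht] at h3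
    exact mul_left_cancel₀ h2 (by linear_combination -congrArg Prod.snd h3)
  obtain ⟨u1, hu1⟩ := Finite.injective_iff_surjective.1 hinj 1
  obtain ⟨u2, hu2⟩ := Finite.injective_iff_surjective.1 hinj (-a⁻¹)
  let s := (1 - a) / (2 * v0.1)
  let h := (g * t u2 * g⁻¹) * (t s * (g * t u1 * g⁻¹))
  have hh : h ∈ F.autGroup (QQ c) := mul_mem (mul_mem (mul_mem hg (htH _)) (inv_mem hg))
    (mul_mem (htH _) (mul_mem (mul_mem hg (htH _)) (inv_mem hg)))
  have hhZ : ∀ z ∈ Zx K, autFun h z = z := fun z hz => by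
    rw [autFun_mul _ _ (Zx_le_QQ hz), autFun_mul _ _ (Zx_le_QQ hz), hfix u1 z hz, autFun_fix_Zx Zx_le_QQ (htT s) hz,
      hfix u2 z hz]
  have he : LQ h (0, 1) = (0, a) := by
    rw [LQ_mul h2 fun z hz => (hfix u2 z hz).symm ▸ hz, LQ_mul h2 (hZ' _ (htH s)), hm, hu1, ht]
    have : ((((0, 1) : K × K) + (1 : K) • v0).1, (((0, 1) : K × K) + (1 : K) • v0).2 -
        2 * (((0, 1) : K × K) + (1 : K) • v0).1 * s) = a • (0, 1) + (1 : K) • v0 :=
      Prod.ext (by simp) (by simp [s]; field_simp; ring)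
    rw [this, hlin, hu2]
    simp [ha]
  have ht' : ∀ x ∈ QQ c, (autFun h x).t * a = x.t := fun x hx => by
    have := omQ_LQ h2 hhZ (piQ c x) (0, 1)
    rw [he, ← piQ_autFun h2 (hZ' h hh) hx] at this
    simpa [omQ, piQ] using this
  have hN := le_normalizer_of_chain (N := F.autGroup (QQ c) ⊓ stabAut (QQ c) (BB K)) (hS.to_le le_top)
    (sylIn_aut hF (BB_le_QQ c)) (fun β hβ => ⟨autInducedBy_le_autGroup F le_top hβ, fun x hx => ?_⟩) inf_le_left
    (fun β hβ => ?_) (show h ∈ _ from ⟨hh, fun x hx => ?_⟩)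
  · obtain ⟨f, hf, e⟩ := exists_ext_top hS hF hE.1 (fun s _ => mem_normalizer_of_BB_le (BB_le_QQ c) s) hh hN
    refine ⟨f, hf, fun x => by rw [e (Zx_le_QQ (zx_mem x)), hhZ _ (zx_mem x)],
      fun x hx => by rw [e hx]; exact autFun_mem h hx, fun x hx => ?_⟩
    have hx' := BB_le_QQ c hx
    have h1 := piQ_autFun h2 (hZ' h hh) hx'
    have h3 : piQ c x = (2 * x.y) • (0, 1) + (0 : K) • (0, 1) := by simp [piQ, hx.1]
    rw [h3, LQ_lin h2 hhZ, he] at h1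
    have h4 : (autFun h x).t = 0 := by simpa [piQ] using congrArg Prod.fst h1
    rw [e hx', hB _ (autFun_mem h hx')]
    refine ⟨h4, mul_left_cancel₀ h2 ?_⟩
    have h5 := congrArg Prod.snd h1
    simp [piQ, h4] at h5
    linear_combination h5
  · obtain ⟨s, -, e⟩ := mem_autInducedBy_iff.1 hβ
    rw [e hx]
    simp
  · obtain ⟨s, -, e⟩ := mem_autInducedBy_iff.1 hβ
    have i1 : AutInv (F.autGroup (QQ c) ⊓ stabAut (QQ c) (BB K)) (Zx K) := fun α hα => hZ α hα.1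
    have i2 : AutInv (F.autGroup (QQ c) ⊓ stabAut (QQ c) (BB K)) (BB K) := fun α hα y hy hy' => (hα.2 y hy).2 hy'
    refine .tail (.tail (.single (Or.inl ⟨autInv_bot _, i1, fun y hy hyZ => ?_⟩)) (Or.inl ⟨i1, i2, fun y hy hyB => ?_⟩))
      (Or.inl ⟨i2, autInv_of_le _ le_rfl, fun y hy _ => ?_⟩) <;> rw [e hy]
    · rw [cj_of_mem_Zx s hyZ, inv_mul_cancel]; exact one_mem _
    · simp [hyB.1, hyB.2]
    · simp
  · rw [hB _ (autFun_mem h hx), hB _ hx, ← ht' x hx]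
    simp [ha]

end CL.S4F
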