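import Cfsg.Agent.FUS.S4.Odd2
import Cfsg.Agent.FUS.S4.Beta
import Cfsg.Agent.FUS.FactorSat
import Cfsg.Agent.FUS.NormMap

/-! # The case of odd `p` -/

set_option autoImplicit false

namespace CL.S4F

open Subgroup Cfsg Cfsg.FusionSystem CL.Fus

variable {K : Type*} [Field K]

theorem mem_Zx_iff (h2 : (2 : K) ≠ 0) {g : U K} : g ∈ Zx K ↔ ∀ w, cj w g = g := by
  refine ⟨fun h w => cj_of_mem_Zx w h, fun h => ?_⟩
  have h1 := cj_eq_iff.1 (h ⟨1, 0, 0, 0⟩)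
  have h3 := cj_eq_iff.1 (h ⟨0, 0, 0, 1⟩)
  simp only [mul_zero, zero_mul, one_mul, mul_one, one_pow, add_zero] at h1 h3
  exact ⟨h3.1.symm, by simpa [h1.1, h2] using h1.2, h1.1⟩

theorem mem_BB_iff {g : U K} : g ∈ BB K ↔ ∀ w, g⁻¹ * cj w g ∈ Zx K := by
  refine ⟨fun h w => comm_mem_Zx.2 (by simp [h.1, h.2]), fun h => ⟨?_, ?_⟩⟩
  · simpa using (comm_mem_Zx.1 (h ⟨0, 0, 0, 1⟩)).symm
  · simpa using comm_mem_Zx.1 (h ⟨1, 0, 0, 0⟩)

theorem mem_AA_iff (h2 : (2 : K) ≠ 0) {g : U K} : g ∈ AA K ↔ ∀ w ∈ BB K, cj w g = g := by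
  refine ⟨fun h w hw => cj_eq_self_iff.2 (AA_comm hw.1 h), fun h => ?_⟩
  simpa [h2] using (cj_eq_iff.1 (h ⟨0, 0, 1, 0⟩ ⟨rfl, rfl⟩)).2.symm

variable {F : FusionSystem (⊤ : Subgroup (U K))} {p : ℕ} [Finite K] {f : U K → U K}

theorem top_surj (hf : Mor F ⊤ f) (w : U K) : ∃ v, f v = w := by
  obtain ⟨v, -, e⟩ := hf.mem_img.1 (hf.img_top.ge (mem_top w))
  exact ⟨v, e⟩

theorem top_Zx (h2 : (2 : K) ≠ 0) (hf : Mor F ⊤ f) {g : U K} (h : g ∈ Zx K) : f g ∈ Zx K :=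
  (mem_Zx_iff h2).2 fun w => by
    obtain ⟨v, rfl⟩ := top_surj hf w
    rw [← hf.map_cj trivial trivial, cj_of_mem_Zx v h]

omit [Finite K] in
theorem top_comm (hf : Mor F ⊤ f) (w g : U K) : f (g⁻¹ * cj w g) = (f g)⁻¹ * cj (f w) (f g) := by
  rw [hf.map_mul trivial trivial, hf.map_inv trivial, hf.map_cj trivial trivial]

theorem top_BB (h2 : (2 : K) ≠ 0) (hf : Mor F ⊤ f) {g : U K} (h : g ∈ BB K) : f g ∈ BB K :=
  mem_BB_iff.2 fun w => by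
    obtain ⟨v, rfl⟩ := top_surj hf w
    rw [← top_comm hf]
    exact top_Zx h2 hf (mem_BB_iff.1 h v)

theorem top_AA (h2 : (2 : K) ≠ 0) (hf : Mor F ⊤ f) {g : U K} (h : g ∈ AA K) : f g ∈ AA K :=
  (mem_AA_iff h2).2 fun w hw => by
    obtain ⟨v, hv, rfl⟩ := (hf.mono le_top).mem_img.1 (((hf.mono le_top).img_eq_self fun x hx => top_BB h2 hf hx).ge hw)
    rw [← hf.map_cj trivial trivial, (mem_AA_iff h2).1 h v hv]

omit [Finite K] in
theorem tor_t (h2 : (2 : K) ≠ 0) (hf : Mor F ⊤ f) (hZ : ∀ x, f (zx x) = zx x) {a : K}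
    (hB : ∀ g ∈ BB K, f g ∈ BB K ∧ (f g).y = a * g.y) (g : U K) : a * (f g).t = g.t := by
  have h := top_comm hf g ⟨0, 0, 1, 0⟩
  obtain ⟨h1, h3⟩ := hB ⟨0, 0, 1, 0⟩ ⟨rfl, rfl⟩
  rw [show (⟨0, 0, 1, 0⟩ : U K)⁻¹ * cj g ⟨0, 0, 1, 0⟩ = zx (2 * g.t) by ext <;> simp, hZ] at h
  have h4 := congrArg U.x h
  simp [h1.1, h1.2, h3] at h4
  exact mul_left_cancel₀ h2 (by linear_combination -h4)

omit [Finite K] in
theorem tor_z (hf : Mor F ⊤ f) {a : K} (hB : ∀ g ∈ BB K, f g ∈ BB K ∧ (f g).y = a * g.y) (w g : U K) :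
    (f w).t * (f g).z - (f g).t * (f w).z = a * (w.t * g.z - g.t * w.z) := by
  have h := (hB (g⁻¹ * cj w g) (by simp)).2
  rw [top_comm hf] at h
  simp at h
  linear_combination h

variable [Fact p.Prime] [CharP K p]

theorem alpha (hp : p ≠ 2) (hF : F.IsSaturated p) {c c' : K} (hE : F.IsEssential p (QQ c))
    (hE' : F.IsEssential p (QQ c')) (hZ : AutInv (F.autGroup (QQ c)) (Zx K))
    (hZ' : AutInv (F.autGroup (QQ c')) (Zx K)) : c = c' := by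
  have h2 := two_ne K hp
  have key : ∀ {c : K}, F.IsEssential p (QQ c) → AutInv (F.autGroup (QQ c)) (Zx K) → ∃ f, Mor F ⊤ f ∧
      (∀ x, f (zx x) = zx x) ∧ (∀ g ∈ BB K, (f g).y = -g.y) ∧ ∀ g, (f g).t = -g.t ∧ (f g).z = g.z - 2 * c * g.t := by
    intro c hE hZ
    obtain ⟨f, hf, h1, h3, h4⟩ := tor hp hF hE hZ (neg_ne_zero.2 one_ne_zero)
    have h5 : ∀ g, (f g).t = -g.t := fun g => by linear_combination -tor_t h2 hf h1 h4 g
    refine ⟨f, hf, h1, fun g hg => by simpa using (h4 g hg).2, fun g => ⟨h5 g, ?_⟩⟩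
    have h6 := tor_z hf h4 ⟨1, 0, 0, c⟩ g
    rw [mem_QQ.1 (h3 ⟨1, 0, 0, c⟩ (by simp)), h5, h5] at h6
    linear_combination -h6
  obtain ⟨f, hf, f1, f2, f3⟩ := key hE hZ
  obtain ⟨g, hg, g1, g2, g3⟩ := key hE' hZ'
  have hk := hg.comp hf fun _ _ => trivial
  obtain ⟨k, hkF, e⟩ := hk.exists_aut hk.img_top
  have i1 : AutInv (F.autGroup ⊤) (Zx K) := fun α hα _ _ hy => top_Zx h2 (mor_autFun le_rfl hα) hy
  have i2 : AutInv (F.autGroup ⊤) (BB K) := fun α hα _ _ hy => top_BB h2 (mor_autFun le_rfl hα) hy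
  have i3 : AutInv (F.autGroup ⊤) (AA K) := fun α hα _ _ hy => top_AA h2 (mor_autFun le_rfl hα) hy
  have hI := mem_inn_of_chain (isPGroup_top p) (isRadical_top (isPGroup_top p) hF) hkF le_rfl
    (.tail (.tail (.tail (.single (Or.inl ⟨autInv_bot _, i1, fun y hy hyZ => ?_⟩)) (Or.inl ⟨i1, i2, fun y hy hyB => ?_⟩))
      (Or.inl ⟨i2, i3, fun y hy hyA => ?_⟩)) (Or.inl ⟨i3, autInv_of_le _ le_rfl, fun y hy _ => ?_⟩))
  · obtain ⟨s, -, e'⟩ := mem_inn_iff.1 hI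
    have h3 := congrArg U.z ((e (mem_top (⟨1, 0, 0, 0⟩ : U K))).symm.trans (e' (mem_top _)))
    simp [f3, g3] at h3
    exact mul_left_cancel₀ h2 (by linear_combination -h3)
  all_goals rw [e hy]
  · rw [eq_zx hyZ, Function.comp, f1, g1, inv_mul_cancel]; exact one_mem _
  · simp [f3, g3, g2 _ (top_BB h2 hf hyB), f2 _ hyB, hyB.1, hyB.2]
  · simp [f3, g3, mem_AA.1 hyA]
  · simp [f3, g3]

theorem beta_fus (hp : p ≠ 2) (hF : F.IsSaturated p) {W : Subgroup (U K)} (hW : F.StronglyClosed W)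
    (hWZ : W ≤ Zx K) (hW1 : W ≠ ⊥) {c : K} (hE : F.IsEssential p (QQ c)) (hZ : AutInv (F.autGroup (QQ c)) (Zx K))
    (hA : F.IsEssential p (AA K)) : False := by
  have h2 := two_ne K hp
  obtain ⟨⟨w, hw⟩, hw1⟩ := ne_bot_iff_exists_ne_one.1 hW1
  have hwZ := hWZ hw
  refine beta hp isTau_A (sylIn_GA hF BB_le_AA (eA K)) (fun h => ?_) (y0 := w.x) (fun h => ?_) ?_ fun a ha => ?_
  · refine not_le_normalizer_of_essential (isPGroup_top p) hF hA fun α hα => ?_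
    refine mem_normalizer_of_cj_mem fun β hβ => ?_
    obtain ⟨γ, hγ, e⟩ := cj_mem_of_mem_normalizer (h ⟨α, hα, rfl⟩) ⟨β, hβ, rfl⟩
    rw [cj, ← map_inv, ← map_mul, ← map_mul] at e
    rw [cj, ← toGA_injective _ e]; exact hγ
  · exact hw1 (Subtype.ext (show w = 1 by rw [eq_zx hwZ, h]; rfl))
  · rintro _ ⟨α, hα, rfl⟩
    have := hWZ (autInv_of_sc hW le_top α hα w hwZ.1 hw)
    rw [eq_zx hwZ] at this
    rw [toGA_eA]
    exact Prod.ext this.2.1 this.2.2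
  · obtain ⟨f, hf, h1, -, h4⟩ := tor hp hF hE hZ ha
    obtain ⟨α, hα, e⟩ := hf.exists_aut_restrict le_top ((hf.mono le_top).img_eq_self fun x hx => top_AA h2 hf hx)
    refine ⟨_, ⟨α, hα, rfl⟩, mem_normalizer_of_cj_mem ?_, fun x => ?_, fun y => ?_⟩
    · rintro _ ⟨β, hβ, rfl⟩
      obtain ⟨s, -, e'⟩ := mem_autInducedBy_iff.1 hβ
      refine ⟨α * β * α⁻¹, mem_autInducedBy_iff.2 ⟨f s, trivial, fun x hx => ?_⟩, by simp [cj]⟩
      have h5 := autFun_mem α⁻¹ hx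
      rw [autFun_mul _ _ hx, autFun_mul _ _ h5, e' h5, e (e' h5 ▸ autFun_mem β h5), hf.map_cj trivial trivial, ← e h5,
        autFun_autFun_inv α hx]
    · rw [toGA_eA, e (show (⟨0, x, 0, 0⟩ : U K) ∈ AA K from rfl), show (⟨0, x, 0, 0⟩ : U K) = zx x from rfl, h1]; rfl
    · rw [toGA_eA, e (show (⟨0, 0, y, 0⟩ : U K) ∈ AA K from rfl)]
      have := h4 ⟨0, 0, y, 0⟩ ⟨rfl, rfl⟩
      exact Prod.ext this.2 this.1.2

theorem constrained_odd (hp : p ≠ 2) (hF : F.IsSaturated p) (hc : F.core ≠ ⊥) : F.IsConstrained p := by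
  have h2 := two_ne K hp
  have hS := isPGroup_top (K := K) p
  have hWn := normal_centralizerIn_self (core_normal F)
  have hW := sc_of_normal hWn
  set W := centralizerIn F.core F.core with hWd
  have hW1 : W ≠ ⊥ := by
    have : Nontrivial F.core := (nontrivial_iff_ne_bot _).2 hc
    have := (hS.to_le (le_top (a := F.core))).center_nontrivial
    obtain ⟨⟨⟨z, hz⟩, hz'⟩, h1⟩ := exists_ne (1 : center F.core)
    exact ne_bot_iff_exists_ne_one.2 ⟨⟨z, hz, fun g hg => congrArg Subtype.val (mem_center_iff.1 hz' ⟨g, hg⟩)⟩,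
      fun e => h1 (Subtype.ext (Subtype.ext (show z = 1 from congrArg Subtype.val e)))⟩
  by_cases hWZ : W ≤ Zx K
  · refine constrained_of_unique hS hF fun R R' hR hR' => ?_
    have hQ : ∀ c : K, ¬ QQ c ≤ AA K := fun c h => one_ne_zero (h (show (⟨1, 0, 0, c⟩ : U K) ∈ QQ c by simp))
    rcases ess_odd hp hF hW hWZ hW1 hR with rfl | ⟨c, rfl⟩ <;> rcases ess_odd hp hF hW hWZ hW1 hR' with rfl | ⟨c', rfl⟩
    · rfl
    · exact (beta_fus hp hF hW hWZ hW1 hR' (autInv_Zx hp hF hW hWZ hW1 hR' (hQ _)) hR).elim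
    · exact (beta_fus hp hF hW hWZ hW1 hR (autInv_Zx hp hF hW hWZ hW1 hR (hQ _)) hR').elim
    · rw [alpha hp hF hR hR' (autInv_Zx hp hF hW hWZ hW1 hR (hQ _)) (autInv_Zx hp hF hW hWZ hW1 hR' (hQ _))]
  have hWA : W ≤ AA K := fun w hw => by
    have h1 : w⁻¹ * cj ⟨0, 0, 0, 1⟩ w ∈ W := mul_mem (inv_mem hw) (sc_cj_mem hW trivial hw)
    have h3 := (cj_eq_iff.1 (cj_eq_self_iff.2 (h1.2 w hw.1))).2
    simp only [mul_t, mul_y, mul_z, inv_t, inv_y, inv_z, cj_t, cj_y, cj_z] at h3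
    have h4 : w.t * w.t = 0 := mul_left_cancel₀ h2 (by linear_combination -h3)
    exact mul_self_eq_zero.1 h4
  obtain ⟨w, hw, hwZ⟩ := SetLike.not_le_iff_exists.1 hWZ
  have hC : ∀ {s : U K}, w * s = s * w → s ∈ AA K := fun {s} h => by
    have h1 := cj_eq_iff.1 (cj_eq_self_iff.2 h.symm)
    rw [mem_AA.1 (hWA hw)] at h1
    by_contra hs
    have h3 : w.z = 0 := (mul_eq_zero.1 (h1.1.trans (zero_mul _))).resolve_left hs
    have h4 := h1.2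
    rw [h3] at h4
    exact hwZ ⟨hWA hw, (mul_eq_zero.1 (show (2 * s.t) * _ = 0 by linear_combination h4)).resolve_left
      (mul_ne_zero h2 hs), h3⟩
  have hA : W ⊔ centralizerIn ⊤ W = AA K := le_antisymm (sup_le hWA fun s hs => hC (hs.2 w hw))
    fun a ha => mem_sup_right ⟨trivial, fun g hg => AA_comm (hWA hg) ha⟩
  have hsc : F.StronglyClosed (AA K) := hA ▸ sc_sup_centralizerIn hS hF hW
  refine ⟨hF, AA K, normal_of_sc_of_comm hS hF hsc fun a ha g hg => AA_comm hg ha,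
    isCentric_iff.2 ⟨le_top, fun f hf => ?_⟩⟩
  rw [sc_img_eq hsc hf le_rfl]
  exact fun s hs => hC (hs.2 w (hWA hw))

end CL.S4F
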