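import Cfsg.Agent.FUS.S4.Tools

/-!
# S5260, pure lemmas in characteristic two 

`T = {τ_u (x,y,z) = (x + β u z, y + u z, z)}` Sylow in `H ≤ GA K`; `Z = {z = 0}` (fixed pointwise by `T`),
`Cx = {(x,0,0)}`, `V = {(x,0,z)}`, `q = |K|`, `T_g = g T g⁻¹` (Sylow: `SylIn.conj`) fixes `g Z` pointwise and acts
trivially on `A / g Z`.  `β (u+u') z = β u z + β u' z` since `T` is a group (`τ_u τ_u'` is some `τ_{u''}`; evaluate
at `(0,0,1)`).

(A) Let `g ∈ H`, `g Z ≠ Z`, `C_g = Z ∩ g Z`, `v ∈ g Z` with `z = v.z ≠ 0`, `w_u = τ_u v - v = (β u z, u z, 0)`.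
  If `w_u ∈ g Z` then `T_g` fixes `v` and `w_u`, so `trick_GA` gives `w_u = 0`, `u = 0`.  So `(u,c) ↦ w_u + c` is an
  injection `K × C_g → Z`, `|C_g| ≤ q`; the `z`-coordinate maps `g Z` (order `q²`) to `K` with kernel `C_g`, so
  `|C_g| = q` and every `z` occurs.  By `cov` no `(x,y,0)` with `x, y ≠ 0` is in `C_g` (`axis`).
(B) With `x0`: `(x0,0,0) ∈ C_g` (`hW g⁻¹`), so an element `(0,y,0) ≠ 0` of `C_g` would give `(x0,y,0) ∈ C_g`; hence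
  `C_g ≤ Cx`, `C_g = Cx`.  `axis_x`: if `g Z ≠ Z` then `g⁻¹ Z ≠ Z`, `Cx = Z ∩ g⁻¹ Z` is mapped into `g Z ∩ Z = Cx`; if
  `g Z = Z` use `g Cx = g (Z ∩ g₀ Z) = Z ∩ g g₀ Z`.  `exists_shear`: `v ↦ v.z` is onto `K` on `g Z` with kernel `Cx`,
  so `v.y` is an additive function of `v.z`.
(C) With `g₀ Z ≤ V` (so `g₀ Z = V` by cardinality; `g₀ Z ≠ Z`).  For `g, h ∈ H`: `g Z = h Z` or `g Z ∩ h Z = Cx`
  (apply (B) to `h⁻¹ g`).  The preimages of the `K`-lines of `A/Cx = {(y,z)}` are `Z` and `τ_s g₀ Z = {(x, s z, z)}`;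
  each `h k Z` contains a vector outside `Cx`, which lies in one of them, so equals it: `H` permutes the lines.
  `conj_lin`: `t' = g τ g⁻¹` fixes the line `ℓ = g Z/Cx = K v` pointwise, is trivial on the quotient and permutes lines:
  for `w ∉ ℓ`, `t' (c w) = c w + μ(c) v` is on the line of `t' w = w + μ(1) v`, so `μ c = c μ 1`; a transvection.
  For `g = g₀`: `g₀ τ_u g₀⁻¹` acts as `(y,z) ↦ (y, z + m(u) y)`; `m` is injective (equal actions modulo `Cx` ⇒ `τ_u`,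
  `τ_u'` agree modulo `g₀⁻¹ Cx = Cx`), so onto: `ψ_m ∈ H` for all `m`, fixing `Cx ≤ g₀ Z` pointwise.
  `weyl`: `τ_1 ψ_1 τ_1`.  `torus`: `h = ψ_{a⁻¹} τ_{a+1} ψ_1` (`(1,0) ↦ (1,1) ↦ (a,1) ↦ (a,0)`, determinant one); `h Z = Z`;
  `{k ∈ H | k` fixes `Z` pointwise, trivial on `A/Z}` has exponent two and contains `T`, so equals `T`
  (`SylIn.eq_of_le`), and `h` normalizes it.
-/

set_option autoImplicit false

namespace CL.S4F

open Subgroup CL.Fus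

/-- the standing hypothesis -/
structure P2 {K : Type*} [Field K] (β : K → K → K) (T H : Subgroup (GA K)) : Prop where
  tau : IsTau 0 β T
  syl : SylIn 2 T H
  cov : ∀ x y : K, x ≠ 0 → y ≠ 0 → ∃ u z, β u z = x ∧ u * z = y

namespace P2

variable {K : Type*} [Field K] [Finite K] [CharP K 2] {β : K → K → K} {T H : Subgroup (GA K)} (h : P2 β T H)
include h

omit [Finite K] [CharP K 2] in
theorem fixZ {τ : GA K} (hτ : τ ∈ T) {v : K × K × K} (hv : v.2.2 = 0) : τ v = v := by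
  obtain ⟨u, e⟩ := h.tau.1 τ hτ
  obtain ⟨x, y, z⟩ := v
  obtain rfl : z = 0 := hv
  have := congrArg Prod.fst ((e 0 0 0).symm.trans (map_zero τ))
  simp only [mul_zero, zero_add, Prod.fst_zero] at this
  simp [e, this]

omit [Finite K] [CharP K 2] in
theorem conj_fix {g τ : GA K} (hτ : τ ∈ T) {v : K × K × K} (hv : (g⁻¹ v).2.2 = 0) : (g * τ * g⁻¹) v = v := by
  rw [LinearEquiv.mul_apply, LinearEquiv.mul_apply, h.fixZ hτ hv]
  exact g.apply_symm_apply v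

theorem eq_zero {g : GA K} (hg : g ∈ H) {v : K × K × K} (hv : (g⁻¹ v).2.2 = 0) {u : K}
    (hu : (g⁻¹ (β u v.2.2, u * v.2.2, 0)).2.2 = 0) : u * v.2.2 = 0 := by
  obtain ⟨τ, hτ, e⟩ := h.tau.2 u
  refine congrArg (fun w => w.2.1) (trick_GA (h.syl.conj hg) (v := v) (w := (β u v.2.2, u * v.2.2, 0)) ?_ ?_
    (h.syl.le hτ) ((e v.1 v.2.1 v.2.2).trans (by ext <;> simp)) (h.fixZ hτ rfl))
  · rintro _ ⟨σ, hσ, rfl⟩; exact h.conj_fix hσ hv
  · rintro _ ⟨σ, hσ, rfl⟩; exact h.conj_fix hσ hu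

omit [Finite K] [CharP K 2] in
theorem badd (u u' z : K) : β (u + u') z = β u z + β u' z := by
  obtain ⟨τ, hτ, e⟩ := h.tau.2 u
  obtain ⟨τ', hτ', e'⟩ := h.tau.2 u'
  obtain ⟨s, e''⟩ := h.tau.1 _ (mul_mem hτ hτ')
  have h1 := e'' 0 0 1
  have h2 := e'' 0 0 z
  rw [LinearEquiv.mul_apply, e', e] at h1 h2
  simp only [Prod.mk.injEq, mul_one, zero_add, zero_mul, add_zero] at h1 h2
  rw [add_comm u, h1.2.1, ← h2.1, add_comm]

omit h [Finite K] [CharP K 2] in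
/-- the last coordinate on `g Z` -/
def ph (g : GA K) : K × K →+ K := AddMonoidHom.mk' (fun v => (g (v.1, v.2, 0)).2.2) fun v w => by
  rw [← Prod.snd_add, ← Prod.snd_add, ← map_add]; simp

theorem count {g : GA K} (hg : g ∈ H) (hne : ∃ x y, (g (x, y, 0)).2.2 ≠ 0) :
    Function.Surjective (ph g) ∧ Nat.card (ph g).ker = Nat.card K := by
  obtain ⟨x, y, hz⟩ := hne
  have hq : 0 < Nat.card K := Nat.card_pos
  have h1 : Nat.card (K × (ph g).ker) ≤ Nat.card (K × K) := by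
    refine Nat.card_le_card_of_injective (fun c => (β c.1 (g (x, y, 0)).2.2 + (g (c.2.1.1, c.2.1.2, 0)).1,
      c.1 * (g (x, y, 0)).2.2 + (g (c.2.1.1, c.2.1.2, 0)).2.1)) ?_
    rintro ⟨u, ⟨a, b⟩, hc⟩ ⟨u', ⟨a', b'⟩, hc'⟩ e
    simp only [Prod.mk.injEq] at e
    change (g (a, b, 0)).2.2 = 0 at hc
    change (g (a', b', 0)).2.2 = 0 at hc'
    have h2 : (β (u + u') (g (x, y, 0)).2.2, (u + u') * (g (x, y, 0)).2.2, (0 : K)) = g ((a, b, 0) + (a', b', 0)) := by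
      rw [map_add, h.badd]
      refine Prod.ext ?_ (Prod.ext ?_ (by simp [hc, hc']))
      · simp only [Prod.fst_add]
        linear_combination e.1 + (β u' (g (x, y, 0)).2.2 - (g (a, b, 0)).1) * CharTwo.two_eq_zero (R := K)
      · simp only [Prod.fst_add, Prod.snd_add]
        linear_combination e.2 + (u' * (g (x, y, 0)).2.2 - (g (a, b, 0)).2.1) * CharTwo.two_eq_zero (R := K)
    have h3 := h.eq_zero hg (v := g (x, y, 0)) (congrArg (fun w => w.2.2) (g.symm_apply_apply _)) (u := u + u')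
      (by rw [h2, ← LinearEquiv.mul_apply, inv_mul_cancel]; exact add_zero (0 : K))
    obtain rfl : u = u' := CharTwo.add_eq_zero.1 ((mul_eq_zero.1 h3).resolve_right hz)
    have h4 := g.injective (Prod.ext (add_left_cancel e.1) (Prod.ext (add_left_cancel e.2) (hc.trans hc'.symm)))
    simp only [Prod.mk.injEq] at h4
    simp [h4.1, h4.2.1]
  have h2 := (ph g).ker.card_mul_index
  rw [AddSubgroup.index_ker] at h2
  rw [Nat.card_prod, Nat.card_prod] at h1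
  rw [Nat.card_prod] at h2
  have h3 := Nat.le_of_mul_le_mul_left h1 hq
  have h4 := (ph g).range.card_le_card_addGroup
  have h5 : Nat.card (ph g).range = Nat.card K := by nlinarith
  exact ⟨AddMonoidHom.range_eq_top.1 (AddSubgroup.eq_top_of_card_eq _ h5),
    Nat.eq_of_mul_eq_mul_right hq (h5 ▸ h2)⟩

theorem axis {g : GA K} (hg : g ∈ H) (hne : ∃ x y, (g (x, y, 0)).2.2 ≠ 0) {x y : K}
    (e : (g⁻¹ (x, y, 0)).2.2 = 0) : x = 0 ∨ y = 0 := by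
  by_contra! hxy
  obtain ⟨u, z, rfl, rfl⟩ := h.cov x y hxy.1 hxy.2
  obtain ⟨v, rfl⟩ := (h.count hg hne).1 z
  exact hxy.2 (h.eq_zero hg (v := g (v.1, v.2, 0)) (congrArg (fun w => w.2.2) (g.symm_apply_apply _)) e)

omit h [CharP K 2] in
theorem inv_of_le {g : GA K} (hg : ∀ x y, (g (x, y, 0)).2.2 = 0) (x y : K) : (g⁻¹ (x, y, 0)).2.2 = 0 := by
  obtain ⟨v, e⟩ := Finite.injective_iff_surjective.1 (show Function.Injective fun v : K × K =>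
    ((g (v.1, v.2, 0)).1, (g (v.1, v.2, 0)).2.1) from fun v w e => by
      simp only [Prod.mk.injEq] at e
      simpa [Prod.ext_iff] using g.injective (Prod.ext e.1 (Prod.ext e.2 ((hg _ _).trans (hg _ _).symm)))) (x, y)
  simp only [Prod.mk.injEq] at e
  rw [show (x, y, 0) = g (v.1, v.2, 0) from (Prod.ext e.1 (Prod.ext e.2 (hg _ _))).symm]
  exact congrArg (fun w => w.2.2) (g.symm_apply_apply _)

theorem inter {x0 : K} (h0 : x0 ≠ 0) (hW : ∀ g ∈ H, (g (x0, 0, 0)).2.2 = 0) {g : GA K} (hg : g ∈ H)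
    (hne : ∃ x y, (g (x, y, 0)).2.2 ≠ 0) (x y : K) : (g⁻¹ (x, y, 0)).2.2 = 0 ↔ y = 0 := by
  have h1 : ∀ x y, (g⁻¹ (x, y, 0)).2.2 = 0 → y = 0 := fun x y e => by
    rcases h.axis hg hne e with rfl | hy
    · refine (h.axis hg hne (x := x0) ?_).resolve_left h0
      rw [show ((x0, y, 0) : K × K × K) = (x0, 0, 0) + (0, y, 0) by simp, map_add, Prod.snd_add, Prod.snd_add, e,
        hW _ (inv_mem hg), add_zero]
    · exact hy
  refine ⟨h1 x y, ?_⟩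
  rintro rfl
  have h2 : ∀ c : (ph g).ker, g (c.1.1, c.1.2, 0) = ((g (c.1.1, c.1.2, 0)).1, 0, 0) := fun c =>
    Prod.ext rfl (Prod.ext (h1 (g (c.1.1, c.1.2, 0)).1 _ (by
      rw [show (_, _, (0 : K)) = g (c.1.1, c.1.2, 0) from Prod.ext rfl (Prod.ext rfl (Eq.symm c.2))]
      exact congrArg (fun w => w.2.2) (g.symm_apply_apply _))) c.2)
  obtain ⟨c, e⟩ := ((Nat.bijective_iff_injective_and_card fun c : (ph g).ker => (g (c.1.1, c.1.2, 0)).1).2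
    ⟨fun c d e => by
      have := g.injective ((h2 c).trans ((congrArg (fun a => (a, (0 : K), (0 : K))) e).trans (h2 d).symm))
      simp only [Prod.mk.injEq] at this
      exact Subtype.ext (Prod.ext this.1 this.2.1), (h.count hg hne).2⟩).2 x
  rw [← e, ← h2]
  exact congrArg (fun w => w.2.2) (g.symm_apply_apply _)

theorem axis_x {x0 : K} (h0 : x0 ≠ 0) (hW : ∀ g ∈ H, (g (x0, 0, 0)).2.2 = 0)
    (hne : ∃ g ∈ H, ∃ x y, (g (x, y, 0)).2.2 ≠ 0) {g : GA K} (hg : g ∈ H) (x : K) : (g (x, 0, 0)).2 = 0 := by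
  by_cases h1 : ∃ x y, (g (x, y, 0)).2.2 ≠ 0
  · have h2 : (g (x, 0, 0)).2.2 = 0 := (h.inter h0 hW (inv_mem hg) (by
      by_contra! h2
      obtain ⟨a, b, e⟩ := h1
      exact e (inv_of_le h2 a b)) x 0).2 rfl
    refine Prod.ext ((h.inter h0 hW hg h1 (g (x, 0, 0)).1 _).1 ?_) h2
    rw [show (_, _, (0 : K)) = g (x, 0, 0) from Prod.ext rfl (Prod.ext rfl h2.symm)]
    exact congrArg (fun w => w.2.2) (g.symm_apply_apply _)
  push Not at h1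
  obtain ⟨g0, hg0, a, b, e⟩ := hne
  refine Prod.ext ((h.inter h0 hW (mul_mem hg hg0) ⟨a, b, fun e' => e ?_⟩ (g (x, 0, 0)).1 _).1 ?_) (h1 _ _)
  · have := inv_of_le h1 ((g * g0) (a, b, 0)).1 ((g * g0) (a, b, 0)).2.1
    rwa [show (_, _, (0 : K)) = (g * g0) (a, b, 0) from Prod.ext rfl (Prod.ext rfl e'.symm), ← LinearEquiv.mul_apply,
      inv_mul_cancel_left] at this
  · rw [show (_, _, (0 : K)) = g (x, 0, 0) from Prod.ext rfl (Prod.ext rfl (h1 _ _).symm), ← LinearEquiv.mul_apply,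
      mul_inv_rev, inv_mul_cancel_right]
    exact (h.inter h0 hW hg0 ⟨a, b, e⟩ x 0).2 rfl

theorem exists_shear {x0 : K} (h0 : x0 ≠ 0) (hW : ∀ g ∈ H, (g (x0, 0, 0)).2.2 = 0)
    (hne : ∃ g ∈ H, ∃ x y, (g (x, y, 0)).2.2 ≠ 0) :
    ∃ l : K →+ K, ∃ g ∈ H, ∀ x y, (g (x, y, 0)).2.1 = l (g (x, y, 0)).2.2 := by
  obtain ⟨g, hg, hne⟩ := hne
  let ψ : K × K →+ K := AddMonoidHom.mk' (fun v => (g (v.1, v.2, 0)).2.1) fun v w => by
    rw [← Prod.fst_add, ← Prod.snd_add, ← map_add]; simp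
  refine ⟨(ph g).liftOfSurjective (h.count hg hne).1 ⟨ψ, fun c hc => (h.inter h0 hW hg hne (g (c.1, c.2, 0)).1 _).1 ?_⟩,
    g, hg, fun x y => (AddMonoidHom.liftOfRightInverse_comp_apply (ph g) _ _ ⟨ψ, _⟩ (x, y)).symm⟩
  rw [show (_, ψ c, (0 : K)) = g (c.1, c.2, 0) from Prod.ext rfl (Prod.ext rfl (Eq.symm hc))]
  exact congrArg (fun w => w.2.2) (g.symm_apply_apply _)

omit h [CharP K 2] in
theorem ne_of_V {g : GA K} (hg : ∀ x y, (g (x, y, 0)).2.1 = 0) : ∃ x y, (g (x, y, 0)).2.2 ≠ 0 := by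
  by_contra! h1
  have := hg (g⁻¹ (0, 1, 0)).1 (g⁻¹ (0, 1, 0)).2.1
  rw [show (_, _, (0 : K)) = g⁻¹ (0, 1, 0) from Prod.ext rfl (Prod.ext rfl (inv_of_le h1 0 1).symm),
    ← LinearEquiv.mul_apply, mul_inv_cancel] at this
  exact one_ne_zero this

section V
variable {x0 : K} (h0 : x0 ≠ 0) (hW : ∀ g ∈ H, (g (x0, 0, 0)).2.2 = 0) (hV : ∃ g ∈ H, ∀ x y, (g (x, y, 0)).2.1 = 0)
include h0 hW hV

theorem snd_eq_zero {g : GA K} (hg : g ∈ H) {v : K × K × K} : (g v).2 = 0 ↔ v.2 = 0 := by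
  have k : ∀ g ∈ H, ∀ v : K × K × K, v.2 = 0 → (g v).2 = 0 := fun g hg v e => by
    rw [show v = (v.1, 0, 0) from Prod.ext rfl e]
    exact h.axis_x h0 hW (hV.imp fun _ hg => ⟨hg.1, ne_of_V hg.2⟩) hg _
  exact ⟨fun e => g.symm_apply_apply v ▸ k _ (inv_mem hg) _ e, k g hg v⟩

theorem exists_line {w : K × K} (hw : w ≠ 0) :
    ∃ k ∈ H, ∀ v : K × K × K, (k⁻¹ v).2.2 = 0 ↔ v.2.1 * w.2 = v.2.2 * w.1 := by
  by_cases hz : w.2 = 0
  · exact ⟨1, one_mem _, fun v => by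
      simp [hz, show w.1 ≠ 0 from fun e => hw (Prod.ext e hz)]⟩
  obtain ⟨g, hg, e⟩ := hV
  have k : ∀ v : K × K × K, (g⁻¹ v).2.2 = 0 ↔ v.2.1 = 0 := fun v => by
    refine ⟨fun e' => ?_, fun e' => ?_⟩
    · have := e (g⁻¹ v).1 (g⁻¹ v).2.1
      rwa [show (_, _, (0 : K)) = g⁻¹ v from Prod.ext rfl (Prod.ext rfl e'.symm), ← LinearEquiv.mul_apply,
        mul_inv_cancel] at this
    · obtain ⟨c, hc⟩ := (h.count hg (ne_of_V e)).1 v.2.2
      rw [show v = g (c.1, c.2, 0) + (v.1 - (g (c.1, c.2, 0)).1, 0, 0) from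
        Prod.ext (by simp) (Prod.ext (by simp [e, e']) (hc.symm.trans (add_zero _).symm)), map_add, Prod.snd_add, Prod.snd_add,
        (h.inter h0 hW hg (ne_of_V e) _ 0).2 rfl, add_zero]
      exact congrArg (fun w => w.2.2) (g.symm_apply_apply _)
  obtain ⟨τ, hτ, e'⟩ := h.tau.2 (w.1 / w.2)
  refine ⟨τ⁻¹ * g, mul_mem (inv_mem (h.syl.le hτ)) hg, fun v => ?_⟩
  rw [mul_inv_rev, inv_inv, LinearEquiv.mul_apply, k, show τ v = _ from e' v.1 v.2.1 v.2.2, CharTwo.add_eq_zero,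
    div_mul_eq_mul_div, eq_div_iff hz, mul_comm w.1]

theorem line {k : GA K} (hk : k ∈ H) {v : K × K × K} (hv : (k⁻¹ v).2.2 = 0) (hv0 : v.2 ≠ 0) (w : K × K × K) :
    (k⁻¹ w).2.2 = 0 ↔ w.2.1 * v.2.2 = w.2.2 * v.2.1 := by
  obtain ⟨k', hk', e⟩ := h.exists_line h0 hW hV hv0
  have h1 : ∀ x y, ((k⁻¹ * k') (x, y, 0)).2.2 = 0 := by
    by_contra! h1
    refine hv0 ((h.snd_eq_zero h0 hW hV (inv_mem hk)).1 (Prod.ext
      ((h.inter h0 hW (mul_mem (inv_mem hk) hk') h1 (k⁻¹ v).1 _).1 ?_) hv))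
    rw [show (_, _, (0 : K)) = k⁻¹ v from Prod.ext rfl (Prod.ext rfl hv.symm), ← LinearEquiv.mul_apply, mul_inv_rev,
      inv_inv, mul_inv_cancel_right, e, mul_comm]
  rw [← e]
  refine ⟨fun e' => ?_, fun e' => ?_⟩
  · have := inv_of_le h1 (k⁻¹ w).1 (k⁻¹ w).2.1
    rwa [show (_, _, (0 : K)) = k⁻¹ w from Prod.ext rfl (Prod.ext rfl e'.symm), ← LinearEquiv.mul_apply, mul_inv_rev,
      inv_inv, mul_inv_cancel_right] at this
  · have := h1 (k'⁻¹ w).1 (k'⁻¹ w).2.1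
    rwa [show (_, _, (0 : K)) = k'⁻¹ w from Prod.ext rfl (Prod.ext rfl e'.symm), ← LinearEquiv.mul_apply,
      mul_inv_cancel_right] at this

end V

omit h [Finite K] [CharP K 2] in
theorem exists_smul {a b : K × K} (hb : b ≠ 0) (e : a.1 * b.2 = a.2 * b.1) : ∃ c : K, a = c • b := by
  by_cases h1 : b.1 = 0
  · have h2 : b.2 ≠ 0 := fun h2 => hb (Prod.ext h1 h2)
    exact ⟨a.2 / b.2, Prod.ext (by simpa [h1, h2] using e) (by simp [h2])⟩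
  · exact ⟨a.1 / b.1, Prod.ext (by simp [h1]) (by simp only [Prod.smul_snd, smul_eq_mul]; field_simp; exact e.symm)⟩

theorem lines {x0 : K} (h0 : x0 ≠ 0) (hW : ∀ g ∈ H, (g (x0, 0, 0)).2.2 = 0)
    (hV : ∃ g ∈ H, ∀ x y, (g (x, y, 0)).2.1 = 0) {g : GA K} (hg : g ∈ H) (y z c : K) :
    ∃ c' : K, (g (0, c * y, c * z)).2 = c' • (g (0, y, z)).2 := by
  by_cases hw : (y, z) = 0
  · obtain ⟨rfl, rfl⟩ := Prod.mk_eq_zero.1 hw
    exact ⟨1, by simp⟩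
  obtain ⟨k, hk, e⟩ := h.exists_line h0 hW hV hw
  have h1 := fun e => hw ((h.snd_eq_zero h0 hW hV hg (v := (0, y, z))).1 e)
  refine exists_smul h1 ((h.line h0 hW hV (mul_mem hg hk) ?_ h1 _).1 ?_) <;>
    rw [← LinearEquiv.mul_apply, mul_inv_rev, inv_mul_cancel_right, e] <;> ring

theorem transv {x0 : K} (h0 : x0 ≠ 0) (hW : ∀ g ∈ H, (g (x0, 0, 0)).2.2 = 0)
    (hV : ∃ g ∈ H, ∀ x y, (g (x, y, 0)).2.1 = 0) {g τ : GA K} (hg : g ∈ H) (hτ : τ ∈ T) :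
    (∀ x, (g * τ * g⁻¹) (x, 0, 0) = (x, 0, 0)) ∧ ∃ m : K, ∀ w, ((g * τ * g⁻¹) w).2 =
      w.2 + (m * (w.2.1 * (g (0, 1, 0)).2.2 - w.2.2 * (g (0, 1, 0)).2.1)) • (g (0, 1, 0)).2 := by
  refine ⟨fun x => h.conj_fix hτ (congrArg Prod.snd ((h.snd_eq_zero h0 hW hV (inv_mem hg)).2 rfl)), ?_⟩
  have hv : (g (0, 1, 0)).2 ≠ 0 := fun e => by simpa using (h.snd_eq_zero h0 hW hV hg).1 e
  have hl := h.line h0 hW hV hg (congrArg (fun w => w.2.2) (g.symm_apply_apply _)) hv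
  set v := (g (0, 1, 0)).2
  have h1 : ∀ w, ∃ μ : K, ((g * τ * g⁻¹) w).2 = w.2 + μ • v := fun w => by
    obtain ⟨μ, e⟩ := exists_smul (a := ((g * τ * g⁻¹) w - w).2) hv ((hl _).1 (by
      obtain ⟨u, e⟩ := h.tau.1 τ hτ
      rw [map_sub, ← LinearEquiv.mul_apply, ← mul_assoc, inv_mul_cancel_left, LinearEquiv.mul_apply,
        show τ (g⁻¹ w) = _ from e (g⁻¹ w).1 (g⁻¹ w).2.1 (g⁻¹ w).2.2]
      simp))
    exact ⟨μ, by rw [← e]; simp⟩
  obtain ⟨y, z, hd⟩ : ∃ y z, y * v.2 - z * v.1 = 1 := by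
    by_cases h1 : v.1 = 0
    · exact ⟨v.2⁻¹, 0, by simp [show v.2 ≠ 0 from fun h2 => hv (Prod.ext h1 h2)]⟩
    · exact ⟨0, -v.1⁻¹, by simp [h1]⟩
  obtain ⟨m, hm⟩ := h1 (0, y, z)
  refine ⟨m, fun w => ?_⟩
  set c := w.2.1 * v.2 - w.2.2 * v.1 with hc
  obtain ⟨μ, e⟩ := h1 (0, c * y, c * z)
  obtain ⟨c', e'⟩ := h.lines h0 hW hV (mul_mem (mul_mem hg (h.syl.le hτ)) (inv_mem hg)) y z c
  have e2 := e.symm.trans e'
  rw [hm, Prod.ext_iff] at e2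
  simp only [Prod.fst_add, Prod.snd_add, Prod.smul_fst, Prod.smul_snd, smul_eq_mul] at e2
  obtain rfl : c' = c := by linear_combination e2.2 * v.1 - e2.1 * v.2 + (c - c') * hd
  have e3 := h.conj_fix hτ ((hl (w - (0, c * y, c * z))).2 (by
    simp only [Prod.fst_sub, Prod.snd_sub]; linear_combination -hc - c * hd))
  rw [map_sub, sub_eq_iff_eq_add] at e3
  rw [e3, Prod.snd_add, e', hm]
  exact Prod.ext (by simp; ring) (by simp; ring)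

theorem conj_lin {x0 : K} (h0 : x0 ≠ 0) (hW : ∀ g ∈ H, (g (x0, 0, 0)).2.2 = 0)
    (hV : ∃ g ∈ H, ∀ x y, (g (x, y, 0)).2.1 = 0) {g τ : GA K} (hg : g ∈ H) (hτ : τ ∈ T) :
    (∀ x, (g * τ * g⁻¹) (x, 0, 0) = (x, 0, 0)) ∧ ∃ a b c d : K, a * d - b * c = 1 ∧
      ∀ x y z, ((g * τ * g⁻¹) (x, y, z)).2 = (a * y + b * z, c * y + d * z) := by
  obtain ⟨h1, m, e⟩ := h.transv h0 hW hV hg hτ
  set v := (g (0, 1, 0)).2
  exact ⟨h1, 1 + m * v.2 * v.1, -m * v.1 ^ 2, m * v.2 ^ 2, 1 - m * v.1 * v.2, by ring, fun x y z =>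
    (e _).trans (Prod.ext (by simp; ring) (by simp; ring))⟩

theorem lower {x0 : K} (h0 : x0 ≠ 0) (hW : ∀ g ∈ H, (g (x0, 0, 0)).2.2 = 0)
    (hV : ∃ g ∈ H, ∀ x y, (g (x, y, 0)).2.1 = 0) (m : K) :
    ∃ ψ ∈ H, (∀ x, ψ (x, 0, 0) = (x, 0, 0)) ∧ ∀ w, (ψ w).2 = (w.2.1, w.2.2 + m * w.2.1) := by
  obtain ⟨g, hg, e⟩ := id hV
  choose τ hτ e' using h.tau.2
  choose h1 μ hμ using fun u => h.transv h0 hW hV hg (hτ u)
  have h2 : ∀ u w, ((g * τ u * g⁻¹) w).2 = (w.2.1, w.2.2 + μ u * (g (0, 1, 0)).2.2 ^ 2 * w.2.1) := fun u w =>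
    (hμ u w).trans (Prod.ext (by simp [e]) (by simp [e]; ring))
  obtain ⟨u, rfl⟩ := Finite.injective_iff_surjective.1 (show Function.Injective
    fun u => μ u * (g (0, 1, 0)).2.2 ^ 2 from fun u u' e'' => by
      have h3 := (h.snd_eq_zero h0 hW hV hg (v := τ u (0, 0, 1) - τ u' (0, 0, 1))).1 (by
        have k : ∀ u, g (τ u (0, 0, 1)) = (g * τ u * g⁻¹) (g (0, 0, 1)) := fun u => by
          rw [← LinearEquiv.mul_apply (g * τ u * g⁻¹), inv_mul_cancel_right, LinearEquiv.mul_apply]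
        rw [map_sub, k, k, Prod.snd_sub, h2, h2, show μ u * _ = μ u' * _ from e'', sub_self])
      rw [e', e'] at h3
      simpa [sub_eq_zero] using h3) m
  exact ⟨_, mul_mem (mul_mem hg (h.syl.le (hτ u))) (inv_mem hg), h1 u, h2 u⟩

omit [Finite K] [CharP K 2] in
theorem upper (u : K) : ∃ τ ∈ H, (∀ x, τ (x, 0, 0) = (x, 0, 0)) ∧ ∀ w, (τ w).2 = (w.2.1 + u * w.2.2, w.2.2) := by
  obtain ⟨τ, hτ, e⟩ := h.tau.2 u
  exact ⟨τ, h.syl.le hτ, fun x => h.fixZ hτ rfl, fun w => congrArg Prod.snd (e w.1 w.2.1 w.2.2)⟩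

theorem weyl {x0 : K} (h0 : x0 ≠ 0) (hW : ∀ g ∈ H, (g (x0, 0, 0)).2.2 = 0)
    (hV : ∃ g ∈ H, ∀ x y, (g (x, y, 0)).2.1 = 0) :
    ∃ ψ ∈ H, (∀ x, ψ (x, 0, 0) = (x, 0, 0)) ∧ ∀ x y z, (ψ (x, y, z)).2 = (z, y) := by
  obtain ⟨ψ, hψ, a1, a2⟩ := h.lower h0 hW hV 1
  obtain ⟨τ, hτ, b1, b2⟩ := h.upper 1
  refine ⟨τ * ψ * τ, mul_mem (mul_mem hτ hψ) hτ, fun x => by simp [b1, a1], fun x y z => ?_⟩
  simp only [LinearEquiv.mul_apply, a2, b2, Prod.mk.injEq]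
  exact ⟨by linear_combination (y + z) * CharTwo.two_eq_zero (R := K),
    by linear_combination z * CharTwo.two_eq_zero (R := K)⟩

theorem torus {x0 : K} (h0 : x0 ≠ 0) (hW : ∀ g ∈ H, (g (x0, 0, 0)).2.2 = 0)
    (hV : ∃ g ∈ H, ∀ x y, (g (x, y, 0)).2.1 = 0) {a : K} (ha : a ≠ 0) :
    ∃ ψ ∈ H, ψ ∈ normalizer (T : Set (GA K)) ∧ (∀ x, ψ (x, 0, 0) = (x, 0, 0)) ∧
      ∃ b, ∀ x y z, (ψ (x, y, z)).2 = (a * y + b * z, a⁻¹ * z) := by
  obtain ⟨ψ, hψ, a1, a2⟩ := h.lower h0 hW hV 1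
  obtain ⟨τ, hτ, b1, b2⟩ := h.upper (a - 1)
  obtain ⟨χ, hχ, c1, c2⟩ := h.lower h0 hW hV (-a⁻¹)
  have e : ∀ w, ((χ * τ * ψ) w).2 = (a * w.2.1 + (a - 1) * w.2.2, a⁻¹ * w.2.2) := fun w => by
    simp only [LinearEquiv.mul_apply, a2, b2, c2, Prod.mk.injEq]
    exact ⟨by ring, by field_simp; ring⟩
  have hk := mul_mem (mul_mem hχ hτ) hψ
  refine ⟨_, hk, ?_, fun x => by simp [a1, b1, c1], a - 1, fun x y z => e _⟩
  let X : Subgroup (GA K) := H ⊓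
    { carrier := {k | (∀ v : K × K × K, v.2.2 = 0 → k v = v) ∧ ∀ v, (k v).2.2 = v.2.2}
      one_mem' := ⟨fun _ _ => rfl, fun _ => rfl⟩
      mul_mem' := fun {a b} ha hb => ⟨fun v hv => by rw [LinearEquiv.mul_apply, hb.1 v hv, ha.1 v hv],
        fun v => by rw [LinearEquiv.mul_apply, ha.2, hb.2]⟩
      inv_mem' := fun {a} ha => ⟨fun v hv => a.symm_apply_eq.2 (ha.1 v hv).symm,
        fun v => (ha.2 _).symm.trans (congrArg (fun w => w.2.2) (a.apply_symm_apply v))⟩ }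
  have hX : X = T := h.syl.eq_of_le inf_le_left (fun k => ⟨1, Subtype.ext (LinearEquiv.ext fun v => by
      have := k.2.2.1 (k.1 v - v) (by simp [k.2.2.2])
      rw [map_sub, sub_eq_iff_eq_add, sub_add_eq_add_sub, ← two_smul K, CharTwo.two_eq_zero, zero_smul, zero_sub,
        ← neg_one_smul K, CharTwo.neg_eq, one_smul] at this
      simpa [pow_two] using this)⟩) fun σ hσ => ⟨h.syl.le hσ, fun v => h.fixZ hσ, fun v => by
      obtain ⟨u, e⟩ := h.tau.1 σ hσ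
      rw [show σ v = _ from e v.1 v.2.1 v.2.2]⟩
  generalize χ * τ * ψ = k at e hk
  have e1 : ∀ w, a⁻¹ * (k⁻¹ w).2.2 = w.2.2 := fun w =>
    (congrArg Prod.snd (e _)).symm.trans (congrArg (fun w => w.2.2) (k.apply_symm_apply w))
  rw [← hX]
  refine mem_normalizer_of_cj_mem fun σ hσ => ⟨cj_mem hk hσ.1, fun v hv => ?_, fun v => ?_⟩
  · rw [cj, LinearEquiv.mul_apply, LinearEquiv.mul_apply, hσ.2.1 _
      ((mul_eq_zero.1 ((e1 v).trans hv)).resolve_left (inv_ne_zero ha))]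
    exact k.apply_symm_apply v
  · rw [cj, LinearEquiv.mul_apply, LinearEquiv.mul_apply, e, ← e1 v, hσ.2.2]

end P2

end CL.S4F
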