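import Cfsg.Agent.FUS.S4.Tools

/-!
# S5260, realizing an extension of a group fusion system

`C = ker θ = j(C)` is central and elementary abelian; `P_g = PP θ g`; `φ_g` from `ha` (use `choose`).

PROOF.
(c') If `Mor F P f₁`, `Mor F P f₂`, `j.range ≤ P`, `f₁ (j c) = f₂ (j c) ∈ j.range` for all `c`, `u ∈ P`, `u u = 1`,
  `θ (f₁ u) = θ (f₂ u)` then `f₁ u = f₂ u`.  [`f = f₂ ∘ f₁⁻¹` (`Mor.exists_inv`) fixes `j.range = f₁(j.range)` pointwise
  (`sc_img_eq`), `u' = f₁ u`, `f u' = u' c`.  On `R = j.range ⊔ zpowers u'` (all elements `c` or `u' c`) `f` gives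
  `α ∈ Aut_F(R)` with `α² = 1`; `exists_mor_fullyNormalized_conj_le` with `K = zpowers α`: `g (α x) = cj s (g x)`;
  `g u'` is an involution, `g c ∈ ker θ` (`sc_map_mem`), so `hc` gives `g c = 1`.]
CONSTRUCTION.  `X = G ⧸ θ.range` (odd cardinality), `S` acts on `X` through `θ` (`MulAction.compHom`).  For `x ∈ X`
  let `x₀ = (orbit class of x).out`, `b x = x₀.out ∈ G`, `n x ∈ S` with `θ (n x) • x₀ = x`, `r x = θ (n x) * b x`
  (so `mk (r x) = x`, `b (θ s • x) = b x`).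
  `Ĝ = {(g, σ) : G × (X → S) | ∀ x, θ (σ x) = (r (g • x))⁻¹ * g * r x}` with
  `(g,σ)(g',σ') = (g g', x ↦ σ (g' • x) * σ' x)` (a structure with `Group.ofLeftAxioms`, inverse
  `(g⁻¹, x ↦ (σ (g⁻¹ • x))⁻¹)`; or a subgroup of a semidirect product).  `π₀ : Ĝ →* G` is onto (choice).
  For `(1,σ)` all `σ x ∈ ker θ`; `Λ σ = ∏ x, ρ (r x) (j⁻¹ (σ x)) ∈ C`.  `N = {(1,σ) | Λ σ = 1}` is normal:
  `(g,τ)(1,σ)(g,τ)⁻¹ = (1, σ ∘ g⁻¹)` (centrality) and `ρ (r (g • x)) = ρ g * ρ (r x)` (`hρ`).  `G^ = Ĝ ⧸ N`.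
  `ι₀ s = (θ s, x ↦ φ_{(b x)⁻¹} ((n (θ s • x))⁻¹ * s * n x))` (the argument fixes `x₀`, i.e. lies in `P_{(b x)⁻¹}`);
  `ι₀` is a homomorphism; for `s = j c` the entries are `j (ρ (b x)⁻¹ c)`, `Λ = c ^ |X| = c`.  So `ι = mk ∘ ι₀` is
  injective, `ι.range = π⁻¹(θ.range)` (`(1,σ) ≡ ι₀ (j (Λ σ))` mod `N`), of odd index: Sylow.
KEY.  `ĝ = (g,τ)`, `u ∈ P_g`, `u u = 1`, `u' = φ_g u`: `ĝ ι₀ u ≡ ι₀ u' ĝ` mod `N`.  With `σ = (ι₀ u).2`,
  `σ' = (ι₀ u').2`, `δ x = (σ' (g • x) τ x)⁻¹ (τ (u • x) σ x) ∈ ker θ`; show `Λ δ = 1` by `Finset.prod_involution`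
  for `x ↦ u • x`: `σ (u•x) = (σ x)⁻¹`, `σ' (g • u • x) = (σ' (g • x))⁻¹`, so by centrality of `δ x`,
  `δ (u • x) = (δ x)⁻¹`, and `ρ (r (u • x)) = ρ (r x)`.  If `u • x = x`: `ψ_x = φ_{(b x)⁻¹} ∘ cj (n x)⁻¹` is an `F`-map
  on the stabilizer of `x` acting on `C` as `ρ (r x)⁻¹`; (c') for `cj (τ x) ∘ ψ_x` and `ψ_{g•x} ∘ φ_g` on
  `j.range ⊔ zpowers u` gives `δ x = 1`.
  By `hd`, `ĝ ι(u) ĝ⁻¹ = ι (φ_g u)` for all `u ∈ P_g` (`IsHomOn.eqOn_closure`).
REALIZATION (`isRealizedBy_iff`, `isRealizable_of_isRealizedBy`).  (←) `ι (f x) = ĝ ι x ĝ⁻¹` on `P` gives `P ≤ P_g`,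
  `f = φ_g` on `P`.  (→) induction on the chain `hb`; a generator `ψ` on `R` with datum `g` has `R ≤ P_g` and equals
  `φ_g` on the involutions of `R` by (c'), hence on `R`.
-/

set_option autoImplicit false

namespace CL.S4F

open Subgroup Cfsg Cfsg.FusionSystem CL.Fus

namespace R1

/-- two `F`-maps that agree on `C` and modulo `C` on an involution agree on it -/
theorem agree {S : Type*} [Group S] [Finite S] (hS : IsPGroup 2 S)
    {F : FusionSystem (⊤ : Subgroup S)} (hF : F.IsSaturated 2) {G : Type*} [Group G]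
    {C : Type*} [CommGroup C] {θ : S →* G} {j : C →* S} (hker : θ.ker = j.range)
    (hC : ∀ c : C, c * c = 1) (hsc : F.StronglyClosed j.range)
    (hc : ∀ u s : S, u * u = 1 → θ (cj s u) = θ u → cj s u = u) {P : Subgroup S} {f₁ f₂ : S → S}
    (h₁ : Mor F P f₁) (h₂ : Mor F P f₂) (hP : j.range ≤ P) (e : ∀ c, f₁ (j c) = f₂ (j c)) {u : S} (hu : u ∈ P)
    (uu : u * u = 1) (eu : θ (f₁ u) = θ (f₂ u)) : f₁ u = f₂ u := by
  obtain ⟨g₁, hg₁, e1, -⟩ := h₁.exists_inv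
  have hf : Mor F (img f₁ P) (f₂ ∘ g₁) := h₂.comp hg₁ fun y hy => by
    obtain ⟨x, hx, rfl⟩ := h₁.mem_img.1 hy
    rwa [e1 x hx]
  have ef : ∀ x ∈ P, (f₂ ∘ g₁) (f₁ x) = f₂ x := fun x hx => by rw [Function.comp_apply, e1 x hx]
  generalize f₂ ∘ g₁ = f at hf ef
  have hJ : img f₁ j.range = j.range := sc_img_eq hsc h₁ hP
  have fix : ∀ y ∈ j.range, f y = y := fun y hy => by
    rw [← hJ] at hy
    obtain ⟨x, ⟨c, rfl⟩, rfl⟩ := (h₁.mono hP).mem_img.1 hy
    rw [ef _ (hP ⟨c, rfl⟩), e]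
  obtain ⟨c, hc₀⟩ : (f₁ u)⁻¹ * f₂ u ∈ j.range := by
    rw [← hker, MonoidHom.mem_ker, map_mul, map_inv, eu, inv_mul_cancel]
  have e2 : f (f₁ u) = f₁ u * j c := by rw [ef u hu, hc₀, mul_inv_cancel_left]
  have u2 : f₁ u * f₁ u = 1 := by rw [← h₁.map_mul hu hu, uu, h₁.map_one]
  have hu' := mem_img_of_mem f₁ hu
  rw [← ef u hu]
  generalize f₁ u = w at e2 u2 hu' ⊢
  have hR : j.range ⊔ zpowers w ≤ img f₁ P :=
    sup_le (hJ.ge.trans (img_mono _ hP)) (zpowers_le.2 hu')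
  have wR : w ∈ j.range ⊔ zpowers w := mem_sup_right (mem_zpowers w)
  have cR : j c ∈ j.range ⊔ zpowers w := mem_sup_left ⟨c, rfl⟩
  have hfR := hf.mono hR
  have maps : ∀ x ∈ j.range ⊔ zpowers w, f x ∈ j.range ⊔ zpowers w := fun x hx =>
    ((sup_le (fun y hy => ⟨mem_sup_left hy, by rw [fix y hy]; exact mem_sup_left hy⟩)
      (zpowers_le.2 ⟨wR, by rw [e2]; exact mul_mem wR cR⟩) :
        j.range ⊔ zpowers w ≤ hfR.isHomOn.preim (j.range ⊔ zpowers w)) hx).2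
  have ff : ∀ x ∈ j.range ⊔ zpowers w, f (f x) = x := fun x hx =>
    ((sup_le (fun y hy => ⟨mem_sup_left hy, by simp only [Function.comp_apply, fix y hy, id]⟩)
      (zpowers_le.2 ⟨wR, by
        rw [Function.comp_apply, e2, hfR.map_mul wR cR, e2, fix _ ⟨c, rfl⟩, mul_assoc, ← map_mul, hC,
          map_one, mul_one, id]⟩) :
        j.range ⊔ zpowers w ≤ (hfR.comp hfR maps).isHomOn.eqSub (mor_id F le_top).isHomOn) hx).2
  obtain ⟨α, hα, eα⟩ := hfR.exists_aut (hfR.img_eq_self maps)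
  have α2 : α ^ 2 = 1 := mulAut_ext_autFun fun x hx => by
    rw [sq, autFun_mul _ _ hx, eα (autFun_mem α hx), eα hx, ff x hx, autFun_one hx]
  obtain ⟨g, hg, -, k⟩ := exists_mor_fullyNormalized_conj_le (hS.to_subgroup ⊤) hF
    (P := j.range ⊔ zpowers w) le_top (K := zpowers α) (zpowers_le.2 hα) (fun ⟨x, n, hn⟩ => ⟨1, Subtype.ext (by
      subst hn
      show (α ^ n) ^ 2 ^ 1 = 1
      rw [pow_one, ← zpow_natCast, ← zpow_mul, mul_comm, zpow_mul, zpow_natCast, α2, one_zpow])⟩)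
  obtain ⟨s, -, k⟩ := k α (mem_zpowers α)
  have k1 := k w wR
  rw [eα wR, e2, hg.map_mul wR cR] at k1
  have k2 : θ (g (j c)) = 1 := by
    rw [← MonoidHom.mem_ker, hker]; exact sc_map_mem hsc hg cR ⟨c, rfl⟩
  have k3 := hc (g w) s (by rw [← hg.map_mul wR wR, u2, hg.map_one]) (by rw [← k1, map_mul, k2, mul_one])
  rw [k3, mul_eq_left, hg.eq_one_iff cR] at k1
  rw [e2, k1, mul_one]

/-- the wreath product -/
@[ext] structure Wr (G X S : Type*) where
  g : G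
  σ : X → S

section
variable {G X S : Type*} [Group G] [MulAction G X] [Group S]

instance : Mul (Wr G X S) := ⟨fun a b => ⟨a.g * b.g, fun x => a.σ (b.g • x) * b.σ x⟩⟩
instance : One (Wr G X S) := ⟨⟨1, fun _ => 1⟩⟩
instance : Inv (Wr G X S) := ⟨fun a => ⟨a.g⁻¹, fun x => (a.σ (a.g⁻¹ • x))⁻¹⟩⟩

@[simp] theorem mul_g (a b : Wr G X S) : (a * b).g = a.g * b.g := rfl
@[simp] theorem mul_σ (a b : Wr G X S) (x : X) : (a * b).σ x = a.σ (b.g • x) * b.σ x := rfl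
omit [MulAction G X] in
@[simp] theorem one_g : (1 : Wr G X S).g = 1 := rfl
omit [MulAction G X] in
@[simp] theorem one_σ (x : X) : (1 : Wr G X S).σ x = 1 := rfl
@[simp] theorem inv_g (a : Wr G X S) : a⁻¹.g = a.g⁻¹ := rfl
@[simp] theorem inv_σ (a : Wr G X S) (x : X) : a⁻¹.σ x = (a.σ (a.g⁻¹ • x))⁻¹ := rfl

instance : Group (Wr G X S) := Group.ofLeftAxioms
  (fun a b c => by ext <;> simp [mul_assoc, mul_smul]) (fun a => by ext <;> simp) (fun a => by ext <;> simp)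

instance [Finite G] [Finite X] [Finite S] : Finite (Wr G X S) :=
  Finite.of_injective (fun a : Wr G X S => (a.g, a.σ)) fun _ _ h =>
    Wr.ext (congrArg Prod.fst h) (congrArg Prod.snd h)

/-- the lifts of the monomial representation -/
def W0 (θ : S →* G) (r : X → G) : Subgroup (Wr G X S) where
  carrier := {a | ∀ x, θ (a.σ x) = (r (a.g • x))⁻¹ * a.g * r x}
  one_mem' := fun x => by simp
  mul_mem' := fun {a b} ha hb x => by
    rw [mul_σ, map_mul, ha, hb, mul_g, mul_smul]; group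
  inv_mem' := fun {a} ha x => by
    rw [inv_σ, map_inv, ha, inv_g, smul_inv_smul]; group

/-- the projection -/
def pr (θ : S →* G) (r : X → G) : W0 θ r →* G := MonoidHom.mk' (fun a => a.1.g) fun _ _ => rfl

variable {C : Type*} [CommGroup C]

/-- the base group -/
def ka {θ : S →* G} {j : C →* S} (hker : θ.ker = j.range) (r : X → G) : (X → C) →* W0 θ r :=
  MonoidHom.mk' (fun c => ⟨⟨1, fun x => j (c x)⟩, fun x => by
    have : j (c x) ∈ θ.ker := hker ▸ ⟨_, rfl⟩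
    simpa using this⟩) fun a b => Subtype.ext (by ext <;> simp)

/-- the trace map -/
def La [Fintype X] (ρ : G →* MulAut C) (r : X → G) : (X → C) →* C :=
  MonoidHom.mk' (fun c => ∏ x, ρ (r x) (c x)) fun a b => by simp [Finset.prod_mul_distrib]

omit [MulAction G X] in
theorem La_apply [Fintype X] (ρ : G →* MulAut C) (r : X → G) (c : X → C) :
    La ρ r c = ∏ x, ρ (r x) (c x) := rfl

theorem ka_ex {θ : S →* G} {j : C →* S} (hker : θ.ker = j.range) {r : X → G} {a : W0 θ r} (h : a.1.g = 1) :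
    ∃ c, ka hker r c = a := by
  have : ∀ x, ∃ c, j c = a.1.σ x := fun x => by
    have : a.1.σ x ∈ θ.ker := by rw [MonoidHom.mem_ker, a.2 x, h]; simp
    rwa [hker] at this
  choose c hc using this
  exact ⟨c, Subtype.ext (Wr.ext h.symm (funext hc))⟩

end

theorem core {S : Type*} [Group S] [Finite S] (hS : IsPGroup 2 S)
    {F : FusionSystem (⊤ : Subgroup S)} (hF : F.IsSaturated 2) {G : Type*} [Group G] [Finite G]
    {C : Type*} [CommGroup C] (θ : S →* G) (j : C →* S) (ρ : G →* MulAut C)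
    (hj : Function.Injective j) (hker : θ.ker = j.range) (hcen : ∀ c s, s * j c = j c * s)
    (hC : ∀ c : C, c * c = 1) (hρ : ∀ s, ρ (θ s) = 1) (hsc : F.StronglyClosed j.range)
    (hc : ∀ u s : S, u * u = 1 → θ (cj s u) = θ u → cj s u = u) (φ : G → S → S)
    (φ1 : ∀ g, Mor F (PP θ g) (φ g)) (φ2 : ∀ g, ∀ u ∈ PP θ g, θ (φ g u) = cj g (θ u))
    (φ3 : ∀ g c, φ g (j c) = j (ρ g c)) (hd : ∀ g : G, PP θ g ≤ closure {u | u ∈ PP θ g ∧ u * u = 1})
    {X : Type*} [MulAction G X] [Fintype X] (hX : Odd (Fintype.card X)) (b : X → G) (n : X → S)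
    (hb : ∀ s x, b (θ s • x) = b x) (r : X → G) (er : ∀ x, r x = θ (n x) * b x)
    (hr : ∀ g x, (r (g • x))⁻¹ * g * r x ∈ θ.range) :
    ∃ (N : Subgroup (W0 θ r)) (_ : N.Normal) (ι : S →* W0 θ r ⧸ N) (π : W0 θ r ⧸ N →* G),
      Function.Injective ι ∧ Function.Surjective π ∧ ι.range = θ.range.comap π ∧ (∀ s, π (ι s) = θ s) ∧
      ∀ a, ∀ u ∈ PP θ (π a), ι (φ (π a) u) = cj a (ι u) := by
  classical
  have θj : ∀ c, θ (j c) = 1 := fun c => by rw [← MonoidHom.mem_ker, hker]; exact ⟨c, rfl⟩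
  have ρr : ∀ g x, ρ (r (g • x)) = ρ g * ρ (r x) := fun g x => by
    obtain ⟨s, hs⟩ := hr g x
    have := hρ s
    rw [hs, map_mul, map_mul, map_inv, mul_assoc, inv_mul_eq_one] at this
    exact this
  have ρb : ∀ x, ρ (r x) = ρ (b x) := fun x => by rw [er, map_mul, hρ, one_mul]
  have cka : ∀ (a : W0 θ r) c, a * ka hker r c * a⁻¹ = ka hker r fun x => c (a.1.g⁻¹ • x) := fun a c =>
    Subtype.ext (by ext <;> simp [ka, hcen])
  have nN : (((La ρ r).ker).map (ka hker r)).Normal := ⟨by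
    rintro _ ⟨c, hc, rfl⟩ a
    refine ⟨_, ?_, (cka a c).symm⟩
    rw [SetLike.mem_coe, MonoidHom.mem_ker, La_apply] at hc ⊢
    rw [← Equiv.prod_comp (MulAction.toPerm a.1.g)]
    simp only [MulAction.toPerm_apply, inv_smul_smul, ρr, MulAut.mul_apply]
    rw [← map_prod, hc, map_one]⟩
  have mem : ∀ s x, (n (θ s • x))⁻¹ * s * n x ∈ PP θ (b x)⁻¹ := fun s x => by
    have := hr (θ s) x
    rw [er, er, hb] at this
    rw [mem_PP]
    convert this using 1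
    simp only [cj, map_mul, map_inv]; group
  let ι₀ : S →* W0 θ r := MonoidHom.mk'
    (fun s => ⟨⟨θ s, fun x => φ (b x)⁻¹ ((n (θ s • x))⁻¹ * s * n x)⟩, fun x => by
      show θ (φ _ _) = (r (θ s • x))⁻¹ * θ s * r x
      rw [φ2 _ _ (mem s x), er, er, hb]
      simp only [cj, map_mul, map_inv]; group⟩) fun s t => Subtype.ext (Wr.ext (map_mul θ s t) (funext fun x => by
      show φ _ _ = φ (b (θ t • x))⁻¹ ((n (θ s • θ t • x))⁻¹ * s * n (θ t • x)) * φ (b x)⁻¹ _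
      have := mem s (θ t • x)
      rw [hb] at this ⊢
      rw [← (φ1 _).map_mul this (mem t x), map_mul, mul_smul]
      congr 1; group))
  have ιg : ∀ s, (ι₀ s).1.g = θ s := fun _ => rfl
  have ισ : ∀ s x, (ι₀ s).1.σ x = φ (b x)⁻¹ ((n (θ s • x))⁻¹ * s * n x) := fun _ _ => rfl
  clear_value ι₀
  have ιj : ∀ d, ι₀ (j d) = ka hker r fun x => ρ (b x)⁻¹ d := fun d => Subtype.ext (Wr.ext (by
    rw [ιg, θj]; rfl) (funext fun x => by
      rw [ισ, θj, one_smul, hcen, mul_assoc, inv_mul_cancel, mul_one, φ3]; rfl))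
  have Ld : ∀ d, La ρ r (fun x => ρ (b x)⁻¹ d) = d := fun d => by
    obtain ⟨k, hk⟩ := hX
    rw [La_apply]
    simp only [ρb, ← MulAut.mul_apply, ← map_mul, mul_inv_cancel, map_one, MulAut.one_apply]
    rw [Finset.prod_const, Finset.card_univ, hk, pow_succ, pow_mul, sq, hC, one_pow, one_mul]
  have kinj : Function.Injective (ka hker r) := fun c c' h => funext fun x =>
    hj (congrFun (congrArg (fun a : W0 θ r => a.1.σ) h) x)
  set N := ((La ρ r).ker).map (ka hker r) with hN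
  have kN : ∀ c, ka hker r c ∈ N ↔ La ρ r c = 1 := fun c => mem_map_iff_mem kinj
  let π : W0 θ r ⧸ N →* G := QuotientGroup.lift N (pr θ r) (by rintro _ ⟨c, -, rfl⟩; rfl)
  have πm : ∀ a : W0 θ r, π a = a.1.g := fun _ => rfl
  have mk_ka : ∀ c, (ka hker r c : W0 θ r ⧸ N) = ι₀ (j (La ρ r c)) := fun c => by
    rw [QuotientGroup.eq, ιj, ← map_inv, ← map_mul, kN, map_mul, map_inv, Ld, inv_mul_cancel]
  refine ⟨N, nN, (QuotientGroup.mk' N).comp ι₀, π, (injective_iff_map_eq_one _).2 fun s hs => ?_,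
    fun g => ?_, le_antisymm ?_ fun a ha => ?_, fun s => ιg s, fun a => ?_⟩
  · have hs : ι₀ s ∈ N := (QuotientGroup.eq_one_iff _).1 hs
    obtain ⟨d, rfl⟩ : s ∈ j.range := by
      obtain ⟨c, -, e⟩ := hs
      rw [← hker, MonoidHom.mem_ker, ← ιg, ← e]; rfl
    rw [ιj, kN, Ld] at hs
    rw [hs, map_one]
  · choose τ hτ using hr g
    exact ⟨((⟨⟨g, τ⟩, hτ⟩ : W0 θ r) : W0 θ r ⧸ N), rfl⟩
  · rintro _ ⟨s, rfl⟩
    exact ⟨s, (ιg s).symm⟩
  · obtain ⟨a, rfl⟩ := QuotientGroup.mk_surjective a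
    obtain ⟨s, hs⟩ := ha
    obtain ⟨c, e⟩ := ka_ex hker (a := a * (ι₀ s)⁻¹) (by
      show a.1.g * ((ι₀ s).1.g)⁻¹ = 1
      rw [ιg, hs, πm, mul_inv_cancel])
    refine ⟨j (La ρ r c) * s, ?_⟩
    show ((ι₀ _ : W0 θ r) : W0 θ r ⧸ N) = a
    rw [map_mul, QuotientGroup.mk_mul, ← mk_ka, ← QuotientGroup.mk_mul, e, inv_mul_cancel_right]
  obtain ⟨a, rfl⟩ := QuotientGroup.mk_surjective a
  rw [πm]
  obtain ⟨⟨g, τ⟩, hτ⟩ := a
  have key : ∀ u ∈ PP θ g, u * u = 1 → ((ι₀ (φ g u) : W0 θ r) : W0 θ r ⧸ N) =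
      cj ((⟨⟨g, τ⟩, hτ⟩ : W0 θ r) : W0 θ r ⧸ N) (ι₀ u) := fun u hu uu => by
    rw [cj, eq_mul_inv_iff_mul_eq, ← QuotientGroup.mk_mul, ← QuotientGroup.mk_mul, QuotientGroup.eq]
    have θu : θ (φ g u) * g = g * θ u := by rw [φ2 g u hu, cj, inv_mul_cancel_right]
    obtain ⟨c, e⟩ := ka_ex hker (a := (ι₀ (φ g u) * ⟨⟨g, τ⟩, hτ⟩)⁻¹ * (⟨⟨g, τ⟩, hτ⟩ * ι₀ u)) (by
      show ((ι₀ _).1.g * g)⁻¹ * (g * (ι₀ u).1.g) = 1
      rw [ιg, ιg, θu, inv_mul_cancel])
    rw [← e, kN, La_apply]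
    have ec : ∀ x, j (c x) = ((ι₀ (φ g u)).1.σ (g • x) * τ x)⁻¹ * (τ (θ u • x) * (ι₀ u).1.σ x) := fun x => by
      have := congrFun (congrArg (fun a : W0 θ r => a.1.σ) e) x
      simp only [coe_mul, coe_inv, mul_σ, inv_σ, mul_g, ιg, θu, inv_smul_smul] at this
      exact this
    have inv : ∀ v : S, v * v = 1 → ∀ x, (ι₀ v).1.σ (θ v • x) = ((ι₀ v).1.σ x)⁻¹ := fun v vv x => by
      have := congrFun (congrArg (fun a : W0 θ r => a.1.σ) (map_mul ι₀ v v)) x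
      simp only [vv, map_one, coe_mul, mul_σ, ιg, coe_one, one_σ] at this
      exact eq_inv_of_mul_eq_one_left this.symm
    have uu' : φ g u * φ g u = 1 := by rw [← (φ1 g).map_mul hu hu, uu, (φ1 g).map_one]
    have ux : ∀ x : X, θ u • θ u • x = x := fun x => by rw [← mul_smul, ← map_mul, uu, map_one, one_smul]
    refine Finset.prod_involution (fun x _ => θ u • x) (fun x _ => ?_) (fun x _ h1 h2 => h1 ?_)
      (fun _ _ => Finset.mem_univ _) fun x _ => ux x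
    · rw [ρr, hρ, one_mul, ← map_mul, show c x * c (θ u • x) = 1 from hj ?_, map_one]
      rw [map_mul, map_one, ← mul_inv_cancel_right (j (c x)) ((ι₀ u).1.σ x), ← hcen, ec, ec, ux, ← mul_smul,
        ← θu, mul_smul, inv _ uu', inv _ uu]
      group
    · have ψ : ∀ y : X, Mor F ((MulAction.stabilizer G y).comap θ) (φ (b y)⁻¹ ∘ cj (n y)⁻¹) := fun y =>
        (φ1 _).comp (mor_cj F le_top (mem_top _)) fun v hv => by
          have := mem v y
          rwa [show θ v • y = y from hv, ← inv_inv (n y), inv_inv (n y)⁻¹] at this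
      have jP : ∀ (y : X) k, j.range ≤ (MulAction.stabilizer G y).comap θ ⊓ PP θ k := by
        rintro y k _ ⟨d, rfl⟩
        refine mem_inf.2 ⟨?_, ?_⟩
        · rw [mem_comap, θj]; exact one_mem _
        · rw [mem_PP, θj, cj, mul_one, mul_inv_cancel]; exact one_mem _
      have cjj : ∀ s d, cj s (j d) = j d := fun s d => cj_eq_self_iff.2 (hcen d s)
      have h3 : θ (φ g u) • g • x = g • x := by rw [← mul_smul, θu, mul_smul, h2]
      have s1 : (ι₀ u).1.σ x = φ (b x)⁻¹ (cj (n x)⁻¹ u) := by rw [ισ, h2, cj, inv_inv]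
      have s2 : (ι₀ (φ g u)).1.σ (g • x) = φ (b (g • x))⁻¹ (cj (n (g • x))⁻¹ (φ g u)) := by
        rw [ισ, h3, cj, inv_inv]
      have k := agree hS hF hker hC hsc hc (P := (MulAction.stabilizer G x).comap θ ⊓ PP θ g)
        (((ψ x).mono inf_le_left).cj_comp (mem_top (τ x)))
        ((ψ (g • x)).comp ((φ1 g).mono inf_le_right) fun v hv => by
          show θ (φ g v) • g • x = g • x
          rw [φ2 g v (mem_inf.1 hv).2, cj, mul_smul, inv_smul_smul, mul_smul,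
            show θ v • x = x from (mem_inf.1 hv).1])
        (jP x g) (fun d => by
          simp only [Function.comp_apply, cjj, φ3, map_inv, ← ρb, ρr, mul_inv_rev, MulAut.mul_apply,
            MulAut.inv_apply_self]) (u := u) (mem_inf.2 ⟨h2, hu⟩) uu (by
          have := θj (c x)
          rw [ec, h2, map_mul, map_inv, inv_mul_eq_one, s1, s2] at this
          simp only [Function.comp_apply]
          rw [cj, map_mul, ← this, map_mul, map_inv, mul_inv_cancel_right])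
      simp only [Function.comp_apply] at k
      rw [show c x = 1 from hj ?_, map_one]
      rw [ec, h2, s1, s2, ← k, map_one, cj]; group
  intro u hu
  exact IsHomOn.eqOn_closure (f := fun u => ((ι₀ (φ g u) : W0 θ r) : W0 θ r ⧸ N))
    (g := fun u => cj ((⟨⟨g, τ⟩, hτ⟩ : W0 θ r) : W0 θ r ⧸ N) (ι₀ u))
    (fun x hx y hy => by
      have l : closure {u | u ∈ PP θ g ∧ u * u = 1} ≤ PP θ g := (closure_le _).2 fun _ h => h.1
      simp only [(φ1 g).map_mul (l hx) (l hy), map_mul, QuotientGroup.mk_mul])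
    (fun x _ y _ => by simp only [map_mul, QuotientGroup.mk_mul, cj]; group)
    (fun v hv => key v hv.1 hv.2) (hd g hu)

end R1

open R1 in
theorem realizable_of_cover {S : Type*} [Group S] [Finite S] (hS : IsPGroup 2 S)
    {F : FusionSystem (⊤ : Subgroup S)} (hF : F.IsSaturated 2) {G : Type*} [Group G] [Finite G]
    {C : Type*} [CommGroup C] (θ : S →* G) (j : C →* S) (ρ : G →* MulAut C)
    (hj : Function.Injective j) (hker : θ.ker = j.range) (hcen : ∀ c s, s * j c = j c * s)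
    (hC : ∀ c : C, c * c = 1) (hodd : Odd θ.range.index) (hρ : ∀ s, ρ (θ s) = 1)
    (hsc : F.StronglyClosed j.range)
    (hc : ∀ u s : S, u * u = 1 → θ (cj s u) = θ u → cj s u = u)
    (ha : ∀ g : G, ∃ φ, Mor F (PP θ g) φ ∧ (∀ u ∈ PP θ g, θ (φ u) = cj g (θ u)) ∧ ∀ c, φ (j c) = j (ρ g c))
    (hd : ∀ g : G, PP θ g ≤ closure {u | u ∈ PP θ g ∧ u * u = 1})
    (hb : ∀ P f, Mor F P f → Chain (fun R ψ => Mor F R ψ ∧ j.range ≤ R ∧ R ≤ closure {u | u ∈ R ∧ u * u = 1} ∧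
      ∃ g : G, (∀ u ∈ R, θ (ψ u) = cj g (θ u)) ∧ ∀ c, ψ (j c) = j (ρ g c)) P f) : F.IsRealizable 2 := by
  classical
  choose φ φ1 φ2 φ3 using ha
  let _ := Fintype.ofFinite (G ⧸ θ.range)
  let o : G ⧸ θ.range → G ⧸ θ.range := fun x => (Quotient.mk (MulAction.orbitRel θ.range _) x).out
  have hn : ∀ x, ∃ s, θ s • o x = x := fun x => by
    obtain ⟨⟨_, s, rfl⟩, e⟩ := (MulAction.orbitRel θ.range _).symm (Quotient.mk_out x)
    exact ⟨s, e⟩
  choose n hn using hn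
  have er : ∀ x, ((θ (n x) * (o x).out : G) : G ⧸ θ.range) = x := fun x => by
    rw [← smul_eq_mul, ← MulAction.Quotient.smul_coe, QuotientGroup.out_eq', hn]
  obtain ⟨N, _, ι, π, i1, i2, i3, i4, key⟩ := core hS hF θ j ρ hj hker hcen hC hρ hsc hc φ φ1 φ2 φ3 hd
    (X := G ⧸ θ.range) (by rwa [← Nat.card_eq_fintype_card]) (fun x => (o x).out) n
    (fun s x => by
      have : o (θ s • x) = o x := congrArg Quotient.out (Quotient.sound ⟨⟨θ s, s, rfl⟩, rfl⟩)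
      rw [this]) _ (fun _ => rfl) (fun g x => by
      rw [mul_assoc, ← QuotientGroup.eq, er, ← smul_eq_mul, ← MulAction.Quotient.smul_coe, er])
  have θπ : ∀ a u v, ι v = cj a (ι u) → θ v = cj (π a) (θ u) := fun a u v e => by
    rw [← i4, e, ← i4]; simp only [cj, map_mul, map_inv]
  refine isRealizable_of_isRealizedBy (ι := ι.comp (⊤ : Subgroup S).subtype)
    ((isRealizedBy_iff (e := ι) fun _ => rfl).2 ⟨i1.injOn, fun P f _ _ => ⟨fun h => ?_, fun ⟨a, h⟩ => ?_⟩⟩) ?_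
  · have := hb P f h
    clear h
    induction this with
    | id h => exact ⟨1, fun x hx => by rw [h x hx, cj_one]⟩
    | @step f ψ k R h1 h2 h3 h4 ih =>
      obtain ⟨m, l1, l2, g, l3, l4⟩ := h2
      obtain ⟨a, ha⟩ := ih fun _ _ => mem_top _
      obtain ⟨a', rfl⟩ := i2 g
      have l5 : R ≤ PP θ (π a') := fun u hu => mem_PP.2 ⟨_, l3 u hu⟩
      have l6 : closure {u | u ∈ R ∧ u * u = 1} ≤ R := (closure_le _).2 fun _ h => h.1
      have l7 := IsHomOn.eqOn_closure (m.isHomOn.mono l6) ((φ1 (π a')).isHomOn.mono (l6.trans l5))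
        fun u hu => agree hS hF hker hC hsc hc m ((φ1 _).mono l5) l1 (fun c => by rw [l4, φ3]) hu.1 hu.2
          (by rw [l3 u hu.1, φ2 _ u (l5 hu.1)])
      exact ⟨a' * a, fun x hx => by
        rw [h4 hx, Function.comp_apply, l7 (l2 (h3 x hx)), key _ _ (l5 (h3 x hx)), ha x hx, cj_mul]⟩
  · have l : P ≤ PP θ (π a) := fun u hu => mem_PP.2 ⟨_, θπ a u _ (h u hu)⟩
    exact ((φ1 _).mono l).congr fun u hu => i1 (by rw [key _ _ (l hu), h u hu])
  · have e : (ι.comp (⊤ : Subgroup S).subtype).range = ι.range := by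
      rw [MonoidHom.range_comp, range_subtype, ← MonoidHom.range_eq_map]
    rw [e]
    refine ⟨(hS.of_surjective _ ι.rangeRestrict_surjective).toSylow ?_, rfl⟩
    rw [i3, index_comap_of_surjective _ i2]
    exact hodd.not_two_dvd_nat

end CL.S4F
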