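import Cfsg.Agent.FUS.S4.Real1
import Cfsg.Agent.KSG.GLnBruhat

/-!
# S5260, characteristic two: a system in normal form is realizable

Apply `realizable_of_cover` (S4/Real1, may be a stub: `cf ship --pending`) with `j = jx K` (`jx_range`),
`θ₀ : U K →* GL (Fin 3) K`, `θ₀ ⟨t,x,y,z⟩ = !![1,t,y; 0,1,z; 0,0,1]` (kernel `Zx`),
`Δ = {c : Kˣ | ∃ f, Mor F ⊤ f ∧ ∀ x, f (zx x) = zx (c x)}` (a subgroup; inverses: `c⁻¹ = c²` by `cube`),
`G = {g ∈ GL₃(K) | (det g)⁻¹ ∈ Δ}`, `θ = θ₀.codRestrict G`, `ρ g =` multiplication by `(det g)⁻¹` on `Multiplicative K`.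
* `hodd`: `|GL₃(K)| = q³ (q³-1)(q²-1)(q-1)` (`Matrix.card_GL_field`), `|θ₀.range| = q³`, and the index in `G` divides
  the index in `GL₃`.
* involutions: `g * g = ⟨0, t² z, t z, 0⟩`, so `g g = 1 ↔ t z = 0`; `⊤` is generated by them
  (`⟨t,x,y,z⟩ = ⟨0,x,y,z⟩ ⟨t,0,0,0⟩`), all elements of `AA K`, `QQ 0` are involutions.
* `hc`: `cj s u = u * ⟨0, s.t² u.z + u.t² s.z, s.t u.z + u.t s.z, 0⟩`; if `u.t = 0` or `u.z = 0` and the `y`-entry
  vanishes then so does the `x`-entry.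
* `Good g := ∃ φ, Mor F (PP θ₀ g) φ ∧ (∀ u ∈ PP θ₀ g, θ₀ (φ u) = cj g (θ₀ u)) ∧ ∀ x, φ (zx x) = zx ((det g)⁻¹ x)`.
  (G2) `Good g₁`, `Good g₂`, `PP (g₁ g₂) ≤ PP g₂` ⇒ `Good (g₁ g₂)`.  For upper triangular `b`: `PP b = ⊤` and
  `PP (b g) = PP g`.
  (G3) `b` upper triangular with `(det b)⁻¹ ∈ Δ` is good: for `f` with data `a b l m` of `top` the matrix
  `g_f = !![a b, p, 0; 0, b, r; 0,0,1]` (solve `p, r` from `l, m`) has `θ₀ (f u) = cj g_f (θ₀ u)`,
  `(det g_f)⁻¹ = (a b²)⁻¹ = a² b`; good upper triangular matrices form a group containing `θ₀(U)` (`φ = cj s`) and the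
  scalars (`φ = id`, `det = d³ = 1`).  Given `b` with diagonal `d₁,d₂,d₃`, `a = d₁/d₂`, `b' = d₂/d₃`, and `f₀` with scalar
  `a₀² b₀ = (det b)⁻¹ = a² b'`, compose `f₀` with `tor (a/a₀)` (its `top` data are `(a/a₀, a/a₀)`, scalar `1`) to get `f`
  with data `(a, b')`; then `b = d₃ • (θ₀ s) g_f`.
  (G4) `permGL (swap 0 1)` is good (`PP = AA K`, `φ` from `wA`), `permGL (swap 1 2)` is good (`PP = QQ 0`, `wQ`);
  `det = 1` in characteristic two; the other three permutations through reduced words and (G2)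
  (`(cj w (θ₀ u)) (σ i) (σ j) = θ₀ u i j`, `permGL_apply`; membership in `θ₀.range` = entries below the diagonal
  vanish and diagonal `1`).
  `ha`: `exists_bruhat_gl`: `g = b w b' = (b w D w⁻¹) w (D⁻¹ b')` with `D = diag(det b', 1, 1)`.
* `hd`: `PP g = ⊤`, or every element of `PP g` has `t z = 0`: with `g = b w b'`, `PP g = {u | cj b' u ∈ PP w}` and
  conjugation by `b'` multiplies `t`, `z` by units; for `w ≠ 1`, `PP w ≤ AA` or `≤ QQ 0`.
* `hb`: `gen` and `Chain` monotonicity (induction on the chain; check the constructors in FUS/Alperin):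
  `R = ⊤`: `g_f`; `R = AA K`: `g = !![a,b,0; c,d,0; 0,0,1]`; `R = QQ 0`: `g = !![1,0,0; 0,d',b'; 0,c',a']` acting on
  the row vector `(t,y)` by `(t,y) M⁻¹` with `M⁻¹ = !![d,b; c,a]`, i.e. `M = !![a,-b; -c,d]`.
-/

set_option autoImplicit false

namespace CL.S4F

open Subgroup Cfsg Cfsg.FusionSystem CL.Fus

namespace R2

open Matrix CL.GLn

variable {K : Type*} [Field K]

variable (K) in
/-- the Heisenberg quotient -/
def th : U K →* GL (Fin 3) K := MonoidHom.toHomUnits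
  { toFun := fun u => !![1, u.t, u.y; 0, 1, u.z; 0, 0, 1]
    map_one' := by ext i j; fin_cases i <;> fin_cases j <;> simp
    map_mul' := fun a b => by
      ext i j; fin_cases i <;> fin_cases j <;> simp [Matrix.mul_apply, Fin.sum_univ_three] <;> ring }

theorem th_val (u : U K) : (th K u : Matrix (Fin 3) (Fin 3) K) = !![1, u.t, u.y; 0, 1, u.z; 0, 0, 1] :=
  rfl

theorem th_eq {u v : U K} : th K u = th K v ↔ u.t = v.t ∧ u.y = v.y ∧ u.z = v.z := by
  refine ⟨fun e => ?_, fun e => Units.ext (by rw [th_val, th_val, e.1, e.2.1, e.2.2])⟩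
  have := congrArg Units.val e
  exact ⟨congrFun (congrFun this 0) 1, congrFun (congrFun this 0) 2, congrFun (congrFun this 1) 2⟩

theorem det_th (u : U K) : GeneralLinearGroup.det (th K u) = 1 :=
  Units.ext (by simp [th_val, det_fin_three])

theorem th_ker : (th K).ker = Zx K := by
  ext u
  rw [MonoidHom.mem_ker, ← map_one (th K), th_eq]; rfl

theorem cj_iff {g : GL (Fin 3) K} {u v : U K} :
    th K v = cj g (th K u) ↔ (g : Matrix (Fin 3) (Fin 3) K) * th K u = th K v * g := by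
  rw [cj_apply, eq_mul_inv_iff_mul_eq, eq_comm, Units.ext_iff]; rfl

theorem pp_of_mul {g h : GL (Fin 3) K} {u v : U K} (hu : u ∈ PP (th K) (g * h))
    (e : th K v = cj h (th K u)) : v ∈ PP (th K) g := by
  rw [mem_PP] at hu ⊢
  rwa [e, ← cj_mul]

theorem pp_perm {σ : Equiv.Perm (Fin 3)} {u : U K} (hu : u ∈ PP (th K) (permGL K σ)) {i j : Fin 3}
    (h : σ j < σ i) : (th K u : Matrix (Fin 3) (Fin 3) K) i j = 0 := by
  obtain ⟨v, e⟩ := mem_PP.1 hu
  have := congrFun (congrFun (cj_iff.1 e) (σ i)) j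
  simp only [Matrix.mul_apply, permGL_apply, EmbeddingLike.apply_eq_iff_eq, ite_mul, one_mul,
    zero_mul, mul_ite, mul_one, mul_zero, Finset.sum_ite_eq, Finset.sum_ite_eq', Finset.mem_univ,
    if_true] at this
  rw [this, th_val]
  generalize σ i = a at h
  generalize σ j = b at h
  fin_cases a <;> fin_cases b <;> simp_all

/-- upper triangular matrices -/
def ut (a p r d s e : K) (h : a * d * e ≠ 0) : GL (Fin 3) K :=
  GeneralLinearGroup.mkOfDetNeZero !![a, p, r; 0, d, s; 0, 0, e] (by simpa [det_fin_three] using h)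

theorem det_ut (a p r d s e : K) (h : a * d * e ≠ 0) :
    (GeneralLinearGroup.det (ut a p r d s e h) : K) = a * d * e := by
  simp [ut, det_fin_three]

theorem ut_cj {a p r d s e : K} (h : a * d * e ≠ 0) {u v : U K} :
    th K v = cj (ut a p r d s e h) (th K u) ↔ v.t * d = a * u.t ∧ v.z * e = d * u.z ∧
      v.t * s + v.y * e = a * u.y + p * u.z := by
  rw [cj_iff, th_val, th_val, show (ut a p r d s e h : Matrix (Fin 3) (Fin 3) K) =
    !![a, p, r; 0, d, s; 0, 0, e] from rfl]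
  constructor
  · intro e
    have e1 := congrFun (congrFun e 0) 1
    have e2 := congrFun (congrFun e 1) 2
    have e3 := congrFun (congrFun e 0) 2
    simp [Matrix.mul_apply, Fin.sum_univ_three] at e1 e2 e3
    exact ⟨by linear_combination -e1, by linear_combination -e2, by linear_combination -e3⟩
  · rintro ⟨e1, e2, e3⟩
    ext i j
    fin_cases i <;> fin_cases j <;> simp [Matrix.mul_apply, Fin.sum_univ_three]
    · linear_combination -e1
    · linear_combination -e3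
    · linear_combination -e2

theorem exists_ut {b : GL (Fin 3) K} (hb : b ∈ labelGL K fun i : Fin 3 => i.val) :
    ∃ a p r d s e h, b = ut a p r d s e h := by
  have e : (b : Matrix (Fin 3) (Fin 3) K) =
      !![b.1 0 0, b.1 0 1, b.1 0 2; 0, b.1 1 1, b.1 1 2; 0, 0, b.1 2 2] := by
    ext i j
    fin_cases i <;> fin_cases j <;> first | rfl | exact hb (by decide)
  have h := b.det_ne_zero
  rw [e] at h
  exact ⟨_, _, _, _, _, _, by simpa [det_fin_three] using h, Units.ext e⟩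

theorem ex_ut {b : GL (Fin 3) K} (hb : b ∈ labelGL K fun i : Fin 3 => i.val) (u : U K) :
    ∃ v, th K v = cj b (th K u) ∧ (v.t = 0 → u.t = 0) ∧ (v.z = 0 → u.z = 0) := by
  obtain ⟨a, p, r, d, s, e, h, rfl⟩ := exists_ut hb
  obtain ⟨⟨a0, d0⟩, e0⟩ : (a ≠ 0 ∧ d ≠ 0) ∧ e ≠ 0 := by simpa using h
  refine ⟨⟨a * u.t / d, 0, (a * u.y + p * u.z - a * u.t / d * s) / e, d * u.z / e⟩,
    (ut_cj h).2 ⟨by field_simp, by field_simp, by field_simp; ring⟩, ?_, ?_⟩ <;> simp [a0, d0, e0]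

theorem pp_ut {b : GL (Fin 3) K} (hb : b ∈ labelGL K fun i : Fin 3 => i.val) (u : U K) :
    u ∈ PP (th K) b := (ex_ut hb u).imp fun _ h => h.1

theorem pp_left {b g : GL (Fin 3) K} (hb : b ∈ labelGL K fun i : Fin 3 => i.val) :
    PP (th K) (b * g) ≤ PP (th K) g := fun u hu => by
  obtain ⟨v, e⟩ := mem_PP.1 hu
  have := mem_PP.1 (pp_ut (inv_mem hb) v)
  rwa [e, ← cj_mul, inv_mul_cancel_left] at this

theorem bruhat (g : GL (Fin 3) K) : ∃ b ∈ labelGL K fun i : Fin 3 => i.val,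
    ∃ b' ∈ labelGL K fun i : Fin 3 => i.val, ∃ σ, g = b * (permGL K σ * b') ∧
      GeneralLinearGroup.det b' = 1 := by
  obtain ⟨b, hb, b', hb', σ, rfl⟩ := exists_bruhat_gl g
  let D : (Fin 3 → Kˣ) → GL (Fin 3) K := fun d => GeneralLinearGroup.mkOfDetNeZero
    (diagonal fun i => (d i : K)) (by simp [Finset.prod_ne_zero_iff])
  have hD : ∀ d, D d ∈ labelGL K fun i : Fin 3 => i.val := fun d => blockTriangular_diagonal _
  let d : Fin 3 → Kˣ := ![GeneralLinearGroup.det b', 1, 1]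
  have e : D (d ∘ σ.symm) * permGL K σ = permGL K σ * D d := Units.ext (by
    ext i j
    change (diagonal _ * _ : Matrix _ _ K) i j = (_ * diagonal _ : Matrix _ _ K) i j
    rw [diagonal_mul, mul_diagonal, permGL_apply]
    split_ifs with h <;> simp [h])
  refine ⟨_, mul_mem hb (hD (d ∘ σ.symm)), _, mul_mem (inv_mem (hD d)) hb', σ, ?_, ?_⟩
  · rw [mul_assoc b (D _), ← mul_assoc (D _), e]; group
  · rw [map_mul, map_inv, inv_mul_eq_one]
    exact Units.ext (by simp [D, d, Fin.prod_univ_three])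

theorem sq_iff [CharP K 2] {u : U K} : u * u = 1 ↔ u.t * u.z = 0 := by
  refine ⟨fun e => ?_, fun e => ?_⟩
  · simpa [CharTwo.add_self_eq_zero] using congrArg U.y e
  · ext <;> simp [CharTwo.add_self_eq_zero, CharTwo.two_eq_zero, e, sq, mul_assoc]

theorem top_le [CharP K 2] {R : Subgroup (U K)} (h : ∀ u, u ∈ R) :
    R ≤ closure {u | u ∈ R ∧ u * u = 1} := fun u _ => by
  rw [show u = ⟨0, u.x, u.y, u.z⟩ * ⟨u.t, 0, 0, 0⟩ by ext <;> simp]
  exact mul_mem (subset_closure ⟨h _, sq_iff.2 (by simp)⟩) (subset_closure ⟨h _, sq_iff.2 (by simp)⟩)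

theorem hd [CharP K 2] (g : GL (Fin 3) K) :
    PP (th K) g ≤ closure {u | u ∈ PP (th K) g ∧ u * u = 1} := by
  obtain ⟨b, hb, b', hb', σ, rfl, -⟩ := bruhat g
  by_cases h : σ = 1
  · exact top_le (pp_ut (by simpa [h] using mul_mem hb hb'))
  refine fun u hu => subset_closure ⟨hu, sq_iff.2 ?_⟩
  obtain ⟨v, e, e1, e2⟩ := ex_ut hb' u
  have hv := pp_of_mul (pp_left hb hu) e
  rcases (by decide : ∀ σ : Equiv.Perm (Fin 3), ¬ σ = 1 → σ 1 < σ 0 ∨ σ 2 < σ 1) σ h with i | i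
  · rw [e1 (pp_perm hv i), zero_mul]
  · rw [e2 (pp_perm hv i), mul_zero]

theorem odd_index [Finite K] [CharP K 2] : Odd (th K).range.index := by
  have := Fintype.ofFinite K
  obtain ⟨n, -, h⟩ := FiniteField.card K 2
  have h1 := (th K).range.index_mul_card
  have h2 := (th K).ker.card_mul_index
  rw [index_ker, th_ker, ← jx_range, ← Nat.card_congr (MonoidHom.ofInjective
    (f := jx K) fun a b e => congrArg U.x e).toEquiv, card_U,
    show Nat.card (Multiplicative K) = Nat.card K from rfl] at h2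
  rw [card_GL_field, Fin.prod_univ_three] at h1
  rw [Nat.card_eq_fintype_card] at h2
  have ev : Even (Fintype.card K) := by rw [h]; exact (Nat.even_pow' n.ne_zero).2 even_two
  have pos : 0 < Fintype.card K := Fintype.card_pos
  generalize Fintype.card K = q at h1 h2 ev pos
  have h3 : Nat.card (th K).range = q ^ 3 := Nat.eq_of_mul_eq_mul_left pos (by rw [h2]; ring)
  have o : ∀ k, k ≠ 0 → Odd (q ^ k - 1) := fun k hk =>
    Nat.Even.sub_odd (Nat.one_le_pow _ _ pos) ((Nat.even_pow' hk).2 ev) odd_one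
  have h4 : (th K).range.index = (q ^ 3 - 1) * (q ^ 2 - 1) * (q ^ 1 - 1) := by
    refine Nat.eq_of_mul_eq_mul_right (pow_pos pos 3) ?_
    rw [← h3, h1, h3]
    simp only [Fin.val_zero, Fin.val_one, Fin.val_two, pow_zero, pow_one]
    rw [show q ^ 3 - q = q * (q ^ 2 - 1) by rw [Nat.mul_sub_one]; congr 1; ring,
      show q ^ 3 - q ^ 2 = q ^ 2 * (q - 1) by rw [Nat.mul_sub_one]; congr 1]
    ring
  rw [h4]
  exact ((o 3 (by simp)).mul (o 2 (by simp))).mul (o 1 (by simp))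

variable {F : FusionSystem (⊤ : Subgroup (U K))}

/-- conjugation by `g` is induced by a morphism -/
def Good (F : FusionSystem (⊤ : Subgroup (U K))) (g : GL (Fin 3) K) : Prop :=
  ∃ φ, Mor F (PP (th K) g) φ ∧ (∀ u ∈ PP (th K) g, th K (φ u) = cj g (th K u)) ∧
    ∀ x, φ (zx x) = zx (((GeneralLinearGroup.det g)⁻¹ : Kˣ) * x)

theorem Good.mul {g h : GL (Fin 3) K} (hg : Good F g) (hh : Good F h)
    (le : PP (th K) (g * h) ≤ PP (th K) h) : Good F (g * h) := by
  obtain ⟨φ, a1, a2, a3⟩ := hg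
  obtain ⟨ψ, b1, b2, b3⟩ := hh
  have m : ∀ u ∈ PP (th K) (g * h), ψ u ∈ PP (th K) g := fun u hu => pp_of_mul hu (b2 u (le hu))
  refine ⟨φ ∘ ψ, a1.comp (b1.mono le) m, fun u hu => ?_, fun x => ?_⟩
  · rw [Function.comp_apply, a2 _ (m u hu), b2 u (le hu), cj_mul]
  · rw [Function.comp_apply, b3, a3, map_mul, mul_inv, Units.val_mul, mul_assoc]

variable [Finite K] [CharP K 2] (h : NF F)

/-- the scalars induced on `Zx` -/
def Dl : Subgroup Kˣ where
  carrier := {c | ∃ f, Mor F ⊤ f ∧ ∀ x, f (zx x) = zx (c * x)}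
  one_mem' := ⟨id, mor_id F le_rfl, by simp⟩
  mul_mem' := fun ⟨f, a1, a2⟩ ⟨g, b1, b2⟩ => ⟨f ∘ g, a1.comp b1 fun _ _ => trivial, fun x => by
    rw [Function.comp_apply, b2, a2, Units.val_mul, mul_assoc]⟩
  inv_mem' := fun {c} ⟨f, a1, a2⟩ => ⟨f ∘ f, a1.comp a1 fun _ _ => trivial, fun x => by
    have := h.cube c c.ne_zero
    rw [Function.comp_apply, a2, a2, Units.val_inv_eq_inv_val, ← mul_assoc,
      inv_eq_of_mul_eq_one_right (show (c : K) * (c * c) = 1 by rw [← this]; ring)]⟩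

omit [Finite K] [CharP K 2] in
theorem exf {c : Kˣ} (hc : c ∈ Dl h) {α β : K} (α0 : α ≠ 0) (β0 : β ≠ 0) (e : (c : K) = α ^ 2 * β)
    (l m : K) : ∃ f, Mor F ⊤ f ∧ (∀ g, (f g).t = α * g.t ∧ (f g).z = β * g.z ∧
      (f g).y = α * β * g.y + l * g.z + m * g.t) ∧ ∀ x, f (zx x) = zx (c * x) := by
  obtain ⟨f, f1, f2⟩ := hc
  obtain ⟨a, b, l0, m0, a0, -, f3, f4⟩ := h.top f f1
  have e1 : α ^ 2 * β = a ^ 2 * b := by simpa [e] using congrArg U.x ((f2 1).symm.trans (f4 1))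
  obtain ⟨k, k1, k2⟩ := h.tor (α / a) (div_ne_zero α0 a0)
  obtain ⟨a', b', l', m', -, -, f5, f6⟩ := h.top _ (k1.comp f1 fun _ _ => trivial)
  obtain rfl : a' = α := by
    have := (f5 ⟨1, 0, 0, 0⟩).1
    rw [Function.comp_apply, (k2 (f ⟨1, 0, 0, 0⟩)).1, (f3 ⟨1, 0, 0, 0⟩).1] at this
    field_simp at this
    exact this.symm
  obtain rfl : b' = β := by
    have := (f5 ⟨0, 0, 0, 1⟩).2.1
    rw [Function.comp_apply, (k2 (f ⟨0, 0, 0, 1⟩)).2, (f3 ⟨0, 0, 0, 1⟩).2.1] at this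
    have c1 := h.cube a a0
    have c2 := h.cube a' α0
    field_simp at this
    linear_combination (-a ^ 2) * this - a' * e1 + β * c2 - b' * c1
  refine ⟨cj ⟨(l - l') / b', 0, 0, (m' - m) / a'⟩ ∘ k ∘ f,
    (mor_cj F le_rfl trivial).comp (k1.comp f1 fun _ _ => trivial) fun _ _ => trivial,
    fun g => ?_, fun x => ?_⟩
  · rw [Function.comp_apply, cj_t, cj_z, cj_y, (f5 g).1, (f5 g).2.1, (f5 g).2.2]
    refine ⟨rfl, rfl, ?_⟩
    field_simp
    ring
  · rw [Function.comp_apply, f6, e, cj_eq_self_iff.2 (mul_zx _ _)]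

theorem good_ut {b : GL (Fin 3) K} (hb : b ∈ labelGL K fun i : Fin 3 => i.val)
    (hd : GeneralLinearGroup.det b ∈ Dl h) : Good F b := by
  obtain ⟨a, p, r, d, s, e, h0, rfl⟩ := exists_ut hb
  obtain ⟨⟨a0, d0⟩, e0⟩ : (a ≠ 0 ∧ d ≠ 0) ∧ e ≠ 0 := by simpa using h0
  obtain ⟨f, f1, f2, f3⟩ := exf h (inv_mem hd) (div_ne_zero a0 d0) (div_ne_zero d0 e0) (by
    have := h.cube a a0
    rw [Units.val_inv_eq_inv_val, det_ut]
    field_simp
    exact this.symm) (p / e) (-(a * s) / (d * e))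
  refine ⟨f, f1.mono le_top, fun u _ => (ut_cj h0).2 ?_, f3⟩
  rw [(f2 u).1, (f2 u).2.1, (f2 u).2.2]
  exact ⟨by field_simp, by field_simp, by field_simp; ring⟩

omit [Finite K] in
theorem det_perm (σ : Equiv.Perm (Fin 3)) : GeneralLinearGroup.det (permGL K σ) = 1 :=
  Units.ext (by
    change (σ⁻¹.permMatrix K).det = 1
    rw [det_permutation]
    rcases Int.units_eq_one_or (Equiv.Perm.sign σ⁻¹) with e | e <;> rw [e] <;> simp [CharTwo.neg_eq])

include h in
theorem good_perm (σ : Equiv.Perm (Fin 3)) : Good F (permGL K σ) := by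
  obtain ⟨φ, a1, a2, a3⟩ := h.wA
  obtain ⟨ψ, b1, b2, b3⟩ := h.wQ
  have c1 : ∀ u ∈ AA K, th K (φ u) = cj (permGL K (Equiv.swap 0 1)) (th K u) := fun u hu =>
    cj_iff.2 (by
      ext i j
      fin_cases i <;> fin_cases j <;> simp [Matrix.mul_apply, Fin.sum_univ_three, permGL_apply,
        th_val, a3 u hu, mem_AA.1 hu, Equiv.swap_apply_def])
  have c2 : ∀ u ∈ QQ (0 : K), th K (ψ u) = cj (permGL K (Equiv.swap 1 2)) (th K u) := fun u hu =>
    cj_iff.2 (by
      ext i j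
      fin_cases i <;> fin_cases j <;> simp [Matrix.mul_apply, Fin.sum_univ_three, permGL_apply,
        th_val, b3 u hu, mem_QQ.1 hu, Equiv.swap_apply_def])
  have pA : ∀ {σ : Equiv.Perm (Fin 3)}, σ 1 < σ 0 → PP (th K) (permGL K σ) ≤ AA K :=
    fun i u hu => pp_perm hu i
  have pQ : ∀ {σ : Equiv.Perm (Fin 3)}, σ 2 < σ 1 → PP (th K) (permGL K σ) ≤ QQ 0 :=
    fun i u hu => (pp_perm hu i).trans (zero_mul _).symm
  have g1 : Good F (permGL K (Equiv.swap 0 1)) := ⟨φ, a1.mono (pA (by decide)),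
    fun u hu => c1 u (pA (by decide) hu), fun x => by simp [a2, det_perm]⟩
  have g2 : Good F (permGL K (Equiv.swap 1 2)) := ⟨ψ, b1.mono (pQ (by decide)),
    fun u hu => c2 u (pQ (by decide) hu), fun x => by simp [b2, det_perm]⟩
  have g3 := g1.mul g2 fun u hu => ⟨_, c2 u (by
    rw [← map_mul] at hu
    exact pQ (by decide) hu)⟩
  have g4 := g2.mul g1 fun u hu => ⟨_, c1 u (by
    rw [← map_mul] at hu
    exact pA (by decide) hu)⟩
  have g5 := g1.mul g4 fun u hu => ⟨1, by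
    rw [← map_mul, ← map_mul] at hu
    have : u ∈ (th K).ker := th_ker.ge ⟨pp_perm hu (i := 0) (j := 1) (by decide),
      pp_perm hu (i := 0) (j := 2) (by decide), pp_perm hu (i := 1) (j := 2) (by decide)⟩
    simp [MonoidHom.mem_ker.1 this]⟩
  simp only [← map_mul] at g3 g4 g5
  rcases (by revert σ; decide : σ = 1 ∨ σ = Equiv.swap 0 1 ∨ σ = Equiv.swap 1 2 ∨
    σ = Equiv.swap 0 1 * Equiv.swap 1 2 ∨ σ = Equiv.swap 1 2 * Equiv.swap 0 1 ∨
    σ = Equiv.swap 0 1 * (Equiv.swap 1 2 * Equiv.swap 0 1)) with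
    rfl | rfl | rfl | rfl | rfl | rfl
  exacts [good_ut h (by simp) (by simp), g1, g2, g3, g4, g5]

theorem good {g : GL (Fin 3) K} (hg : GeneralLinearGroup.det g ∈ Dl h) : Good F g := by
  obtain ⟨b, hb, b', hb', σ, rfl, e⟩ := bruhat g
  rw [map_mul, map_mul, det_perm, e, mul_one, mul_one] at hg
  exact (good_ut h hb hg).mul ((good_perm h σ).mul (good_ut h hb' (e ▸ one_mem _))
    fun u _ => pp_ut hb' u) (pp_left hb)

omit [Finite K] in
theorem gens {R : Subgroup (U K)} {ψ : U K → U K} (m : Mor F R ψ) (k : R = ⊤ ∨ (∀ x, ψ (zx x) = zx x) ∧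
    ∃ a b c d : K, a * d - b * c = 1 ∧
      ((R = AA K ∧ ∀ g ∈ AA K, (ψ g).t = 0 ∧ (ψ g).y = a * g.y + b * g.z ∧ (ψ g).z = c * g.y + d * g.z) ∨
       (R = QQ 0 ∧ ∀ g ∈ QQ (0 : K), (ψ g).z = 0 ∧ (ψ g).y = a * g.y + b * g.t ∧
        (ψ g).t = c * g.y + d * g.t))) :
    Zx K ≤ R ∧ R ≤ closure {u | u ∈ R ∧ u * u = 1} ∧ ∃ g : GL (Fin 3) K,
      GeneralLinearGroup.det g ∈ Dl h ∧ (∀ u ∈ R, th K (ψ u) = cj g (th K u)) ∧
        ∀ x, ψ (zx x) = zx (((GeneralLinearGroup.det g)⁻¹ : Kˣ) * x) := by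
  rcases k with rfl | ⟨k, a, b, c, d, e, ⟨rfl, k1⟩ | ⟨rfl, k1⟩⟩
  · obtain ⟨a, b, l, n, a0, b0, f3, f4⟩ := h.top ψ m
    have h0 : a * b * b * 1 ≠ 0 := by simp [a0, b0]
    have e : (((GeneralLinearGroup.det (ut (a * b) l 0 b (-n / a) 1 h0))⁻¹ : Kˣ) : K) = a ^ 2 * b := by
      have c1 := h.cube a a0
      have c2 := h.cube b b0
      rw [Units.val_inv_eq_inv_val, det_ut]
      exact inv_eq_of_mul_eq_one_right (by linear_combination b ^ 3 * c1 + c2)
    refine ⟨le_top, top_le fun _ => trivial, ut (a * b) l 0 b (-n / a) 1 h0,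
      inv_mem_iff.1 ⟨ψ, m, by rwa [e]⟩, fun u _ => (ut_cj h0).2 ?_, by rwa [e]⟩
    rw [(f3 u).1, (f3 u).2.1, (f3 u).2.2]
    exact ⟨by ring, by ring, by field_simp; ring⟩
  · let g : GL (Fin 3) K := GeneralLinearGroup.mkOfDetNeZero !![a, b, 0; c, d, 0; 0, 0, 1]
      (by simp [det_fin_three, e])
    have e1 : GeneralLinearGroup.det g = 1 := Units.ext (by simp [g, det_fin_three, e])
    refine ⟨Zx_le_BB.trans BB_le_AA, fun u hu => subset_closure ⟨hu, sq_iff.2 (by simp [mem_AA.1 hu])⟩,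
      g, e1 ▸ one_mem _, fun u hu => cj_iff.2 ?_, by simpa [e1] using k⟩
    ext i j
    fin_cases i <;> fin_cases j <;>
      simp [g, Matrix.mul_apply, Fin.sum_univ_three, th_val, k1 u hu, mem_AA.1 hu]
  · let g : GL (Fin 3) K := GeneralLinearGroup.mkOfDetNeZero !![1, 0, 0; 0, a, -b; 0, -c, d]
      (by simp [det_fin_three, e])
    have e1 : GeneralLinearGroup.det g = 1 := Units.ext (by simp [g, det_fin_three, e])
    refine ⟨Zx_le_BB.trans (BB_le_QQ 0),
      fun u hu => subset_closure ⟨hu, sq_iff.2 (by simp [mem_QQ.1 hu])⟩,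
      g, e1 ▸ one_mem _, fun u hu => cj_iff.2 ?_, by simpa [e1] using k⟩
    ext i j
    fin_cases i <;> fin_cases j <;>
      simp [g, Matrix.mul_apply, Fin.sum_univ_three, th_val, k1 u hu, mem_QQ.1 hu]
    · linear_combination -u.t * e
    · linear_combination -u.y * e

variable (K) in
/-- multiplication by a unit -/
def mu : Kˣ →* MulAut (Multiplicative K) := MonoidHom.mk' (fun c =>
  { toFun := fun x => .ofAdd (c * x.toAdd)
    invFun := fun x => .ofAdd ((c⁻¹ : Kˣ) * x.toAdd)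
    left_inv := fun x => by simp
    right_inv := fun x => by simp
    map_mul' := fun x y => by simp [mul_add] }) fun a b => by ext x; simp [mul_assoc]

end R2

open R2 Matrix in
theorem NF.realizable {K : Type*} [Field K] [Finite K] [CharP K 2] {F : FusionSystem (⊤ : Subgroup (U K))}
    (h : NF F) : F.IsRealizable 2 := by
  let G : Subgroup (GL (Fin 3) K) := (Dl h).comap GeneralLinearGroup.det
  let θ : U K →* G := (th K).codRestrict G fun u => by
    rw [mem_comap, det_th]; exact one_mem _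
  have e1 : θ.range = (th K).range.subgroupOf G := by
    ext g
    exact ⟨fun ⟨u, e⟩ => ⟨u, congrArg Subtype.val e⟩, fun ⟨u, e⟩ => ⟨u, Subtype.ext e⟩⟩
  have e2 : ∀ g : G, PP θ g = PP (th K) g := fun g => by
    ext u
    rw [mem_PP, mem_PP, e1]; rfl
  refine realizable_of_cover (isPGroup_U 2) h.sat θ (jx K)
    ((mu K).comp (invMonoidHom.comp (GeneralLinearGroup.det.comp G.subtype)))
    (fun a b e => congrArg U.x e) ?_ (fun c s => mul_zx s _)
    (fun c => congrArg Multiplicative.ofAdd (CharTwo.add_self_eq_zero c.toAdd)) ?_ (fun s => ?_)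
    (by rw [jx_range]; exact h.sc) (fun u s u1 e => ?_) (fun g => ?_) (fun g => e2 g ▸ hd g.1) fun P f hf => ?_
  · rw [MonoidHom.ker_codRestrict, th_ker, jx_range]
  · rw [e1]
    exact odd_index.of_dvd_nat (relIndex_dvd_index_of_le (by
      rintro _ ⟨u, rfl⟩
      exact (θ u).2))
  · change mu K (GeneralLinearGroup.det (th K s))⁻¹ = 1
    rw [det_th, inv_one, map_one]
  · have e3 := (th_eq.1 (congrArg Subtype.val e)).2.1
    rw [cj_y] at e3
    ext <;> simp only [cj_t, cj_x, cj_y, cj_z, e3, CharTwo.two_eq_zero, zero_mul, add_zero, sub_zero]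
    rcases mul_eq_zero.1 (sq_iff.1 u1) with i | i <;> rw [i] at e3 ⊢
    · linear_combination s.t * e3
    · linear_combination u.t * e3
  · obtain ⟨φ, a1, a2, a3⟩ := good h g.2
    exact ⟨φ, e2 g ▸ a1, fun u hu => Subtype.ext (a2 u (e2 g ▸ hu)), fun c => a3 c.toAdd⟩
  · have := h.gen P f hf
    clear hf
    induction this with
    | id e => exact .id e
    | step _ h2 h3 h4 ih =>
      obtain ⟨a1, a2, g, a3, a4, a5⟩ := gens h h2.1 h2.2
      exact .step ih ⟨h2.1, jx_range.le.trans a1, a2, ⟨g, a3⟩, fun u hu => Subtype.ext (a4 u hu),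
        fun c => a5 c.toAdd⟩ h3 h4

end CL.S4F
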