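import Cfsg.Agent.FUS.S4.Odd1
import Cfsg.Agent.FUS.S4.Pure2

/-! # Characteristic two: essential subgroups and automorphisms of `S` -/

set_option autoImplicit false

namespace CL.S4F

open Subgroup Cfsg Cfsg.FusionSystem CL.Fus CharTwo

theorem chain_imp {Ω : Type*} [Group Ω] {X Y : Subgroup Ω → (Ω → Ω) → Prop} (h : ∀ R g, X R g → Y R g)
    {P : Subgroup Ω} {f : Ω → Ω} (hf : Chain X P f) : Chain Y P f := by
  induction hf with
  | id e => exact .id e
  | step _ h2 h3 h4 ih => exact .step ih (h _ _ h2) h3 h4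

variable {K : Type*} [Field K] [CharP K 2]

theorem cj_of_mem_BB (s : U K) {g : U K} (h : g ∈ BB K) : cj s g = g :=
  cj_eq_iff.2 ⟨by simp [h.1, h.2], by simp [h.1, h.2, two_eq_zero]⟩

theorem QQ_comm {a b : U K} (ha : a ∈ QQ (0 : K)) (hb : b ∈ QQ (0 : K)) : a * b = b * a := by
  ext <;> simp [mem_QQ.1 ha, mem_QQ.1 hb, add_comm, two_eq_zero]

theorem mul_self_eq_one_iff {g : U K} : g * g = 1 ↔ g.t = 0 ∨ g.z = 0 := by
  refine ⟨fun h => mul_eq_zero.1 (by simpa using congrArg U.y h), fun h => ?_⟩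
  ext <;> rcases h with h | h <;> simp [h, two_eq_zero]

theorem comm_AA (w : U K) {g : U K} (hg : g ∈ AA K) : g⁻¹ * cj w g = ⟨0, w.t ^ 2 * g.z, w.t * g.z, 0⟩ := by
  ext <;> simp [mem_AA.1 hg, two_eq_zero]

theorem AA_ne_QQ : AA K ≠ QQ 0 := fun h => by
  simpa using h.le (show (⟨0, 0, 0, 1⟩ : U K) ∈ AA K from rfl)

variable {F : FusionSystem (⊤ : Subgroup (U K))} [Finite K]

theorem BB_le_of_centric {E : Subgroup (U K)} (hE : F.IsCentric E) : BB K ≤ E := fun z hz =>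
  centralizerIn_le_of_isCentric hE ⟨trivial, fun s _ => cj_eq_self_iff.1 (cj_of_mem_BB s hz)⟩

theorem not_autInv_BB (hF : F.IsSaturated 2) {E : Subgroup (U K)} (hE : F.IsEssential 2 E) :
    ∃ α ∈ F.autGroup E, ∃ b ∈ BB K, autFun α b ∉ BB K := by
  by_contra! h
  have hB : AutInv (F.autGroup E) (BB K) := fun α hα b _ hb => h α hα b hb
  have hS := isPGroup_top (K := K) 2
  refine (lt_of_essential hS hF hE).not_ge fun s _ => ?_
  have hn := mem_normalizer_of_BB_le (BB_le_of_centric hE.1) s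
  refine mem_of_chain hS (centralizerIn_le_of_isCentric hE.1) (isRadical_of_essential hS hF hE) trivial hn le_rfl
    (.tail (.single (Or.inl ⟨autInv_bot _, hB, fun y hy hyZ => ?_⟩))
      (Or.inl ⟨hB, autInv_of_le _ le_rfl, fun y hy _ => ?_⟩)) <;> rw [autFun_cjAut hn hy]
  · rw [cj_of_mem_BB s hyZ, inv_mul_cancel]; exact one_mem _
  · simp

theorem ess_two (hF : F.IsSaturated 2) {E : Subgroup (U K)} (hE : F.IsEssential 2 E) : E = AA K ∨ E = QQ 0 := by
  obtain ⟨α, hα, b, hb, hv⟩ := not_autInv_BB hF hE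
  have hbE := BB_le_of_centric hE.1 hb
  have hC := centralizerIn_le_of_isCentric hE.1
  have h1 : ∀ e ∈ E, e.t * (autFun α b).z = (autFun α b).t * e.z := fun e he => by
    refine (cj_eq_iff.1 ?_).1
    conv_lhs => rw [← autFun_autFun_inv α he, ← (isHomOn_autFun α).map_cj (autFun_mem _ he) hbE, cj_of_mem_BB _ hb]
  have h2 : (autFun α b).t = 0 ∨ (autFun α b).z = 0 := mul_self_eq_one_iff.1 (by
    rw [← isHomOn_autFun α hbE hbE, mul_self_eq_one_iff.2 (.inl hb.1), (isHomOn_autFun α).map_one])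
  by_cases ht : (autFun α b).t = 0
  · have : E ≤ AA K := fun e he =>
      (mul_eq_zero.1 ((h1 e he).trans (by rw [ht, zero_mul]))).resolve_right fun h => hv ⟨ht, h⟩
    exact .inl (le_antisymm this fun a ha => hC ⟨trivial, fun g hg => AA_comm (this hg) ha⟩)
  · have : E ≤ QQ 0 := fun e he => by
      simpa [h2.resolve_left ht, ht] using h1 e he
    exact .inr (le_antisymm this fun a ha => hC ⟨trivial, fun g hg => QQ_comm (this hg) ha⟩)

theorem p2_A (hF : F.IsSaturated 2) : P2 (fun u z => u ^ 2 * z) ((autInducedBy ⊤ (AA K)).map (toGA (eA K)))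
    ((F.autGroup (AA K)).map (toGA (eA K))) :=
  ⟨two_eq_zero (R := K) ▸ isTau_A, sylIn_GA hF BB_le_AA _, fun x y hx hy =>
    ⟨x / y, y ^ 2 / x, by field_simp, by field_simp⟩⟩

theorem p2_Q (hF : F.IsSaturated 2) : P2 (fun u t => u * t ^ 2) ((autInducedBy ⊤ (QQ (0 : K))).map (toGA (eQ K)))
    ((F.autGroup (QQ (0 : K))).map (toGA (eQ K))) :=
  ⟨isTau_Q, sylIn_GA hF (BB_le_QQ 0) _, fun x y hx hy => ⟨y ^ 2 / x, x / y, by field_simp, by field_simp⟩⟩

theorem ne_A (hF : F.IsSaturated 2) (hA : F.IsEssential 2 (AA K)) :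
    ∃ g ∈ (F.autGroup (AA K)).map (toGA (eA K)), ∃ x y, (g (x, y, 0)).2.2 ≠ 0 := by
  obtain ⟨α, hα, ⟨t, x, y, z⟩, ⟨rfl, rfl⟩, hv⟩ := not_autInv_BB hF hA
  exact ⟨_, ⟨α, hα, rfl⟩, x, y, by rw [toGA_eA]; exact fun h => hv ⟨autFun_mem α rfl, h⟩⟩

theorem ne_Q (hF : F.IsSaturated 2) (hQ : F.IsEssential 2 (QQ (0 : K))) :
    ∃ g ∈ (F.autGroup (QQ (0 : K))).map (toGA (eQ K)), ∃ x y, (g (x, y, 0)).2.2 ≠ 0 := by
  obtain ⟨α, hα, ⟨t, x, y, z⟩, ⟨rfl, rfl⟩, hv⟩ := not_autInv_BB hF hQ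
  exact ⟨_, ⟨α, hα, rfl⟩, x, y, by
    rw [toGA_eQ]
    exact fun h => hv ⟨h, by simpa using autFun_mem α (show (⟨0, x, y, 0⟩ : U K) ∈ QQ 0 by simp)⟩⟩

omit [Finite K] [CharP K 2] in
theorem hW_A {W : Subgroup (U K)} (hW : F.StronglyClosed W) (hWB : W ≤ BB K) {x : K} (hx : zx x ∈ W) :
    ∀ g ∈ (F.autGroup (AA K)).map (toGA (eA K)), (g (x, 0, 0)).2.2 = 0 := by
  rintro _ ⟨α, hα, rfl⟩
  rw [toGA_eA]
  exact (hWB (autInv_of_sc hW le_top α hα _ rfl hx)).2

omit [Finite K] in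
theorem hW_Q {W : Subgroup (U K)} (hW : F.StronglyClosed W) (hWB : W ≤ BB K) {x : K} (hx : zx x ∈ W) :
    ∀ g ∈ (F.autGroup (QQ (0 : K))).map (toGA (eQ K)), (g (x, 0, 0)).2.2 = 0 := by
  rintro _ ⟨α, hα, rfl⟩
  rw [toGA_eQ]
  exact (hWB (autInv_of_sc hW le_top α hα _ (BB_le_QQ 0 (hWB hx)) hx)).1

/-- no automorphism of `S` in `F` swaps the two essential subgroups -/
theorem top_AQ (hF : F.IsSaturated 2) (hA : F.IsEssential 2 (AA K)) (hQ : F.IsEssential 2 (QQ (0 : K)))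
    {f : U K → U K} (hf : Mor F ⊤ f) : img f (AA K) = AA K ∧ img f (QQ 0) = QQ 0 := by
  have hne : ∀ α ∈ F.autGroup ⊤, img (autFun α) (AA K) ≠ img (autFun α) (QQ 0) := fun α hα h => AA_ne_QQ
    (le_antisymm (((mor_autFun le_rfl hα).img_le_img_iff le_top le_top).1 h.le)
      (((mor_autFun le_rfl hα).img_le_img_iff le_top le_top).1 h.ge))
  have key : F.autGroup ⊤ ≤ F.autGroup ⊤ ⊓ stabAut ⊤ (AA K) := by
    refine le_of_sq (sylIn_inn_top (isPGroup_top 2) hF) (fun β hβ => ⟨inn_le_autGroup F le_rfl hβ, fun x hx => ?_⟩)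
      inf_le_left fun α hα => ⟨mul_mem hα hα, (mem_stabAut_iff_img le_top).2 ?_⟩
    · obtain ⟨s, -, e⟩ := mem_inn_iff.1 hβ
      rw [e hx]; simp
    · rw [img_congr (g := autFun α ∘ autFun α) fun x _ => autFun_mul α α trivial,
        ((isHomOn_autFun α).mono le_top).img_comp]
      rcases ess_two hF (essential_img_aut hα hA) with h | h
      · rw [h, h]
      · rw [h, (ess_two hF (essential_img_aut hα hQ)).resolve_right fun h' => hne α hα (h.trans h'.symm)]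
  obtain ⟨α, hα, e⟩ := hf.exists_aut hf.img_top
  have h1 := (mem_stabAut_iff_img le_top).1 (key hα).2
  rw [← img_congr (e.mono (le_top (a := AA K))), ← img_congr (e.mono (le_top (a := QQ 0)))]
  exact ⟨h1, (ess_two hF (essential_img_aut hα hQ)).resolve_left fun h' => hne α hα (h1.trans h'.symm)⟩

end CL.S4F
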