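import Cfsg.Agent.FUS.S4.Two1

/-! # Characteristic two: the normal form -/

set_option autoImplicit false

namespace CL.S4F

open Subgroup Cfsg Cfsg.FusionSystem CL.Fus CharTwo

variable {K : Type*} [Field K] [CharP K 2]

/-- the normalized situation -/
structure Hy (F : FusionSystem (⊤ : Subgroup (U K))) (x0 : K) : Prop where
  sat : F.IsSaturated 2
  essA : F.IsEssential 2 (AA K)
  essQ : F.IsEssential 2 (QQ (0 : K))
  ne : x0 ≠ 0
  wA : ∀ g ∈ (F.autGroup (AA K)).map (toGA (eA K)), (g (x0, 0, 0)).2.2 = 0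
  wQ : ∀ g ∈ (F.autGroup (QQ (0 : K))).map (toGA (eQ K)), (g (x0, 0, 0)).2.2 = 0
  vA : ∃ g ∈ (F.autGroup (AA K)).map (toGA (eA K)), ∀ x y, (g (x, y, 0)).2.1 = 0
  vQ : ∃ g ∈ (F.autGroup (QQ (0 : K))).map (toGA (eQ K)), ∀ x y, (g (x, y, 0)).2.1 = 0

omit [CharP K 2] in
theorem eta_A {g : U K} (hg : g ∈ AA K) : (⟨0, g.x, g.y, g.z⟩ : U K) = g := by ext <;> simp [mem_AA.1 hg]

omit [CharP K 2] in
theorem eta_Q {g : U K} (hg : g ∈ QQ (0 : K)) : (⟨g.t, g.x, g.y, 0⟩ : U K) = g := by ext <;> simp [mem_QQ.1 hg]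

omit [CharP K 2] in
theorem fix_A {α : MulAut (AA K)} (h : ∀ x, toGA (eA K) α (x, 0, 0) = (x, 0, 0)) (x : K) :
    autFun α (zx x) = zx x := by
  have := h x
  rw [toGA_eA] at this
  simp only [Prod.mk.injEq] at this
  exact U.ext (autFun_mem α (x := zx x) rfl) this.1 this.2.1 this.2.2

theorem fix_Q {α : MulAut (QQ (0 : K))} (h : ∀ x, toGA (eQ K) α (x, 0, 0) = (x, 0, 0)) (x : K) :
    autFun α (zx x) = zx x := by
  have := h x
  rw [toGA_eQ] at this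
  simp only [Prod.mk.injEq] at this
  exact U.ext this.2.2 this.1 this.2.1 (by simpa using autFun_mem α (x := zx x) (by simp))

omit [CharP K 2] in
theorem snd_A {α : MulAut (AA K)} {φ : K → K → K × K} (h : ∀ x y z, (toGA (eA K) α (x, y, z)).2 = φ y z) {g : U K}
    (hg : g ∈ AA K) : (autFun α g).t = 0 ∧ (autFun α g).y = (φ g.y g.z).1 ∧ (autFun α g).z = (φ g.y g.z).2 := by
  have := h g.x g.y g.z
  rw [toGA_eA, eta_A hg] at this
  exact ⟨autFun_mem α hg, congrArg Prod.fst this, congrArg Prod.snd this⟩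

theorem snd_Q {α : MulAut (QQ (0 : K))} {φ : K → K → K × K} (h : ∀ x y z, (toGA (eQ K) α (x, y, z)).2 = φ y z)
    {g : U K} (hg : g ∈ QQ (0 : K)) :
    (autFun α g).z = 0 ∧ (autFun α g).y = (φ g.y g.t).1 ∧ (autFun α g).t = (φ g.y g.t).2 := by
  have := h g.x g.y g.t
  rw [toGA_eQ, eta_Q hg] at this
  exact ⟨by simpa using autFun_mem α hg, congrArg Prod.fst this, congrArg Prod.snd this⟩

/-- automorphisms fixing the first axis and acting through `SL₂(K)` on the quotient -/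
def LinGA (K : Type*) [Field K] : Subgroup (GA K) where
  carrier := {g | (∀ x, g (x, 0, 0) = (x, 0, 0)) ∧ ∃ a b c d : K, a * d - b * c = 1 ∧
    ∀ x y z, (g (x, y, z)).2 = (a * y + b * z, c * y + d * z)}
  one_mem' := ⟨fun _ => rfl, 1, 0, 0, 1, by simp, by simp⟩
  mul_mem' := by
    rintro g h ⟨g1, a, b, c, d, e, g2⟩ ⟨h1, a', b', c', d', e', h2⟩
    refine ⟨fun x => by rw [LinearEquiv.mul_apply, h1, g1], a * a' + b * c', a * b' + b * d', c * a' + d * c',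
      c * b' + d * d', by linear_combination (a' * d' - b' * c') * e + e', fun x y z => ?_⟩
    rw [LinearEquiv.mul_apply, show h (x, y, z) = ((h (x, y, z)).1, (h (x, y, z)).2) from rfl, h2, g2]
    exact Prod.ext (by ring) (by ring)
  inv_mem' := by
    rintro g ⟨g1, a, b, c, d, e, g2⟩
    refine ⟨fun x => g.symm_apply_eq.2 (g1 x).symm, d, -b, -c, a, by linear_combination e, fun x y z => ?_⟩
    have h := g2 (g⁻¹ (x, y, z)).1 (g⁻¹ (x, y, z)).2.1 (g⁻¹ (x, y, z)).2.2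
    rw [show g ((g⁻¹ (x, y, z)).1, (g⁻¹ (x, y, z)).2.1, (g⁻¹ (x, y, z)).2.2) = (x, y, z) from g.apply_symm_apply _,
      Prod.mk.injEq] at h
    exact Prod.ext (by linear_combination -d * h.1 + b * h.2 - (g⁻¹ (x, y, z)).2.1 * e)
      (by linear_combination c * h.1 - a * h.2 - (g⁻¹ (x, y, z)).2.2 * e)

namespace Hy

variable {F : FusionSystem (⊤ : Subgroup (U K))} [Finite K] {x0 : K} (h : Hy F x0) {f : U K → U K}
include h

theorem invA : AutInv (F.autGroup (AA K)) (Zx K) := fun α hα g hg hz => by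
  have := (p2_A h.sat).axis_x h.ne h.wA (ne_A h.sat h.essA) ⟨α, hα, rfl⟩ g.x
  rw [toGA_eA, show (⟨0, g.x, 0, 0⟩ : U K) = g from (eq_zx hz).symm] at this
  exact ⟨autFun_mem α hg, congrArg Prod.fst this, congrArg Prod.snd this⟩

theorem invQ : AutInv (F.autGroup (QQ (0 : K))) (Zx K) := fun α hα g hg hz => by
  have := (p2_Q h.sat).axis_x h.ne h.wQ (ne_Q h.sat h.essQ) ⟨α, hα, rfl⟩ g.x
  rw [toGA_eQ, show (⟨0, g.x, 0, 0⟩ : U K) = g from (eq_zx hz).symm] at this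
  exact ⟨congrArg Prod.snd this, congrArg Prod.fst this, by simpa using autFun_mem α hg⟩

theorem topA (hf : Mor F ⊤ f) {g : U K} (hg : g.t = 0) : (f g).t = 0 :=
  (top_AQ h.sat h.essA h.essQ hf).1.le (mem_img_of_mem f hg)

theorem topQ (hf : Mor F ⊤ f) {g : U K} (hg : g.z = 0) : (f g).z = 0 := by
  simpa using (top_AQ h.sat h.essA h.essQ hf).2.le (mem_img_of_mem f (show g ∈ QQ 0 by simpa using hg))

theorem topZ (hf : Mor F ⊤ f) {g : U K} (hg : g ∈ Zx K) : f g ∈ Zx K := by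
  obtain ⟨α, hα, e⟩ := hf.exists_aut_restrict le_top (top_AQ h.sat h.essA h.essQ hf).1
  exact e hg.1 ▸ h.invA α hα g hg.1 hg

theorem sc : F.StronglyClosed (Zx K) := sc_of_normal (normal_of_autInv (isPGroup_top 2) h.sat fun R hR => by
  rcases hR with rfl | hR
  · exact ⟨le_top, fun α hα g _ hg => h.topZ (mor_autFun le_rfl hα) hg⟩
  rcases ess_two h.sat hR with rfl | rfl
  · exact ⟨fun _ hg => hg.1, h.invA⟩
  · exact ⟨Zx_le_BB.trans (BB_le_QQ 0), h.invQ⟩)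

theorem top_t (hf : Mor F ⊤ f) (g : U K) : (f g).t = (f ⟨g.t, 0, 0, 0⟩).t := by
  conv_lhs => rw [show g = ⟨0, g.x, g.y, g.z⟩ * ⟨g.t, 0, 0, 0⟩ by ext <;> simp, hf.map_mul trivial trivial]
  rw [mul_t, h.topA hf rfl, zero_add]

theorem top_z (hf : Mor F ⊤ f) (g : U K) : (f g).z = (f ⟨0, 0, 0, g.z⟩).z := by
  conv_lhs => rw [show g = ⟨0, 0, 0, g.z⟩ * ⟨g.t, g.x, g.y, 0⟩ by ext <;> simp, hf.map_mul trivial trivial]
  rw [mul_z, h.topQ hf (g := ⟨g.t, g.x, g.y, 0⟩) rfl, add_zero]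

theorem top_y (hf : Mor F ⊤ f) (g : U K) :
    (f g).y = (f ⟨0, 0, g.y, 0⟩).y + (f ⟨0, 0, 0, g.z⟩).y + (f ⟨g.t, 0, 0, 0⟩).y := by
  conv_lhs => rw [show g = zx g.x * ⟨0, 0, g.y, 0⟩ * ⟨0, 0, 0, g.z⟩ * ⟨g.t, 0, 0, 0⟩ by ext <;> simp,
    hf.map_mul trivial trivial, hf.map_mul trivial trivial, hf.map_mul trivial trivial]
  have := h.topZ hf (zx_mem g.x)
  simp [this.1, this.2.1, h.topA hf (g := ⟨0, 0, g.y, 0⟩) rfl, h.topA hf (g := ⟨0, 0, 0, g.z⟩) rfl]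

theorem top_comm (hf : Mor F ⊤ f) (t z : K) : f (zx (t ^ 2 * z)) * f ⟨0, 0, t * z, 0⟩ =
    ⟨0, (f ⟨t, 0, 0, 0⟩).t ^ 2 * (f ⟨0, 0, 0, z⟩).z, (f ⟨t, 0, 0, 0⟩).t * (f ⟨0, 0, 0, z⟩).z, 0⟩ := by
  rw [← comm_AA _ (h.topA hf rfl), ← hf.map_cj trivial trivial, ← hf.map_inv trivial, ← hf.map_mul trivial trivial,
    ← hf.map_mul trivial trivial, comm_AA _ (by rfl)]
  congr 1
  ext <;> simp

theorem top_d (hf : Mor F ⊤ f) (t z : K) :
    (f ⟨0, 0, t * z, 0⟩).y = (f ⟨t, 0, 0, 0⟩).t * (f ⟨0, 0, 0, z⟩).z := by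
  have := h.topZ hf (zx_mem (t ^ 2 * z))
  simpa [this.1, this.2.1] using congrArg U.y (h.top_comm hf t z)

theorem top_x (hf : Mor F ⊤ f) (t z : K) : (f (zx (t ^ 2 * z))).x + (f ⟨0, 0, t * z, 0⟩).x =
    (f ⟨t, 0, 0, 0⟩).t ^ 2 * (f ⟨0, 0, 0, z⟩).z := by
  have := h.topZ hf (zx_mem (t ^ 2 * z))
  simpa [this.1] using congrArg U.x (h.top_comm hf t z)

theorem exists_torus {a : K} (ha : a ≠ 0) : a ^ 3 = 1 ∧ ∃ f, Mor F ⊤ f ∧ ∀ g, (f g).t = a ^ 2 * g.t ∧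
    (f g).z = a⁻¹ * g.z := by
  obtain ⟨_, ⟨α, hα, rfl⟩, hn, h1, b, h2⟩ := (p2_A h.sat).torus h.ne h.wA h.vA ha
  obtain ⟨f, hf, e⟩ := exists_ext_top (isPGroup_top 2) h.sat h.essA.1 (fun s _ => mem_normalizer_of_BB_le BB_le_AA s)
    hα (mem_normalizer_of_cj_mem fun β hβ => by
      obtain ⟨γ, hγ, e⟩ := cj_mem_of_mem_normalizer hn ⟨β, hβ, rfl⟩
      rw [cj, ← map_inv, ← map_mul, ← map_mul] at e
      rw [cj, ← toGA_injective _ e]; exact hγ)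
  have hz : ∀ z, (f ⟨0, 0, 0, z⟩).z = a⁻¹ * z := fun z => by
    rw [e (x := ⟨0, 0, 0, z⟩) rfl]; exact (snd_A (φ := fun y z => (a * y + b * z, a⁻¹ * z)) h2 rfl).2.2
  have ht : ∀ t, (f ⟨t, 0, 0, 0⟩).t = a ^ 2 * t := fun t => by
    have := h.top_d hf t 1
    rw [hz, e (x := ⟨0, 0, t * 1, 0⟩) rfl, (snd_A (φ := fun y z => (a * y + b * z, a⁻¹ * z)) h2 rfl).2.1] at this
    simp only at this
    field_simp at this
    linear_combination -this
  refine ⟨?_, f, hf, fun g => ⟨by rw [h.top_t hf, ht], by rw [h.top_z hf, hz]⟩⟩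
  have k1 := h.top_x hf a 1
  have k2 := h.top_x hf 1 a
  rw [e (x := zx _) rfl, fix_A h1, ht, hz, zx_x] at k1 k2
  rw [mul_one] at k1
  rw [one_mul] at k2
  have k3 : (a ^ 3 - 1) * (a - 1) = 0 := mul_left_cancel₀ ha (by
    field_simp at k1 k2
    linear_combination k2 - k1)
  rcases mul_eq_zero.1 k3 with k | k
  · exact sub_eq_zero.1 k
  · rw [sub_eq_zero.1 k, one_pow]

theorem cube {a : K} (ha : a ≠ 0) : a ^ 3 = 1 := (h.exists_torus ha).1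

theorem top_ne (hf : Mor F ⊤ f) : (f ⟨1, 0, 0, 0⟩).t ≠ 0 ∧ (f ⟨0, 0, 0, 1⟩).z ≠ 0 := by
  refine mul_ne_zero_iff.1 fun e => ?_
  have h1 : f ⟨0, 0, 1 * 1, 0⟩ ∈ Zx K := ⟨h.topA hf rfl, (h.top_d hf 1 1).trans e, h.topQ hf rfl⟩
  simpa using (sc_map_mem_iff h.sc hf trivial).1 h1

theorem top_mul (hf : Mor F ⊤ f) (t s : K) :
    (f ⟨t * s, 0, 0, 0⟩).t * (f ⟨1, 0, 0, 0⟩).t = (f ⟨t, 0, 0, 0⟩).t * (f ⟨s, 0, 0, 0⟩).t := by
  have k1 := h.top_d hf (t * s) 1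
  have k2 := h.top_d hf s 1
  have k3 := h.top_d hf 1 s
  rw [mul_one] at k1 k2
  rw [one_mul] at k3
  exact mul_right_cancel₀ (h.top_ne hf).2 (by
    linear_combination (f ⟨1, 0, 0, 0⟩).t * (h.top_d hf t s - k1) + (f ⟨t, 0, 0, 0⟩).t * (k2 - k3))

omit [Finite K] h [CharP K 2] in
theorem top_add (hf : Mor F ⊤ f) (t s : K) : (f ⟨t + s, 0, 0, 0⟩).t = (f ⟨t, 0, 0, 0⟩).t + (f ⟨s, 0, 0, 0⟩).t := by
  rw [← mul_t, ← hf.map_mul trivial trivial]
  congr 2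
  ext <;> simp

theorem top_lin (hf : Mor F ⊤ f) : ∃ a, ∀ g, (f g).t = a * g.t := by
  let X : Subgroup (MulAut (⊤ : Subgroup (U K))) := F.autGroup ⊤ ⊓
    { carrier := {α | ∃ a : K, a ≠ 0 ∧ ∀ g, (autFun α g).t = a * g.t}
      one_mem' := ⟨1, one_ne_zero, fun g => by rw [autFun_one (mem_top g), one_mul]⟩
      mul_mem' := fun ⟨a, ha, e⟩ ⟨b, hb, e'⟩ => ⟨a * b, mul_ne_zero ha hb, fun g => by
        rw [autFun_mul _ _ (mem_top g), e, e', mul_assoc]⟩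
      inv_mem' := fun {α} ⟨a, ha, e⟩ => ⟨a⁻¹, inv_ne_zero ha, fun g => by
        rw [eq_inv_mul_iff_mul_eq₀ ha, ← e, autFun_autFun_inv α (mem_top g)]⟩ }
  have key : F.autGroup ⊤ ≤ X := by
    refine le_of_sq (sylIn_inn_top (isPGroup_top 2) h.sat) (fun β hβ => ⟨inn_le_autGroup F le_rfl hβ, 1, one_ne_zero,
      fun g => ?_⟩) inf_le_left fun α hα => ⟨mul_mem hα hα, ?_⟩
    · obtain ⟨s, -, e⟩ := mem_inn_iff.1 hβ
      rw [e trivial]; simp
    have hf := mor_autFun le_rfl hα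
    have h0 := (h.top_ne hf).1
    set a : K → K := fun t => (autFun α ⟨t, 0, 0, 0⟩).t with ha
    have hm : ∀ t s, a (t * s) * a 1 = a t * a s := h.top_mul hf
    have hadd : ∀ t s, a (t + s) = a t + a s := top_add hf
    have hz : a 0 = 0 := h.topA hf rfl
    have k : ∀ t, a (a t) = a (a 1) * t := fun t => by
      have k1 : a t = a 1 * t ∨ a t = a 1 * (t * t) := by
        by_cases t0 : t = 0
        · simp [t0, hz]
        by_cases t1 : t = 1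
        · simp [t1]
        have e1 : t * t + t = 1 := mul_left_cancel₀ (sub_ne_zero.2 t1) (by
          linear_combination h.cube t0 - (t - 1) * two_eq_zero (R := K))
        have e2 := hadd (t * t) t
        rw [e1] at e2
        refine (mul_eq_zero.1 (show (a t - a 1 * t) * (a t - a 1 * (t * t)) = 0 from ?_)).imp sub_eq_zero.1 sub_eq_zero.1
        linear_combination -hm t t - a 1 * e2 - a t * a 1 * e1 + a 1 ^ 2 * h.cube t0 +
          (a 1 ^ 2 - a t * a 1) * two_eq_zero (R := K)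
      refine mul_right_cancel₀ h0 ?_
      rcases k1 with k1 | k1
      · rw [k1, hm, k1]; ring
      · have k2 : a (t * t) = a 1 * t := mul_right_cancel₀ h0 (by
          rw [hm, k1]
          by_cases t0 : t = 0
          · simp [t0]
          · linear_combination a 1 ^ 2 * t * h.cube t0)
        rw [k1, hm, k2]; ring
    refine ⟨a (a 1), fun e => h0 ?_, fun g => ?_⟩
    · have := hm (a 1) (a 1)⁻¹
      rw [e, mul_inv_cancel₀ h0, zero_mul] at this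
      exact mul_self_eq_zero.1 this
    · rw [autFun_mul _ _ (mem_top g), h.top_t hf, h.top_t hf g]
      exact k g.t
  obtain ⟨α, hα, e⟩ := hf.exists_aut hf.img_top
  obtain ⟨a, -, e'⟩ := (key hα).2
  exact ⟨a, fun g => by rw [← e trivial, e']⟩

theorem top (hf : Mor F ⊤ f) : ∃ a b l m : K, a ≠ 0 ∧ b ≠ 0 ∧ (∀ g, (f g).t = a * g.t ∧ (f g).z = b * g.z ∧
    (f g).y = a * b * g.y + l * g.z + m * g.t) ∧ ∀ x, f (zx x) = zx (a ^ 2 * b * x) := by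
  obtain ⟨a, ha⟩ := h.top_lin hf
  have h0 := h.top_ne hf
  rw [ha, mul_one] at h0
  set b := (f ⟨0, 0, 0, 1⟩).z with hb
  have hd : ∀ y, (f ⟨0, 0, y, 0⟩).y = a * b * y := fun y => by
    have := h.top_d hf y 1
    rw [mul_one, ha] at this
    linear_combination this
  have hz : ∀ z, (f ⟨0, 0, 0, z⟩).z = b * z := fun z => mul_left_cancel₀ h0.1 (by
    have := h.top_d hf 1 z
    rw [one_mul, ha, hd] at this
    linear_combination -this)
  have hl : ∀ z, (f ⟨0, 0, 0, z⟩).y = (f ⟨0, 0, 0, 1⟩).y * z := fun z => by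
    obtain ⟨α, hα, e⟩ := hf.exists_aut_restrict le_top (top_AQ h.sat h.essA h.essQ hf).1
    obtain ⟨c, hc⟩ := (p2_A h.sat).lines h.ne h.wA h.vA ⟨α, hα, rfl⟩ 0 1 z
    rw [toGA_eA, toGA_eA, mul_zero, mul_one, e (x := ⟨0, 0, 0, z⟩) rfl, e (x := ⟨0, 0, 0, 1⟩) rfl, hz, ← hb,
      Prod.smul_mk, Prod.mk.injEq, smul_eq_mul, smul_eq_mul, mul_comm c b] at hc
    rw [hc.1, mul_left_cancel₀ h0.2 hc.2, mul_comm]
  have hm : ∀ t, (f ⟨t, 0, 0, 0⟩).y = (f ⟨1, 0, 0, 0⟩).y * t := fun t => by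
    obtain ⟨α, hα, e⟩ := hf.exists_aut_restrict le_top (top_AQ h.sat h.essA h.essQ hf).2
    obtain ⟨c, hc⟩ := (p2_Q h.sat).lines h.ne h.wQ h.vQ ⟨α, hα, rfl⟩ 0 1 t
    rw [toGA_eQ, toGA_eQ, mul_zero, mul_one, e (x := ⟨t, 0, 0, 0⟩) (by simp), e (x := ⟨1, 0, 0, 0⟩) (by simp), ha, ha,
      Prod.smul_mk, Prod.mk.injEq, smul_eq_mul, smul_eq_mul, mul_one, mul_comm c a] at hc
    rw [hc.1, ← mul_left_cancel₀ h0.1 hc.2, mul_comm]
  refine ⟨a, b, (f ⟨0, 0, 0, 1⟩).y, (f ⟨1, 0, 0, 0⟩).y, h0.1, h0.2, fun g => ⟨ha g, by rw [h.top_z hf, hz],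
    by rw [h.top_y hf, hd, hl, hm]⟩, fun x => ?_⟩
  have k : ∀ t ≠ 0, (f (zx t)).x + (f ⟨0, 0, 1, 0⟩).x = a ^ 2 * b * t := fun t ht => by
    have := h.top_x hf t t⁻¹
    rw [ha, hz, mul_inv_cancel₀ ht, pow_two, mul_assoc, mul_inv_cancel₀ ht, mul_one] at this
    rw [this]; field_simp
  have k0 : (f ⟨0, 0, 1, 0⟩).x = 0 := by
    by_cases hK : ∀ t : K, t ≠ 0 → t = 1
    · have k1 := k 1 one_ne_zero
      have k2 : (f (zx 1)).x ≠ 0 := fun e => one_ne_zero (congrArg U.x ((hf.eq_one_iff (x := zx 1) trivial).1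
        (by rw [eq_zx (h.topZ hf (zx_mem 1)), e]; rfl)))
      rw [hK _ k2, hK _ h0.1, hK _ h0.2] at k1
      linear_combination k1
    · push Not at hK
      obtain ⟨t, t0, t1⟩ := hK
      have k1 := k (t + 1) fun e => t1 (by linear_combination e - two_eq_zero (R := K))
      have := h.topZ hf (zx_mem t)
      rw [show zx (t + 1) = zx t * zx 1 by ext <;> simp, hf.map_mul trivial trivial, mul_x, this.1] at k1
      linear_combination k t t0 + k 1 one_ne_zero - k1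
  rw [eq_zx (h.topZ hf (zx_mem x))]
  by_cases hx : x = 0
  · rw [hx, show zx (0 : K) = 1 from rfl, hf.map_one, mul_zero]; rfl
  · rw [← k x hx, k0, add_zero]

theorem nf : NF F := by
  refine ⟨h.sat, fun a ha => h.cube ha, h.sc, fun f hf => h.top hf, fun a ha => ?_, ?_, ?_, fun P f hf => ?_⟩
  · obtain ⟨f, hf, e⟩ := (h.exists_torus (pow_ne_zero 2 ha)).2
    refine ⟨f, hf, fun g => ⟨by rw [(e g).1]; linear_combination a * g.t * h.cube ha, ?_⟩⟩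
    rw [(e g).2, show (a ^ 2)⁻¹ = a from inv_eq_of_mul_eq_one_right (by rw [← pow_succ, h.cube ha])]
  · obtain ⟨_, ⟨α, hα, rfl⟩, h1, h2⟩ := (p2_A h.sat).weyl h.ne h.wA h.vA
    exact ⟨_, mor_autFun le_top hα, fix_A h1, fun g hg => snd_A (φ := fun y z => (z, y)) h2 hg⟩
  · obtain ⟨_, ⟨α, hα, rfl⟩, h1, h2⟩ := (p2_Q h.sat).weyl h.ne h.wQ h.vQ
    exact ⟨_, mor_autFun le_top hα, fix_Q h1, fun g hg => snd_Q (φ := fun y z => (z, y)) h2 hg⟩
  refine chain_imp ?_ (chain_ncl (isPGroup_top 2) h.sat hf)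
  rintro R ψ (⟨rfl, hψ⟩ | ⟨hR, β, hβ, rfl⟩)
  · exact ⟨hψ, .inl rfl⟩
  have h1 : ncl (autInducedBy ⊤ R) (F.autGroup R) ≤ F.autGroup R := (closure_le _).2 (by
    rintro _ ⟨δ, hδ, β, hβ, rfl⟩
    exact mul_mem (mul_mem hδ (autInducedBy_le_autGroup F le_top hβ)) (inv_mem hδ))
  refine ⟨mor_autFun le_top (h1 hβ), .inr ?_⟩
  rcases ess_two h.sat hR with rfl | rfl
  · obtain ⟨k1, a, b, c, d, e, k2⟩ := (show _ ≤ (LinGA K).comap (toGA (eA K)) from (closure_le _).2 (by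
      rintro _ ⟨δ, hδ, β, hβ, rfl⟩
      change toGA _ _ ∈ LinGA K
      rw [map_mul, map_mul, map_inv]
      exact (p2_A h.sat).conj_lin h.ne h.wA h.vA ⟨δ, hδ, rfl⟩ ⟨β, hβ, rfl⟩)) hβ
    exact ⟨fix_A k1, a, b, c, d, e, .inl ⟨rfl, fun g hg => snd_A (φ := fun y z => (a * y + b * z, c * y + d * z)) k2 hg⟩⟩
  · obtain ⟨k1, a, b, c, d, e, k2⟩ := (show _ ≤ (LinGA K).comap (toGA (eQ K)) from (closure_le _).2 (by
      rintro _ ⟨δ, hδ, β, hβ, rfl⟩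
      change toGA _ _ ∈ LinGA K
      rw [map_mul, map_mul, map_inv]
      exact (p2_Q h.sat).conj_lin h.ne h.wQ h.vQ ⟨δ, hδ, rfl⟩ ⟨β, hβ, rfl⟩)) hβ
    exact ⟨fix_Q k1, a, b, c, d, e, .inr ⟨rfl, fun g hg => snd_Q (φ := fun y z => (a * y + b * z, c * y + d * z)) k2 hg⟩⟩

end Hy

end CL.S4F
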