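import Cfsg.Agent.FUS.S4.Two2
import Cfsg.Agent.FUS.S4.Real2

/-! # Characteristic two: reduction to the normal form -/

set_option autoImplicit false

namespace CL.S4F

open Subgroup Cfsg Cfsg.FusionSystem CL.Fus CharTwo

variable {K : Type*} [Field K] [CharP K 2]

/-- central automorphisms -/
def shear (l m : K →+ K) (g : U K) : U K := ⟨g.t, g.x, g.y + l g.z + m g.t, g.z⟩

theorem shear_shear (l m : K →+ K) (g : U K) : shear l m (shear l m g) = g := by
  ext <;> simp [shear]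
  linear_combination (l g.z + m g.t) * two_eq_zero (R := K)

theorem isoOn_shear (l m : K →+ K) : IsoOn ⊤ ⊤ (shear l m) (shear l m) :=
  ⟨fun a _ b _ => by ext <;> simp [shear]; ring, fun _ _ => trivial, fun _ _ => trivial,
    fun g _ => shear_shear l m g, fun g _ => shear_shear l m g⟩

/-- the graph automorphism -/
def graph (K : Type*) [Field K] [CharP K 2] : U K →* U K := MonoidHom.mk'
  (fun g => ⟨g.z, g.y ^ 2 + g.z ^ 2 * g.t ^ 2, g.x + g.z * g.t ^ 2, g.t ^ 2⟩) fun a b => by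
    ext <;> simp [CharTwo.add_sq, mul_pow]
    · linear_combination (a.t ^ 2 * b.z ^ 2) * two_eq_zero (R := K)
    · linear_combination (a.t ^ 2 * b.z) * two_eq_zero (R := K)

theorem graph_injective : Function.Injective (graph K) := (injective_iff_map_eq_one _).2 fun g hg => by
  have h1 : g.z = 0 := congrArg U.t hg
  have h2 : g.t = 0 := pow_eq_zero_iff two_ne_zero |>.1 (congrArg U.z hg)
  have h3 : g.x = 0 := by simpa [graph, h1] using congrArg U.y hg
  have h4 : g.y = 0 := by simpa [graph, h1] using congrArg U.x hg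
  ext <;> assumption

variable {F : FusionSystem (⊤ : Subgroup (U K))} [Finite K]

theorem both (hF : F.IsSaturated 2) (h : ∃ R R', F.IsEssential 2 R ∧ F.IsEssential 2 R' ∧ R ≠ R') :
    F.IsEssential 2 (AA K) ∧ F.IsEssential 2 (QQ (0 : K)) := by
  obtain ⟨R, R', hR, hR', hne⟩ := h
  rcases ess_two hF hR with rfl | rfl <;> rcases ess_two hF hR' with rfl | rfl
  exacts [absurd rfl hne, ⟨hR, hR'⟩, ⟨hR', hR⟩, absurd rfl hne]

theorem both_corr {F' : FusionSystem (⊤ : Subgroup (U K))} {e e' : U K → U K} (hc : Corr e e' F F')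
    (hF : F.IsSaturated 2) (hA : F.IsEssential 2 (AA K)) (hQ : F.IsEssential 2 (QQ (0 : K))) :
    F'.IsEssential 2 (AA K) ∧ F'.IsEssential 2 (QQ (0 : K)) :=
  both (hc.isSaturated hF) ⟨_, _, hc.isEssential hA, hc.isEssential hQ, fun e => AA_ne_QQ
    ((hc.iso.img_img le_top).symm.trans (e ▸ hc.iso.img_img le_top))⟩

theorem core_le_BB (hF : F.IsSaturated 2) (hA : F.IsEssential 2 (AA K)) (hQ : F.IsEssential 2 (QQ (0 : K))) :
    F.core ≤ BB K := fun _ hg =>
  ⟨le_of_normal_of_essential (isPGroup_top 2) hF (core_normal F) (.inr hA) hg,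
    by simpa using le_of_normal_of_essential (isPGroup_top 2) hF (core_normal F) (.inr hQ) hg⟩

theorem realizable_x (hF : F.IsSaturated 2) (hA : F.IsEssential 2 (AA K)) (hQ : F.IsEssential 2 (QQ (0 : K)))
    {x0 : K} (h0 : x0 ≠ 0) (hx : zx x0 ∈ F.core) : F.IsRealizable 2 := by
  have hW := sc_of_normal (core_normal F)
  have hWB := core_le_BB hF hA hQ
  obtain ⟨l, _, ⟨α, hα, rfl⟩, hl⟩ := (p2_A hF).exists_shear h0 (hW_A hW hWB hx) (ne_A hF hA)
  obtain ⟨m, _, ⟨β, hβ, rfl⟩, hm⟩ := (p2_Q hF).exists_shear h0 (hW_Q hW hWB hx) (ne_Q hF hQ)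
  obtain ⟨F', hc⟩ := (isoOn_shear l m).exists_corr F
  have hF' := hc.isSaturated hF
  obtain ⟨hA', hQ'⟩ := both_corr hc hF hA hQ
  have hx' : zx x0 ∈ F'.core := by
    have := mem_img_of_mem (shear l m) hx
    rwa [← hc.core, show shear l m (zx x0) = zx x0 by ext <;> simp [shear]] at this
  have hW' := sc_of_normal (core_normal F')
  have hWB' := core_le_BB hF' hA' hQ'
  have key : ∀ {P : Subgroup (U K)}, (∀ g ∈ P, shear l m g ∈ P) → ∀ α ∈ F.autGroup P, ∃ α' ∈ F'.autGroup P,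
      ∀ g ∈ P, autFun α' g = shear l m (autFun α (shear l m g)) := fun {P} hP α hα => by
    have h1 := (hc.mor (mor_autFun le_top hα)).mono (Q := P) fun g hg =>
      shear_shear l m g ▸ mem_img_of_mem (shear l m) (hP g hg)
    exact h1.exists_aut (h1.img_eq_self fun g hg => hP _ (autFun_mem α (hP g hg)))
  have hB : ∀ x y, shear l m ⟨0, x, y, 0⟩ = ⟨0, x, y, 0⟩ := fun x y => by simp [shear]
  refine hc.symm.isRealizable (Hy.nf (x0 := x0)
    ⟨hF', hA', hQ', h0, hW_A hW' hWB' hx', hW_Q hW' hWB' hx', ?_, ?_⟩).realizable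
  · obtain ⟨α', hα', e⟩ := key (fun _ hg => hg) α hα
    refine ⟨_, ⟨α', hα', rfl⟩, fun x y => ?_⟩
    have := hl x y
    rw [toGA_eA] at this ⊢
    rw [e _ rfl, hB]
    simp only at this
    simp [shear, this, mem_AA.1 (autFun_mem α (x := ⟨0, x, y, 0⟩) rfl)]
  · obtain ⟨β', hβ', e⟩ := key (fun _ hg => hg) β hβ
    refine ⟨_, ⟨β', hβ', rfl⟩, fun x y => ?_⟩
    have := hm x y
    rw [toGA_eQ] at this ⊢
    rw [e _ (by simp), hB]
    simp only at this
    simp [shear, this, mem_QQ.1 (autFun_mem β (x := ⟨0, x, y, 0⟩) (by simp))]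

theorem realizable_two (hF : F.IsSaturated 2) (hc : F.core ≠ ⊥) : F.IsRealizable 2 := by
  by_cases h : ∃ R R', F.IsEssential 2 R ∧ F.IsEssential 2 R' ∧ R ≠ R'
  swap
  · refine realizable_of_constrained (isPGroup_top 2) (constrained_of_unique (isPGroup_top 2) hF fun R R' hR hR' => ?_)
    by_contra hne
    exact h ⟨R, R', hR, hR', hne⟩
  obtain ⟨hA, hQ⟩ := both hF h
  have hWB := core_le_BB hF hA hQ
  obtain ⟨⟨⟨t, x, y, z⟩, hw⟩, hw1⟩ := ne_bot_iff_exists_ne_one.1 hc
  obtain ⟨rfl, rfl⟩ : t = 0 ∧ z = 0 := hWB hw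
  by_cases hy : y = 0
  · subst hy
    exact realizable_x hF hA hQ (fun e => hw1 (Subtype.ext (by subst e; rfl))) hw
  obtain ⟨_, ⟨α, hα, rfl⟩, hne⟩ := ne_A hF hA
  obtain rfl := ((p2_A hF).axis ⟨α, hα, rfl⟩ hne (x := x) (y := y) (by
    rw [← map_inv, toGA_eA]
    exact (hWB (autInv_of_sc (sc_of_normal (core_normal F)) le_top _ (inv_mem hα) _ rfl hw)).2)).resolve_right hy
  let φ := MulEquiv.ofBijective (graph K) (Finite.injective_iff_bijective.1 graph_injective)
  have hi : IsoOn ⊤ ⊤ φ φ.symm := ⟨fun a _ b _ => map_mul φ a b, fun _ _ => trivial, fun _ _ => trivial,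
    fun g _ => φ.symm_apply_apply g, fun g _ => φ.apply_symm_apply g⟩
  obtain ⟨F', hc⟩ := hi.exists_corr F
  obtain ⟨hA', hQ'⟩ := both_corr hc hF hA hQ
  refine hc.symm.isRealizable (realizable_x (hc.isSaturated hF) hA' hQ' (pow_ne_zero 2 hy) ?_)
  have := mem_img_of_mem φ hw
  rwa [← hc.core, show φ ⟨0, 0, y, 0⟩ = zx (y ^ 2) by ext <;> simp [φ, graph]] at this

end CL.S4F
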